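import Cfsg.Agent.H978.Alm.Affine_m3
import Cfsg.Agent.H698.FinePR
import Cfsg.Agent.H487.SchurMult
import Mathlib
import Cfsg.Agent.H912.CrossList_m3
import Cfsg.Agent.S0280
import Cfsg.Agent.S0283
import Cfsg.Agent.S0815
import Cfsg.Agent.S2089
import Cfsg.Agent.Prune
set_option linter.all false

section
prune_inst 0x7f00000000000000000000000000000000000000000000000000000000000000000000000000000000000000000000000000000000000000000000000000000000000000000000000000000000000000003fffffffffffffffffffffffffffbeffbdffffffff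

-- part: H223/Bnd/Base
section
set_option linter.all false
open scoped Cfsg.Agent.FastGrp

/-!
# S4790, T8: the numerical bound for simple groups (helper223)

`Bn T`: `|Aut T| ≤ 6 p ^ (m - 1)` for `p ≥ 23` and all projective representations of dimension `m ≥ 3` in coprime
characteristic `p`.  The criteria have the same hypotheses as those of `H698.Fine`.
-/

set_option autoImplicit false

namespace Cfsg.Agent.H223.Bnd

open Cfsg.Agent.H698

universe u u' v w

/-- the bound -/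
def Bn (T : Type u) [Group T] : Prop :=
  ∀ p m : ℕ, p.Prime → 23 ≤ p → ¬ p ∣ Nat.card T → 3 ≤ m → Rep.{u, w} p m T →
    Nat.card (MulAut T) ≤ 6 * p ^ (m - 1)

/-- the numerical step -/
theorem le_of_mul_lt {p m a c : ℕ} (hc : p ≤ 6 * c) (hm : 3 ≤ m) (h : c * a + 1 < p ^ m) :
    a ≤ 6 * p ^ (m - 1) := by
  by_contra hlt
  obtain ⟨v, rfl⟩ : ∃ v, m = v + 1 := ⟨m - 1, by omega⟩
  simp only [Nat.add_sub_cancel] at hlt
  have h1 : p ^ (v + 1) ≤ c * a := by
    calc p ^ (v + 1) = p * p ^ v := pow_succ' _ _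
      _ ≤ (6 * c) * p ^ v := Nat.mul_le_mul_right _ hc
      _ = c * (6 * p ^ v) := by ring
      _ ≤ c * a := Nat.mul_le_mul_left _ (by omega)
  omega

theorem Bn.congr {T : Type u} {T' : Type u'} [Group T] [Group T'] (h : Bn.{u, w} T) (e : T ≃* T') :
    Bn.{u', w} T' := by
  intro p m hp h23 hpT hm hR
  have hc : Nat.card T' = Nat.card T := Nat.card_congr e.symm.toEquiv
  have hA : Nat.card (MulAut T') = Nat.card (MulAut T) := Nat.card_congr (autCongr e.symm).toEquiv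
  rw [hA]
  exact h p m hp h23 (by rwa [hc] at hpT) hm (hR.congr e.symm)

section

variable {T : Type u} [Group T] [Finite T]

theorem Bn.of_le {k : ℕ} (hk : k ≤ 19)
    (h : ∀ p m : ℕ, p.Prime → 11 ≤ p → ¬ p ∣ Nat.card T → 3 ≤ m → Rep.{u, w} p m T →
      (p - k) * Nat.card (MulAut T) + 1 < p ^ m) : Bn.{u, w} T := by
  intro p m hp h23 hpT hm hR
  exact le_of_mul_lt (by omega) hm (h p m hp (by omega) hpT hm hR)

theorem Bn.of_classes {k : ℕ}
    (_ : ∀ X : Subgroup (MulAut T), (MulAut.conj : T →* MulAut T).range ≤ X → k ≤ Nat.card (ConjClasses X))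
    (h : ∀ p m : ℕ, p.Prime → 11 ≤ p → ¬ p ∣ Nat.card T → 3 ≤ m → Rep.{u, w} p m T →
      (p + 1 - 2 * k) * Nat.card (MulAut T) + 1 < p ^ m) (hk : k ≤ 10 := by norm_num) : Bn.{u, w} T := by
  intro p m hp h23 hpT hm hR
  exact le_of_mul_lt (by omega) hm (h p m hp (by omega) hpT hm hR)

theorem Bn.of_lt (_ : Subgroup.center T = ⊥) (_ : 1 < Nat.card T)
    (h : ∀ p m : ℕ, p.Prime → 11 ≤ p → ¬ p ∣ Nat.card T → 3 ≤ m → Rep.{u, w} p m T →
      (p - 3) * Nat.card (MulAut T) + 1 < p ^ m) : Bn.{u, w} T := Bn.of_le (by norm_num) h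

theorem Bn.of_lt5 (_ : Subgroup.center T = ⊥) (_ : 42 < Nat.card T)
    (h : ∀ p m : ℕ, p.Prime → 11 ≤ p → ¬ p ∣ Nat.card T → 3 ≤ m → Rep.{u, w} p m T →
      (p - 9) * Nat.card (MulAut T) + 1 < p ^ m) : Bn.{u, w} T := Bn.of_le (by norm_num) h

theorem Bn.of_lt6 (_ : Subgroup.center T = ⊥) (_ : 1806 < Nat.card T)
    (h : ∀ p m : ℕ, p.Prime → 11 ≤ p → ¬ p ∣ Nat.card T → 3 ≤ m → Rep.{u, w} p m T →
      (p - 11) * Nat.card (MulAut T) + 1 < p ^ m) : Bn.{u, w} T := Bn.of_le (by norm_num) h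

theorem Bn.of_lt7 (_ : Subgroup.center T = ⊥) (_ : 3263442 < Nat.card T)
    (h : ∀ p m : ℕ, p.Prime → 11 ≤ p → ¬ p ∣ Nat.card T → 3 ≤ m → Rep.{u, w} p m T →
      (p - 13) * Nat.card (MulAut T) + 1 < p ^ m) : Bn.{u, w} T := Bn.of_le (by norm_num) h

/-- A uniform bound. -/
theorem Bn.of_eleven (_ : Subgroup.center T = ⊥) (_ : 1 < Nat.card T) {d : ℕ}
    (hd : ∀ p m : ℕ, p.Prime → 11 ≤ p → ¬ p ∣ Nat.card T → 3 ≤ m → Rep.{u, w} p m T → d + 1 ≤ m)
    (h : Nat.card (MulAut T) ≤ 11 ^ d) : Bn.{u, w} T := by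
  intro p m hp h23 hpT hm hR
  have h1 := hd p m hp (by omega) hpT hm hR
  have h2 : 11 ^ d ≤ p ^ d := Nat.pow_le_pow_left (by omega) d
  have h3 : p ^ d ≤ p ^ (m - 1) := Nat.pow_le_pow_right (by omega) (by omega)
  omega

/-- a uniform bound from `p ≥ 23` -/
theorem Bn.of_twentythree {d : ℕ}
    (hd : ∀ p m : ℕ, p.Prime → 23 ≤ p → ¬ p ∣ Nat.card T → 3 ≤ m → Rep.{u, w} p m T → d + 1 ≤ m)
    (h : Nat.card (MulAut T) ≤ 6 * 23 ^ d) : Bn.{u, w} T := by
  intro p m hp h23 hpT hm hR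
  have h1 := hd p m hp h23 hpT hm hR
  have h2 : 23 ^ d ≤ p ^ d := Nat.pow_le_pow_left h23 d
  have h3 : p ^ d ≤ p ^ (m - 1) := Nat.pow_le_pow_right (by omega) (by omega)
  omega

end

end Cfsg.Agent.H223.Bnd
end

-- part: H223/Bnd/Psu
section
set_option linter.all false
open scoped Cfsg.Agent.FastGrp

-- part: H223/Bnd/Aux4
section
/-!
# Auxiliary facts for the condition `Fine` (helper454, S4881)

* `fine_of_nonab` : one may assume that `T` is not commutative;
* `fine_of_bd` : the criterion used for the classical groups;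
* numerical inequalities.
-/

set_option autoImplicit false

namespace Cfsg.Agent.H223.Bnd.H454.FineAux
universe u v w

open Cfsg.Agent.H698 Cfsg.Agent.H912.Bd

theorem perfect_of_rep {p m : ℕ} {T : Type u} [Group T] (h : Rep.{u, w} p m T) : commutator T = ⊤ := by
  obtain ⟨F, _, _, _, P, _, _, π, ρ, h1, h2, h3, h4, h5⟩ := h
  have h6 : (commutator P).map π = commutator T := by
    rw [commutator_def, commutator_def, Subgroup.map_commutator, ← MonoidHom.range_eq_map, MonoidHom.range_eq_top.2 h1]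
  rw [← h6, h3, ← MonoidHom.range_eq_map, MonoidHom.range_eq_top.2 h1]

theorem fine_of_nonab {T : Type u} [Group T] [Finite T] [IsSimpleGroup T] (h : ¬ IsMulCommutative T → Cfsg.Agent.H223.Bnd.Bn.{u, w} T) :
    Cfsg.Agent.H223.Bnd.Bn.{u, w} T := by
  intro p m hp h11 hpT hm hR
  refine h ?_ p m hp h11 hpT hm hR
  intro hc
  have h1 := perfect_of_rep hR
  have h2 : commutator T = ⊥ := by
    rw [commutator_def, Subgroup.commutator_eq_bot_iff_le_centralizer]
    intro x _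
    rw [Subgroup.mem_centralizer_iff]
    intro y _
    exact hc.1.1 y x
  rw [h1] at h2
  exact absurd h2 top_ne_bot

theorem center_eq_bot {T : Type u} [Group T] [IsSimpleGroup T] (hT : ¬ IsMulCommutative T) :
    Subgroup.center T = ⊥ := by
  rcases (inferInstance : (Subgroup.center T).Normal).eq_bot_or_eq_top with h | h
  · exact h
  · exfalso
    apply hT
    refine ⟨⟨fun a b => ?_⟩⟩
    have h1 : b ∈ Subgroup.center T := by rw [h]; trivial
    exact Subgroup.mem_center_iff.1 h1 a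

theorem card_mulAut_congr {G : Type u} {H : Type v} [Group G] [Group H] (e : G ≃* H) :
    Nat.card (MulAut G) = Nat.card (MulAut H) := Nat.card_congr (MulAut.congr e).toEquiv

/-- The criterion for the classical groups. -/
theorem fine_of_bd {T : Type u} [Group T] [Finite T] [IsSimpleGroup T] {r d a : ℕ} (hr : r.Prime) (hrT : r ∣ Nat.card T)
    (hM : Cfsg.HasCyclicSchurMultiplier T a) (ha : a.Coprime r)
    (hB : ∀ (F : Type u) [Field F], (r : F) ≠ 0 → Bd F r (d + 1) T) (h : Nat.card (MulAut T) ≤ 11 ^ d) :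
    Cfsg.Agent.H223.Bnd.Bn.{u, u} T := by
  refine fine_of_nonab fun hna => ?_
  refine Cfsg.Agent.H223.Bnd.Bn.of_eleven (center_eq_bot hna) (Finite.one_lt_card_iff_nontrivial.2 inferInstance) (d := d) ?_ h
  intro p m hp _ hpT _ hR
  refine hR.le_of_Bd hp hr hrT hpT hM ?_ hB
  have : Nat.card (Multiplicative (ZMod a)) = a := by
    rw [Nat.card_congr Multiplicative.toAdd, Nat.card_zmod]
  rw [this]
  exact ha

/-! ### numbers -/

theorem le_two_pow_pred {q : ℕ} (hq : 1 ≤ q) : q ≤ 2 ^ (q - 1) := by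
  have := Nat.lt_two_pow_self (n := q - 1)
  omega

theorem two_mul_le_two_pow (f : ℕ) (hf : 1 ≤ f) : 2 * f ≤ 2 ^ f := by
  induction f, hf using Nat.le_induction with
  | base => norm_num
  | succ n hn ih =>
    rw [pow_succ]
    omega

theorem two_f_le {p f : ℕ} (hp : 2 ≤ p) (hf : 1 ≤ f) : 2 * f ≤ p ^ f :=
  (two_mul_le_two_pow f hf).trans (Nat.pow_le_pow_left hp f)

/-- `q ^ a ≤ 11 ^ b` if `(q - 1) a ≤ 3 b` -/
theorem pow_le_eleven {q a b : ℕ} (hq : 1 ≤ q) (h : (q - 1) * a ≤ 3 * b) : q ^ a ≤ 11 ^ b := by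
  calc q ^ a ≤ (2 ^ (q - 1)) ^ a := Nat.pow_le_pow_left (le_two_pow_pred hq) a
    _ = 2 ^ ((q - 1) * a) := by rw [← pow_mul]
    _ ≤ 2 ^ (3 * b) := Nat.pow_le_pow_right (by norm_num) h
    _ = 8 ^ b := by rw [pow_mul]; norm_num
    _ ≤ 11 ^ b := Nat.pow_le_pow_left (by norm_num) b

end Cfsg.Agent.H223.Bnd.H454.FineAux
end

-- part: H223/Bnd/Psu
section
/-!
# `Fine` for `PSU_n(q)`, `n ≥ 3` (helper454, S4881)
-/

set_option autoImplicit false

namespace Cfsg.Agent.H223.Bnd.H454.FinePsu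
universe u v

open Cfsg.Agent.H698 Cfsg.Agent.H912.Bd Cfsg.Agent.H223.Bnd.H454.FineAux Matrix

/-- the factor of the order of `PSU_n(q)` -/
def fac (q j : ℕ) : ℕ := if Even j then q ^ (j + 1) + 1 else q ^ (j + 1) - 1

theorem pair_le {q : ℕ} (hq : 1 ≤ q) (a : ℕ) : (q ^ a - 1) * (q ^ (a + 1) + 1) ≤ q ^ (a + (a + 1)) := by
  have h0 : 0 < q ^ a := by positivity
  obtain ⟨b, hb⟩ : ∃ b, q ^ a = b + 1 := ⟨q ^ a - 1, by omega⟩
  have h1 : q ^ (a + 1) = (b + 1) * q := by rw [pow_succ, hb]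
  have h2 : q ^ (a + (a + 1)) = (b + 1) * ((b + 1) * q) := by rw [pow_add q a (a + 1), h1, hb]
  rw [h2, h1, hb, Nat.add_sub_cancel]
  nlinarith

/-- `∏_{1 ≤ j ≤ 2k} fac q j ≤ q ^ (2 + 3 + ... + (2k + 1))` -/
theorem prod_fac_le {q : ℕ} (hq : 1 ≤ q) (k : ℕ) :
    ∏ j ∈ Finset.range (2 * k), fac q (j + 1) ≤ q ^ (k * (2 * k + 3)) := by
  induction k with
  | zero => simp
  | succ k ih =>
    rw [show 2 * (k + 1) = 2 * k + 1 + 1 by ring, Finset.prod_range_succ, Finset.prod_range_succ]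
    have h1 : fac q (2 * k + 1) = q ^ (2 * k + 2) - 1 := by
      unfold fac
      rw [if_neg (by rw [Nat.not_even_iff_odd]; exact ⟨k, rfl⟩)]
    have h2 : fac q (2 * k + 1 + 1) = q ^ (2 * k + 2 + 1) + 1 := by
      unfold fac
      rw [if_pos ⟨k + 1, by ring⟩]
    rw [h1, h2, mul_assoc]
    calc _ ≤ q ^ (k * (2 * k + 3)) * q ^ ((2 * k + 2) + (2 * k + 2 + 1)) := Nat.mul_le_mul ih (pair_le hq _)
      _ = _ := by rw [← pow_add]; congr 1; ring

theorem prod_fac_le' {q : ℕ} (hq : 1 ≤ q) (n : ℕ) :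
    ∃ E, 2 * E = n * (n + 3) ∧ ∏ j ∈ Finset.range n, fac q (j + 1) ≤ q ^ E := by
  rcases Nat.even_or_odd' n with ⟨k, rfl | rfl⟩
  · exact ⟨k * (2 * k + 3), by ring, prod_fac_le hq k⟩
  · refine ⟨k * (2 * k + 3) + (2 * k + 2), by ring, ?_⟩
    rw [Finset.prod_range_succ, pow_add]
    refine Nat.mul_le_mul (prod_fac_le hq k) ?_
    unfold fac
    rw [if_neg (by rw [Nat.not_even_iff_odd]; exact ⟨k, rfl⟩)]
    exact Nat.sub_le _ _

variable {F : Type*} [Field F] [Fintype F]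

theorem card_le {n q : ℕ} (hF : Fintype.card F = q ^ 2) (hn : 2 ≤ n) :
    Nat.gcd n (q + 1) * Nat.card (Cfsg.PSU n F q) ≤ q ^ (n ^ 2 - 1) := by
  have hq : 1 ≤ q := by
    rcases Nat.eq_zero_or_pos q with h | h
    · rw [h] at hF
      exact absurd hF (by simp)
    · exact h
  have h1 := Cfsg.Agent.S0280.result hF n hn
  obtain ⟨m, rfl⟩ : ∃ m, n = m + 1 := ⟨n - 1, by omega⟩
  obtain ⟨E, hE, hle⟩ := prod_fac_le' hq m
  rw [Finset.prod_range_succ'] at h1
  have h2 : ∏ i ∈ Finset.range m, (if Even (i + 1) then q ^ (i + 1 + 1) + 1 else q ^ (i + 1 + 1) - 1) =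
      ∏ j ∈ Finset.range m, fac q (j + 1) := rfl
  rw [h2, if_pos (by decide), zero_add, pow_one] at h1
  have h3 : (q + 1) * (Nat.gcd (m + 1) (q + 1) * Nat.card (Cfsg.PSU (m + 1) F q)) =
      (q + 1) * (q ^ ((m + 1) * (m + 1 - 1) / 2) * ∏ j ∈ Finset.range m, fac q (j + 1)) := by
    linear_combination h1
  rw [Nat.eq_of_mul_eq_mul_left (by omega) h3]
  calc _ ≤ q ^ ((m + 1) * (m + 1 - 1) / 2) * q ^ E := Nat.mul_le_mul_left _ hle
    _ = q ^ ((m + 1) ^ 2 - 1) := by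
      rw [← pow_add]
      congr 1
      have h4 : 2 * ((m + 1) * (m + 1 - 1) / 2) = (m + 1) * m := by
        rw [Nat.add_sub_cancel]
        exact Nat.mul_div_cancel' (by rw [mul_comm]; exact (Nat.even_mul_succ_self m).two_dvd)
      have h5 : (m + 1) ^ 2 = (m + 1) * m + m + 1 := by ring
      have h6 : m * (m + 3) = (m + 1) * m + 2 * m := by ring
      omega

theorem dvd_card {n q r : ℕ} (hF : Fintype.card F = q ^ 2) (hn : 2 ≤ n) (hr : r.Prime) (hrq : r ∣ q) :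
    r ∣ Nat.card (Cfsg.PSU n F q) := by
  have h1 := Cfsg.Agent.S0280.result hF n hn
  have h2 : r ∣ q ^ (n * (n - 1) / 2) := by
    refine hrq.trans (dvd_pow_self q ?_)
    obtain ⟨m, rfl⟩ : ∃ m, n = m + 2 := ⟨n - 2, by omega⟩
    have : 2 ≤ (m + 2) * (m + 2 - 1) := by
      rw [show m + 2 - 1 = m + 1 by omega]
      nlinarith
    omega
  have h3 := h2.mul_right (∏ i ∈ Finset.range n, (if Even i then q ^ (i + 1) + 1 else q ^ (i + 1) - 1))
  rw [← h1] at h3
  have h4 : ¬ r ∣ q + 1 := by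
    intro h
    have h4 := (Nat.dvd_add_right hrq).1 h
    exact hr.one_lt.ne' (Nat.dvd_one.1 h4)
  rcases (Nat.Prime.dvd_mul hr).1 h3 with h5 | h5
  · exact absurd (h5.trans (Nat.gcd_dvd_right _ _)) h4
  rcases (Nat.Prime.dvd_mul hr).1 h5 with h6 | h6
  · exact absurd h6 h4
  · exact h6

/-- the inequality -/
theorem num {n q : ℕ} (hn : 4 ≤ n) (hq : 3 ≤ q) : (q - 1) * n ^ 2 + 3 ≤ 3 * ((q - 1) * q ^ (n - 2)) := by
  obtain ⟨a, rfl⟩ : ∃ a, q = a + 1 := ⟨q - 1, by omega⟩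
  rw [Nat.add_sub_cancel]
  have ha : 2 ≤ a := by omega
  induction n, hn using Nat.le_induction with
  | base =>
    norm_num
    nlinarith [mul_le_mul ha ha (by norm_num) (by omega), mul_self_nonneg (a * a)]
  | succ n hn ih =>
    have e : (a + 1) ^ (n + 1 - 2) = (a + 1) * (a + 1) ^ (n - 2) := by
      rw [← pow_succ']; congr 1; omega
    rw [e]
    have h1 : 2 * (3 * (a * (a + 1) ^ (n - 2))) ≤ (a + 1) * (3 * (a * (a + 1) ^ (n - 2))) := Nat.mul_le_mul_right _ (by omega)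
    have h2 : (n + 1) ^ 2 ≤ 2 * n ^ 2 := by nlinarith
    have h3 : a * (n + 1) ^ 2 ≤ a * (2 * n ^ 2) := Nat.mul_le_mul_left _ h2
    nlinarith

theorem num_two {n : ℕ} (hn : 6 ≤ n) : n ^ 2 + 3 ≤ 3 * 2 ^ (n - 2) := by
  induction n, hn using Nat.le_induction with
  | base => norm_num
  | succ n hn ih =>
    have e : 2 ^ (n + 1 - 2) = 2 * 2 ^ (n - 2) := by
      rw [← pow_succ']; congr 1; omega
    rw [e]
    nlinarith

/-- `q ^ (n ^ 2) ≤ 11 ^ ((q - 1) q ^ (n - 2) - 1)` -/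
theorem num_all {n q : ℕ} (hn : 3 ≤ n) (hq : 2 ≤ q) (h32 : ¬ (n = 3 ∧ q = 2)) (h42 : ¬ (n = 4 ∧ q = 2))
    (h52 : ¬ (n = 5 ∧ q = 2)) : q ^ (n ^ 2) ≤ 11 ^ ((q - 1) * q ^ (n - 2) - 1) := by
  rcases (by omega : (n = 3 ∧ q = 3) ∨ (n = 3 ∧ 4 ≤ q) ∨ (4 ≤ n ∧ 3 ≤ q) ∨ (6 ≤ n ∧ q = 2)) with
    ⟨rfl, rfl⟩ | ⟨rfl, h⟩ | ⟨h1, h2⟩ | ⟨h1, rfl⟩
  · norm_num
  · apply pow_le_eleven (by omega)
    obtain ⟨a, rfl⟩ : ∃ a, q = a + 4 := ⟨q - 4, by omega⟩
    have h1 : (a + 4 - 1) * (a + 4) ^ (3 - 2) = (a + 3) * (a + 4) := by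
      rw [show 3 - 2 = 1 by norm_num, pow_one]; congr 1
    rw [h1]
    have h2 : (a + 3) * (a + 4) = a * a + 7 * a + 12 := by ring
    rw [h2, show a + 4 - 1 = a + 3 by omega]
    have h3 : 3 * (a * a + 7 * a + 12 - 1) = 3 * (a * a) + 21 * a + 33 := by omega
    rw [h3]
    have := Nat.zero_le (a * a)
    omega
  · apply pow_le_eleven (by omega)
    have := num h1 h2
    omega
  · apply pow_le_eleven (by omega)
    have := num_two h1
    omega

/-- **`PSU_n(q)`, `n ≥ 3`**. -/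
theorem fine_psu {T : Type u} [Group T] [Finite T] {F : Type} [Field F] [Fintype F] {n q : ℕ} (hF : Fintype.card F = q ^ 2)
    (hn : 3 ≤ n) (h32 : ¬ (n = 3 ∧ q = 2)) (h42 : ¬ (n = 4 ∧ q = 2)) (h43 : ¬ (n = 4 ∧ q = 3)) (h62 : ¬ (n = 6 ∧ q = 2))
    (e : T ≃* Cfsg.PSU n F q) : Cfsg.Agent.H223.Bnd.Bn.{u, u} T := by
  obtain ⟨p, hchar⟩ := CharP.exists F
  obtain ⟨k, hp, hk⟩ := FiniteField.card F p
  have hpf : Fact p.Prime := ⟨hp⟩
  obtain ⟨f, -, hq⟩ : ∃ f ≤ (k : ℕ), q = p ^ f := (Nat.dvd_prime_pow hp).1 (by rw [← hk, hF]; exact dvd_pow_self q two_ne_zero)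
  have hf : 1 ≤ f := by
    rcases Nat.eq_zero_or_pos f with h | h
    · rw [h, pow_zero] at hq
      rw [hq, one_pow] at hF
      exact absurd (Fintype.one_lt_card (α := F)) (by omega)
    · exact h
  have hpq : p ∣ q := by rw [hq]; exact dvd_pow_self p (by omega)
  have hq2 : 2 ≤ q := by
    rw [hq]
    exact (two_f_le hp.two_le hf).trans' (by omega)
  have hs : IsSimpleGroup (Cfsg.PSU n F q) := Cfsg.Agent.S0283.result hF n hn h32
  have hnt : Nontrivial T := e.toEquiv.nontrivial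
  have hsT : IsSimpleGroup T := IsSimpleGroup.isSimpleGroup_of_surjective e.symm.toMonoidHom e.symm.surjective
  have hcT : Nat.card T = Nat.card (Cfsg.PSU n F q) := Nat.card_congr e.toEquiv
  have hA : Nat.card (MulAut T) = (2 * f) * (Nat.gcd n (q + 1) * Nat.card (Cfsg.PSU n F q)) := by
    rw [card_mulAut_congr e, Cfsg.Agent.S0815.result p f hf hq hF n (by omega) (by omega)]
    ring
  have hle := card_le hF (show 2 ≤ n by omega)
  have hM : Cfsg.HasCyclicSchurMultiplier T (Nat.gcd n (q + 1)) := by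
    refine Cfsg.Agent.H487.HasSchurMultiplier.congr_left (Cfsg.Agent.S2089.result n q hF hn h32 ?_) e.symm
    simp only [Set.mem_insert_iff, Set.mem_singleton_iff, Prod.mk.injEq, not_or]
    exact ⟨h42, h43, h62⟩
  have hcop : (Nat.gcd n (q + 1)).Coprime p := by
    refine (Nat.Coprime.symm ((Nat.Prime.coprime_iff_not_dvd hp).2 fun h => ?_))
    have h4 := (Nat.dvd_add_right hpq).1 (h.trans (Nat.gcd_dvd_right _ _))
    exact hp.one_lt.ne' (Nat.dvd_one.1 h4)
  have hrT : p ∣ Nat.card T := by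
    rw [hcT]
    exact dvd_card hF (by omega) hp hpq
  have hB : ∀ (K : Type u) [Field K], (p : K) ≠ 0 → Bd K p ((q - 1) * q ^ (n - 2)) T := fun K _ hK =>
    Cfsg.Agent.H175.BdSU.bd_psu hp hF hn hK e
  have hpos : 1 ≤ (q - 1) * q ^ (n - 2) := Nat.mul_pos (by omega) (by positivity)
  by_cases h52 : n = 5 ∧ q = 2
  · obtain ⟨rfl, rfl⟩ := h52
    have hp2 : p = 2 := (Nat.prime_dvd_prime_iff_eq hp Nat.prime_two).1 hpq
    have hf1 : f = 1 := by
      rw [hp2] at hq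
      exact (Nat.pow_right_injective le_rfl (by simpa using hq)).symm
    have hc : Nat.card (Cfsg.PSU 5 F 2) = 13685760 := by
      have h1 := Cfsg.Agent.S0280.result hF 5 (by norm_num)
      simp [Finset.prod_range_succ, show ¬ Even 1 by decide, show Even 2 by decide, show ¬ Even 3 by decide,
        show Even 4 by decide] at h1
      omega
    refine fine_of_nonab fun hna => ?_
    refine Cfsg.Agent.H223.Bnd.Bn.of_lt (center_eq_bot hna) (by rw [hcT, hc]; norm_num) ?_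
    intro p' m hp' h11 hpT _ hR
    have h8 : 8 ≤ m := by
      have h1 := hR.le_of_Bd hp' hp hrT hpT hM (by
        rw [show Nat.card (Multiplicative (ZMod (Nat.gcd 5 (2 + 1)))) = Nat.gcd 5 (2 + 1) by
          rw [Nat.card_congr Multiplicative.toAdd, Nat.card_zmod]]
        exact hcop) hB
      norm_num at h1
      exact h1
    have h13 : 13 ≤ p' := by
      by_contra hlt
      rcases (by omega : p' = 11 ∨ p' = 12) with rfl | rfl
      · exact hpT (by rw [hcT, hc]; norm_num)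
      · exact absurd hp' (by norm_num)
    rw [hA, hc, hf1]
    norm_num
    have h2 : 13 ^ 7 ≤ p' ^ 7 := Nat.pow_le_pow_left h13 7
    have h3 : p' ^ 8 ≤ p' ^ m := Nat.pow_le_pow_right (by omega) h8
    have h4 : (p' - 3) * 27371520 ≤ (p' - 3) * p' ^ 7 := Nat.mul_le_mul_left _ (by norm_num at h2; omega)
    have h5 : (p' - 3) * p' ^ 7 + 3 * p' ^ 7 = p' ^ 8 := by
      rw [← add_mul, pow_succ p' 7, mul_comm (p' ^ 7)]
      congr 1
      omega
    norm_num at h2
    omega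
  · refine fine_of_bd (r := p) (d := (q - 1) * q ^ (n - 2) - 1) hp hrT hM hcop ?_ ?_
    · intro K _ hK
      rw [Nat.sub_add_cancel hpos]
      exact hB K hK
    · rw [hA]
      have h2 : 2 * f ≤ q := by rw [hq]; exact two_f_le hp.two_le hf
      calc _ ≤ q * q ^ (n ^ 2 - 1) := Nat.mul_le_mul h2 hle
        _ = q ^ (n ^ 2) := by
          rw [← pow_succ']
          congr 1
          have : 0 < n ^ 2 := by positivity
          omega
        _ ≤ _ := num_all hn hq2 h32 h42 h52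

end Cfsg.Agent.H223.Bnd.H454.FinePsu
end
end
end
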