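import Cfsg.Agent.H697.Alm.LinMain_m3
import Cfsg.Agent.H315.FineOrth_m3
import Cfsg.Agent.H912.CrossList_m3
import Cfsg.Agent.S0302
import Cfsg.Agent.S0248
import Cfsg.Agent.H223.Bnd.Psu
import Cfsg.Agent.H95.LSx.Sub
import Cfsg.Agent.S2098
import Cfsg.Agent.H698.FinePR
import Cfsg.Agent.H771.KTools_m3
import Cfsg.Agent.H57.TTOut
import Cfsg.Agent.H203.LSE6_mg_m3
import Cfsg.Agent.H203.LSTwF4
import Cfsg.Agent.H203.LSSz
import Cfsg.Agent.S2121
import Cfsg.Agent.S2126
import Cfsg.Agent.S2127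
import Cfsg.Agent.S2128
import Cfsg.Agent.S2129
import Cfsg.Agent.S1059
import Cfsg.Agent.S1067
import Cfsg.Agent.S1163
import Cfsg.Agent.S1068
import Cfsg.Agent.S1069
import Cfsg.Agent.H867.TitsOut
import Cfsg.Agent.H226.Setup
import Cfsg.Agent.H678.DG.Tits_m3
import Cfsg.Agent.H92.ExcTits
import Cfsg.Agent.H92.ExcG24
import Cfsg.Agent.H92.ExcThree
import Cfsg.Agent.H547.SelfCent.Tits
import Cfsg.Agent.H487.SchurPerfect
import Cfsg.Agent.S2115
import Cfsg.Agent.H845.LiftIrr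
import Cfsg.Agent.SmallSimple.PSLTwoPart
import Cfsg.Agent.H792.Sp.ConwayFive
import Cfsg.Agent.H843.FullFiD
import Cfsg.Agent.H812.SuzSeven_m3
import Cfsg.Agent.H603.SporElim
import Cfsg.Agent.H149.Sp.Quot
import Cfsg.Agent.CpAut.Fix
import Cfsg.Agent.H14.KnownSimple
import Cfsg.Agent.H47.MeetONan
import Cfsg.Agent.S0283
import Cfsg.Agent.S1624
import Cfsg.Agent.S1686
import Cfsg.Agent.S1708
import Cfsg.Agent.S2048
import Cfsg.Agent.S2086
import Cfsg.Agent.S2089
import Cfsg.Agent.S2097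
import Cfsg.Agent.H315.FineOmega_mg
import Cfsg.Agent.H189.FeitTits
import Cfsg.Agent.S2119
import Cfsg.Agent.S2116
import Cfsg.Agent.H487.SchurMult
import Cfsg.Agent.H978.Alm.Affine_m3
import Cfsg.Agent.H175.BdSp_m3
import Cfsg.Agent.H412.ReeOut
import Cfsg.Agent.S0243
import Cfsg.Agent.S0249
import Cfsg.Agent.S0265
import Cfsg.Agent.S0813
import Mathlib
import Cfsg.Agent.H319.PslFour
import Cfsg.Agent.H454.SpExt
import Cfsg.Agent.S0245
import Cfsg.Agent.S0246
import Cfsg.Agent.S0270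
import Cfsg.Agent.S0814
import Cfsg.Agent.S2092
import Cfsg.Agent.S0822
import Cfsg.Agent.H489.OutExc
import Cfsg.Agent.H656.LSTwE6
import Cfsg.Agent.H203.LSTor_m3
import Cfsg.Agent.H481.TBound
import Cfsg.Agent.H123.SporSimple
import Cfsg.Agent.CTwoTab.Card
import Cfsg.Agent.S2084
import Cfsg.Prelude.Def_Classification2
import Cfsg.Agent.S0254
import Cfsg.Agent.S0256
import Cfsg.Agent.S0000
import Cfsg.Agent.Lib.DetFast
import Cfsg.Agent.FastGrp
import Cfsg.Agent.Prune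
set_option linter.all false

section
prune_inst 0x7ff1bcfddbb869deffff7e7ffeb8dffc3b949fffefdff94bffe463ff8bdf030a09e5fb8d0de058fc0e96409c10b87853fbfffeffea6ffc7ffffdfff45ffbee1ff7ffbd0871978c340f386fff83f07f8e7f3fffffffffffffffffffffffffffbeffffffffffff

-- part: H223/Bnd/Omega_mg
section
prune_inst 0xc40022440800000000000000000020041000010000000000080003000200022000000000080020060220000000000000000000000000000000000000000000000008100000000004000000000004000000000000000000000000000000000000000000000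
set_option linter.all false
open scoped Cfsg.Agent.FastGrp

-- part: H223/Bnd/O7
section
/-!
# `Fine` for `PΩ₇(3)`: through `PSL₄(3)`
-/

set_option autoImplicit false

namespace Cfsg.Agent.H223.Bnd.H315.FineOrth
universe u v w

open Cfsg Cfsg.Agent.H698 Cfsg.Agent.H912.Bd Cfsg.Agent.H315.FineNum Cfsg.Agent.H315.FineOrth

variable {K : Type} [Field K] [Fintype K]

theorem psl_perfect {n : ℕ} (hn : 3 ≤ n) : commutator (Matrix.ProjectiveSpecialLinearGroup (Fin n) K) = ⊤ := by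
  have h1 := Cfsg.Agent.S0248.result (F := K) n hn
  have h2 : (commutator (Matrix.SpecialLinearGroup (Fin n) K)).map
      (QuotientGroup.mk' (Subgroup.center (Matrix.SpecialLinearGroup (Fin n) K))) = ⊤ := by
    rw [h1, ← MonoidHom.range_eq_map, MonoidHom.range_eq_top]
    exact QuotientGroup.mk'_surjective _
  rw [_root_.commutator_def, Subgroup.map_commutator, ← MonoidHom.range_eq_map,
    MonoidHom.range_eq_top.2 (QuotientGroup.mk'_surjective _)] at h2
  rw [_root_.commutator_def]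
  exact h2

/-- `PΩ₇(3)` -/
theorem fine_odd_three (hK : Fintype.card K = 3)
    (hN : Cop.{0, w} 3 (Matrix.ProjectiveSpecialLinearGroup (Fin 4) K)) :
    Cfsg.Agent.H223.Bnd.Bn.{0, w} (Cfsg.POmega K (Cfsg.quadFormOdd 3 K)) := by
  obtain ⟨p, f, hp, hf, hq, hpK⟩ := exists_pf (K := K)
  obtain rfl : p = 3 := by
    have h4 : p ∣ 3 := by rw [← hK, hq]; exact dvd_pow_self p (by omega)
    exact (Nat.prime_dvd_prime_iff_eq hp Nat.prime_three).1 h4
  obtain rfl : f = 1 := by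
    rw [hK] at hq
    exact (Nat.pow_right_injective (le_refl 3 |>.trans' (by norm_num)) (by simpa using hq)).symm
  have := Fact.mk hp
  have : Finite (Cfsg.isometryGroup K (Cfsg.quadFormOdd 3 K)) := inferInstance
  have : Finite (Cfsg.POmega K (Cfsg.quadFormOdd 3 K)) := inferInstance
  have ho : Odd (Fintype.card K) := by rw [hK]; decide
  have hs : IsSimpleGroup (Cfsg.POmega K (Cfsg.quadFormOdd 3 K)) := Cfsg.Agent.S0295.result ho 3 le_rfl
  have hcard := Cfsg.Agent.S0292.result (F := K) hK (by decide) 3 le_rfl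
  norm_num only [Finset.prod_range_succ] at hcard
  have haut := Cfsg.Agent.S0816.result (F := K) 3 1 le_rfl hq (by decide) 3 le_rfl
  have h3 : 3 ∣ Nat.card (Cfsg.POmega K (Cfsg.quadFormOdd 3 K)) := by omega
  have hc := center_eq_bot (not_comm (T := Cfsg.POmega K (Cfsg.quadFormOdd 3 K)) Nat.prime_three h3 (by omega))
  refine Cfsg.Agent.H223.Bnd.Bn.of_eleven (d := 10) hc (by omega) (fun p m hp h11 hpT hm hR => ?_) ?_
  · obtain ⟨j, hj⟩ := exists_odd (K := K) (le_refl 3)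
    obtain ⟨e⟩ := Cfsg.Agent.S0302.result (F := K)
    have hker : (e.toMonoidHom.comp (QuotientGroup.mk' (Subgroup.center (Cfsg.Omega K (Cfsg.quadFormPlus 3 K))))).ker
        = Subgroup.center (Cfsg.Omega K (Cfsg.quadFormPlus 3 K)) := by
      ext x
      rw [MonoidHom.mem_ker, MonoidHom.comp_apply]
      change e _ = 1 ↔ _
      rw [map_eq_one_iff _ e.injective, QuotientGroup.mk'_apply, QuotientGroup.eq_one_iff]
    have hR' : _root_.Cfsg.Agent.H698.Rep.{0, w} p m (Matrix.ProjectiveSpecialLinearGroup (Fin 4) K) :=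
      rep_sec hR j (e.toMonoidHom.comp (QuotientGroup.mk' (Subgroup.center (Cfsg.Omega K (Cfsg.quadFormPlus 3 K)))))
        (e.surjective.comp (QuotientGroup.mk'_surjective _)) (by
          intro x hx y
          have h1 : x ∈ Subgroup.center (Cfsg.Omega K (Cfsg.quadFormPlus 3 K)) := by rw [← hker]; exact hx
          exact ((Subgroup.mem_center_iff.1 h1) y).symm) (by rw [hker]; exact hj) (psl_perfect (by norm_num))
    have h26 : 26 ≤ m := rep_le' hp Nat.prime_three (by omega) hR' hN fun F _ hF => by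
      have h7 := Cfsg.Agent.H175.BdSL.bd_psl (F := F) (K := K) (r := 3) (q := 3) Nat.prime_three hK (m := 4)
        (by norm_num) (by exact_mod_cast hF) (MulEquiv.refl (Matrix.ProjectiveSpecialLinearGroup (Fin 4) K))
      exact h7.mono (by norm_num)
    omega
  · rw [haut]
    norm_num only []
    omega

end Cfsg.Agent.H223.Bnd.H315.FineOrth
end

-- part: H223/Bnd/O8
section
/-!
# `PΩ⁺₈(2)`: the bound `8` from `5² : Q₈`
-/

set_option autoImplicit false

namespace Cfsg.Agent.H223.Bnd.H315.FineOrth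
universe u v w

open Cfsg Cfsg.Agent.H698 Cfsg.Agent.H912.Bd Cfsg.Agent.H315.FineNum Cfsg.Agent.H315.FineOrth Matrix
open scoped commutatorElement

private noncomputable def _root_.Cfsg.Agent.KO036c65b.k0.{ku0, ku1} : type_of% @Quot.rec.{ku0, ku1} := @(fun x0 x1 x2 x3 x4 x5 => @Eq.rec.{ku1, ku0} (@Quot.{ku0} _ @x1) (@PSigma.fst.{ku0, ku1} _ _ (@Quot.lift.{ku0, (max (max 1 ku1) ku0)} _ _ _ (@Quot.indep.{ku0, ku1} _ _ _ @x3) (@Quot.indepCoherent.{ku0, ku1} _ _ _ @x3 @x4) @x5)) @(fun x6 x7 => @x2 @x6) (@PSigma.snd.{ku0, ku1} _ _ (@Quot.lift.{ku0, (max (max 1 ku1) ku0)} _ _ _ (@Quot.indep.{ku0, ku1} _ _ _ @x3) (@Quot.indepCoherent.{ku0, ku1} _ _ _ @x3 @x4) @x5)) @x5 (@Quot.liftIndepPr1.{ku0, ku1} _ _ _ @x3 @x4 @x5))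
private theorem _root_.Cfsg.Agent.KO036c65b.e0.{ku0, ku1} : @Quot.rec.{ku0, ku1} = @_root_.Cfsg.Agent.KO036c65b.k0.{ku0, ku1} := by delta _root_.Cfsg.Agent.KO036c65b.k0; rfl'
private noncomputable def _root_.Cfsg.Agent.KO036c65b.k1.{ku0, ku1} : type_of% @Quot.recOnSubsingleton.{ku0, ku1} := @(fun x0 x1 x2 x3 x4 x5 => @Cfsg.Agent.KO036c65b.k0.{ku0, ku1} _ _ @(fun x6 => @x2 @x6) @(fun x6 => @x5 @x6) (@Quot.recOnSubsingleton._proof_1.{ku1, ku0} _ _ _ _ @x5) @x4)
private theorem _root_.Cfsg.Agent.KO036c65b.e1.{ku0, ku1} : @Quot.recOnSubsingleton.{ku0, ku1} = @_root_.Cfsg.Agent.KO036c65b.k1.{ku0, ku1} := by delta _root_.Cfsg.Agent.KO036c65b.k1; rewrite [← Cfsg.Agent.KO036c65b.e0.{ku0, ku1}]; rfl'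
private noncomputable def _root_.Cfsg.Agent.KO036c65b.k3.{ku0} : type_of% @List.decidableBAll.{ku0} := @(fun x0 x1 x2 x3 => @List.rec.{1, ku0} @x0 @(fun x4 => @Decidable ((x5 : @x0) → (@Membership.mem.{ku0, ku0} _ _ _ @x4 @x5) → @x1 @x5)) (@Decidable.isTrue _ (@List.decidableBAll._proof_1.{ku0} _ @x1)) @(fun x4 x5 x6 => @Decidable.rec.{1} _ @(fun x7 => @Decidable ((x8 : @x0) → (@Membership.mem.{ku0, ku0} _ _ _ (@x4 :: @x5) @x8) → @x1 @x8)) @(fun x7 => @Decidable.isFalse _ (@List.decidableBAll._proof_4.{ku0} _ @x1 @x4 @x5 @x7)) @(fun x7 => @Decidable.rec.{1} _ @(fun x8 => @Decidable ((x9 : @x0) → (@Membership.mem.{ku0, ku0} _ _ _ (@x4 :: @x5) @x9) → @x1 @x9)) @(fun x8 => @Decidable.isFalse _ (@List.decidableBAll._proof_3.{ku0} _ @x1 @x4 @x5 @x8)) @(fun x8 => @Decidable.isTrue _ (@List.decidableBAll._proof_2.{ku0} _ @x1 @x4 @x5 @x7 @x8)) @x6) (@x2 @x4)) @x3)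
private noncomputable def _root_.Cfsg.Agent.KO036c65b.k4.{ku0} : type_of% @Multiset.decidableForallMultiset.{ku0} := @(fun (x0 : Sort (ku0+1)) (x1 : @Multiset.{ku0} @x0) (x2 : (x0 → Prop)) (x3 : ((x3 : x0) → @Decidable (@x2 @x3))) => @Cfsg.Agent.KO036c65b.k1.{(ku0+1), 1} (@List.{ku0} @x0) (@Setoid.r.{(ku0+1)} (@List.{ku0} @x0) (@List.isSetoid.{ku0} @x0)) @(fun (x4 : @Quotient.{(ku0+1)} (@List.{ku0} @x0) (@List.isSetoid.{ku0} @x0)) => @Decidable ((x5 : x0) → ((@Membership.mem.{ku0, ku0} @x0 (@Multiset.{ku0} @x0) (@Multiset.instMembership.{ku0} @x0) @x4 @x5) → @x2 @x5))) (@Multiset.decidableForallMultiset._proof_2.{ku0} @x0 @x2) @x1 @(fun (x4 : @List.{ku0} @x0) => @Decidable.rec.{1} ((x5 : x0) → ((@Membership.mem.{ku0, ku0} @x0 (@List.{ku0} @x0) (@List.instMembership.{ku0} @x0) @x4 @x5) → @x2 @x5)) @(fun (x5 : @Decidable ((x5 : x0) → ((@Membership.mem.{ku0, ku0} @x0 (@List.{ku0} @x0) (@List.instMembership.{ku0} @x0) @x4 @x5) → @x2 @x5)))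 => @Decidable ((x6 : x0) → ((@Membership.mem.{ku0, ku0} @x0 (@Multiset.{ku0} @x0) (@Multiset.instMembership.{ku0} @x0) (@Quotient.mk.{(ku0+1)} (@List.{ku0} @x0) (@List.isSetoid.{ku0} @x0) @x4) @x6) → @x2 @x6))) @(fun (x5 : @Not ((x5 : x0) → ((@Membership.mem.{ku0, ku0} @x0 (@List.{ku0} @x0) (@List.instMembership.{ku0} @x0) @x4 @x5) → @x2 @x5))) => @Decidable.isFalse ((x6 : x0) → ((@Membership.mem.{ku0, ku0} @x0 (@Multiset.{ku0} @x0) (@Multiset.instMembership.{ku0} @x0) (@Quotient.mk.{(ku0+1)} (@List.{ku0} @x0) (@List.isSetoid.{ku0} @x0) @x4) @x6) → @x2 @x6)) (@decidable_of_decidable_of_iff._proof_1 ((x6 : x0) → ((@Membership.mem.{ku0, ku0} @x0 (@List.{ku0} @x0) (@List.instMembership.{ku0} @x0) @x4 @x6) → @x2 @x6)) ((x6 : x0) → ((@Membership.mem.{ku0, ku0} @x0 (@Multiset.{ku0} @x0) (@Multiset.instMembership.{ku0} @x0) (@Quotient.mk.{(ku0+1)} (@List.{ku0} @x0) (@List.isSetoid.{ku0} @x0) @x4) @x6) → @x2 @x6)) (@Multiset.decidableForallMultiset._proof_1.{ku0}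 @x0 @x2 @x4) @x5)) @(fun (x5 : ((x5 : x0) → ((@Membership.mem.{ku0, ku0} @x0 (@List.{ku0} @x0) (@List.instMembership.{ku0} @x0) @x4 @x5) → @x2 @x5))) => @Decidable.isTrue ((x6 : x0) → ((@Membership.mem.{ku0, ku0} @x0 (@Multiset.{ku0} @x0) (@Multiset.instMembership.{ku0} @x0) (@Quotient.mk.{(ku0+1)} (@List.{ku0} @x0) (@List.isSetoid.{ku0} @x0) @x4) @x6) → @x2 @x6)) (@Iff.mp ((x6 : x0) → ((@Membership.mem.{ku0, ku0} @x0 (@List.{ku0} @x0) (@List.instMembership.{ku0} @x0) @x4 @x6) → @x2 @x6)) ((x6 : x0) → ((@Membership.mem.{ku0, ku0} @x0 (@Multiset.{ku0} @x0) (@Multiset.instMembership.{ku0} @x0) (@Quotient.mk.{(ku0+1)} (@List.{ku0} @x0) (@List.isSetoid.{ku0} @x0) @x4) @x6) → @x2 @x6)) (@Multiset.decidableForallMultiset._proof_1.{ku0} @x0 @x2 @x4) @x5)) (@Cfsg.Agent.KO036c65b.k3.{ku0} @x0 @x2 @x3 @x4)))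
private noncomputable def _root_.Cfsg.Agent.KO036c65b.k8.{ku0} : type_of% @Multiset.decidableDforallMultiset.{ku0} := @(fun x0 x1 x2 x3 => @Decidable.rec.{1} _ @(fun x4 => @Decidable ((x5 : @x0) → (x6 : @Membership.mem.{ku0, ku0} _ _ _ @x1 @x5) → @x2 @x5 @x6)) @(fun x4 => @Decidable.isFalse _ (@decidable_of_decidable_of_iff._proof_1 _ _ (@Multiset.decidableDforallMultiset._proof_2.{ku0} _ _ _) @x4)) @(fun x4 => @Decidable.isTrue _ (@Iff.mp _ _ (@Multiset.decidableDforallMultiset._proof_2.{ku0} _ _ _) @x4)) (@Cfsg.Agent.KO036c65b.k4.{ku0} _ _ @(fun x4 => @x2 (@Subtype.val.{(ku0+1)} _ @(fun x5 => @Membership.mem.{ku0, ku0} _ _ _ @x1 @x5) @x4) (@Multiset.decidableDforallMultiset._proof_1.{ku0} _ _ @x4)) @(fun x4 => @x3 (@Subtype.val.{(ku0+1)} _ @(fun x5 => @Membership.mem.{ku0, ku0} _ _ _ @x1 @x5) @x4) (@Multiset.decidableDforallMultiset._proof_1.{ku0} _ _ @x4))))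
private theorem _root_.Cfsg.Agent.KO036c65b.e8.{ku0} : @Multiset.decidableDforallMultiset.{ku0} = @_root_.Cfsg.Agent.KO036c65b.k8.{ku0} := by delta _root_.Cfsg.Agent.KO036c65b.k8; exact Subsingleton.elim _ _
variable {K : Type} [Field K] [Fintype K]

/-- **`PΩ⁺₈(2)`**: bound 8. -/
theorem bd_plus_four_two {F : Type u} [Field F] (h5 : ((5 : ℕ) : F) ≠ 0) (hK : Fintype.card K = 2) :
    Bd F 5 8 (Cfsg.POmega K (Cfsg.quadFormPlus 4 K)) := by
  apply @_root_.Cfsg.Agent.H315.FineOrth.bd_plus_four_two <;> assumption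

/-- `PΩ⁺₈(2)` -/
theorem fine_plus_four_two (hK : Fintype.card K = 2) (hN : Cop.{0, w} 5 (Cfsg.POmega K (Cfsg.quadFormPlus 4 K))) :
    Cfsg.Agent.H223.Bnd.Bn.{0, w} (Cfsg.POmega K (Cfsg.quadFormPlus 4 K)) := by
  have : Finite (Cfsg.isometryGroup K (Cfsg.quadFormPlus 4 K)) := inferInstance
  have : Finite (Cfsg.POmega K (Cfsg.quadFormPlus 4 K)) := inferInstance
  have hs : IsSimpleGroup (Cfsg.POmega K (Cfsg.quadFormPlus 4 K)) := Cfsg.Agent.S0296.result 4 le_rfl
  have hcard := Cfsg.Agent.S0293.result (F := K) hK 4 le_rfl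
  norm_num only [Finset.prod_range_succ, _root_.one_mul] at hcard
  have : Fact (Nat.Prime 2) := ⟨Nat.prime_two⟩
  have haut := Cfsg.Agent.S0817.result (F := K) 2 1 le_rfl (by rw [hK, pow_one]) 4 le_rfl
  rw [if_pos rfl, if_pos rfl, hcard] at haut
  have h2T : 2 ∣ Nat.card (Cfsg.POmega K (Cfsg.quadFormPlus 4 K)) := by rw [hcard]; norm_num
  have h5T : 5 ∣ Nat.card (Cfsg.POmega K (Cfsg.quadFormPlus 4 K)) := by rw [hcard]; norm_num
  refine Cfsg.Agent.H223.Bnd.Bn.of_lt7 (center_eq_bot (not_comm Nat.prime_two h2T (by rw [hcard]; norm_num))) (by rw [hcard]; norm_num)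
    fun p m hp h11 hpT hm hR => ?_
  have hm8 : 8 ≤ m := rep_le hp Nat.prime_five h5T hpT hR hN fun F _ hF => bd_plus_four_two hF hK
  have h5 : p ^ 8 ≤ p ^ m := Nat.pow_le_pow_right hp.pos hm8
  rw [haut]
  rcases (show p ≤ 13 ∨ 14 ≤ p by omega) with h13 | h14
  · have h6 : p - 13 = 0 := by omega
    rw [h6, zero_mul, zero_add]
    exact Nat.one_lt_pow (by omega) hp.one_lt
  rcases (show p = 17 ∨ p = 19 ∨ 20 ≤ p ∨ (p = 14 ∨ p = 15 ∨ p = 16 ∨ p = 18) by (clear * - h14; omega)) with rfl | rfl | h20 | h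
  · exact lt_of_lt_of_le (by norm_num) h5
  · exact lt_of_lt_of_le (by norm_num) h5
  · have h6 : 20 ^ 7 ≤ p ^ 7 := Nat.pow_le_pow_left h20 7
    have h7 : 3 * 2 * 1 * 174182400 ≤ p ^ 7 := le_trans (by norm_num) h6
    calc _ ≤ (p - 13) * p ^ 7 + 1 := Nat.add_le_add_right (Nat.mul_le_mul_left _ h7) 1
      _ < p * p ^ 7 := by
        have h8 : 0 < p ^ 7 := Nat.pow_pos hp.pos
        obtain ⟨c, rfl⟩ : ∃ c, p = c + 20 := ⟨p - 20, by omega⟩
        have h9 : c + 20 - 13 = c + 7 := by omega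
        rw [h9]
        linarith only [h6]
      _ = p ^ 8 := by ring
      _ ≤ _ := h5
  · rcases h with rfl | rfl | rfl | rfl <;> exact absurd hp (by norm_num)

end Cfsg.Agent.H223.Bnd.H315.FineOrth
end

-- part: H223/Bnd/O12
section
/-!
# `Fine` for `PΩ⁻₁₂(2)`: at least twelve classes
-/

set_option autoImplicit false

namespace Cfsg.Agent.H223.Bnd.H315.FineOrth
universe u v w

open Cfsg Cfsg.Agent.H698 Cfsg.Agent.H912.Bd Cfsg.Agent.H315.FineNum Cfsg.Agent.H315.FineOrth Matrix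

abbrev M5 := Matrix (Fin 5) (Fin 5) (ZMod 2)

def a5 : M5 := !![1, 1, 0, 0, 0; 0, 1, 1, 0, 0; 0, 0, 1, 0, 0; 0, 0, 0, 0, 1; 0, 0, 0, 1, 1]
theorem a5_det : a5.det = 1 := by decide +kernel
def x5 : _root_.Matrix.SpecialLinearGroup (Fin 5) (ZMod 2) := ⟨a5, a5_det⟩
variable {K : Type} [Field K] [Fintype K]

/-- `PΩ⁻₁₂(2)` -/
theorem fine_minus_six (hq : Fintype.card K = 2) (a b : K)
    (hab : ∀ z₁ z₂ : K, z₁ ^ 2 + a * z₁ * z₂ + b * z₂ ^ 2 = 0 → z₁ = 0 ∧ z₂ = 0)
    (hN : Cop.{0, w} 2 (Cfsg.POmega K (Cfsg.quadFormMinus (6 - 1) K a b))) :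
    Cfsg.Agent.H223.Bnd.Bn.{0, w} (Cfsg.POmega K (Cfsg.quadFormMinus (6 - 1) K a b)) := by
  have : Finite (Cfsg.isometryGroup K (Cfsg.quadFormMinus (6 - 1) K a b)) := inferInstance
  have : Finite (Cfsg.POmega K (Cfsg.quadFormMinus (6 - 1) K a b)) := inferInstance
  obtain ⟨h1, h2, h3⟩ := minus_basic Nat.prime_two le_rfl (by rw [hq, pow_one]) (by norm_num : 4 ≤ 6) a b hab
  have haut := minus_aut_two hq (by norm_num : 4 ≤ 6) a b hab
  obtain ⟨σ⟩ : Nonempty (ZMod 2 ≃+* K) := by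
    have : Fintype.card (ZMod 2) = Fintype.card K := by rw [hq]; rfl
    exact ⟨FiniteField.ringEquivOfCardEq this⟩
  obtain ⟨f, hf⟩ := exists_minus (K := K) (le_refl 5) a b
  let j : _root_.Matrix.SpecialLinearGroup (Fin 5) (ZMod 2) →* Cfsg.POmega K (Cfsg.quadFormMinus (6 - 1) K a b) :=
    f.comp ((slO (K := K) (m := 5) (by norm_num)).comp (SpecialLinearGroup.map σ.toRingHom))
  have hj : Function.Injective j := by
    rw [injective_iff_map_eq_one]
    intro x hx
    have h5 : slO (K := K) (m := 5) (by norm_num) (SpecialLinearGroup.map σ.toRingHom x) ∈ Subgroup.center _ := hf hx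
    have h6 : x ∈ Subgroup.center (_root_.Matrix.SpecialLinearGroup (Fin 5) (ZMod 2)) := by
      rw [Subgroup.mem_center_iff] at h5 ⊢
      intro y
      have h6 := h5 (slO (K := K) (m := 5) (by norm_num) (SpecialLinearGroup.map σ.toRingHom y))
      rw [← map_mul, ← map_mul, ← map_mul, ← map_mul] at h6
      have h7 := slO_injective _ h6
      have hinj : Function.Injective (SpecialLinearGroup.map (n := Fin 5) σ.toRingHom) := by
        intro u v huv
        apply Subtype.ext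
        ext i j
        have h8 := congrFun (congrFun (congrArg Subtype.val huv) i) j
        exact σ.injective h8
      exact hinj h7
    obtain ⟨r, hr, hx'⟩ := Matrix.SpecialLinearGroup.mem_center_iff.1 h6
    have h8 : ∀ r : ZMod 2, r ^ 5 = 1 → r = 1 := by decide
    have h9 : r = 1 := h8 r (by simpa using hr)
    apply Subtype.ext
    rw [← hx', h9]
    simp
  exact Cfsg.Agent.H223.Bnd.Bn.of_twentythree (d := 20)
    (fun p m hp h23 hpT hm hR => rep_le hp Nat.prime_two h3 hpT hR hN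
      fun F _ hF => (Cfsg.Agent.H223.Bnd.Low.bd_sl52 hF).of_sub j hj) (haut.trans (by norm_num))

end Cfsg.Agent.H223.Bnd.H315.FineOrth
end

-- part: H223/Bnd/Omega
section
/-!
# `Fine` for the simple orthogonal groups
-/

set_option autoImplicit false

namespace Cfsg.Agent.H223.Bnd.H315.FineOrth
universe u v w

open Cfsg Cfsg.Agent.H698 Cfsg.Agent.H912.Bd Cfsg.Agent.H315.FineNum

section

variable {K : Type} [Field K] [Fintype K]

theorem fine_odd_all {m : ℕ} (hm : 3 ≤ m) (ho : Odd (Fintype.card K)) :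
    Cfsg.Agent.H223.Bnd.Bn.{0, w} (Cfsg.POmega K (Cfsg.quadFormOdd m K)) := by
  obtain ⟨p, f, hp, hf, hq, hpK⟩ := exists_pf (K := K)
  have hd : p ∣ Fintype.card K := by rw [hq]; exact dvd_pow_self p (by omega)
  by_cases h33 : m = 3 ∧ Fintype.card K = 3
  · obtain ⟨rfl, h3⟩ := h33
    refine fine_odd_three h3 ?_
    refine NoR.of_cyclic (S2086.result (F := K) h3 4 (by norm_num) (by norm_num) ?_) (by decide)
    rintro h
    simp only [Set.mem_insert_iff, Set.mem_singleton_iff, Prod.mk.injEq] at h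
    omega
  · refine fine_odd hp hpK hm ho h33 (NoR.of_cyclic (S2094.result (F := K) rfl ho m hm h33) ?_)
    rw [Nat.coprime_two_left]
    exact Odd.of_dvd_nat ho hd

theorem fine_plus_all {m : ℕ} (hm : 4 ≤ m) : Cfsg.Agent.H223.Bnd.Bn.{0, w} (Cfsg.POmega K (Cfsg.quadFormPlus m K)) := by
  obtain ⟨p, f, hp, hf, hq, hpK⟩ := exists_pf (K := K)
  have hd : p ∣ Fintype.card K := by rw [hq]; exact dvd_pow_self p (by omega)
  have hdm : p ∣ Fintype.card K ^ m := dvd_pow hd (by omega)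
  have hpos : 0 < Fintype.card K ^ m := pow_pos Fintype.card_pos _
  by_cases h42 : m = 4 ∧ Fintype.card K = 2
  · obtain ⟨rfl, h2⟩ := h42
    refine fine_plus_four_two h2 (NoR.of_mult (S2098.result (F := K) h2) ?_)
    rw [Nat.card_congr Multiplicative.toAdd, Nat.card_prod, Nat.card_zmod]
    decide
  · refine fine_plus hp hpK hm h42 ?_
    rcases Nat.even_or_odd m with hev | hod
    · refine NoR.of_mult (S2097.result (F := K) rfl m hm hev h42) ?_
      rw [Nat.card_congr Multiplicative.toAdd, Nat.card_prod, Nat.card_zmod]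
      have h1 : (Nat.gcd 2 (Fintype.card K ^ m - 1)).Coprime p := coprime_gcd_sub hp hpos hdm
      exact Nat.Coprime.mul_left h1 h1
    · have h5 : 5 ≤ m := by
        by_contra hcon
        have h4 : m = 4 := by omega
        rw [h4] at hod
        exact absurd hod (by decide)
      exact NoR.of_cyclic (S2096.result (F := K) rfl m h5 hod) (coprime_gcd_sub hp hpos hdm)

theorem fine_minus_all {m : ℕ} (hm : 4 ≤ m) (a b : K)
    (hab : ∀ z₁ z₂ : K, z₁ ^ 2 + a * z₁ * z₂ + b * z₂ ^ 2 = 0 → z₁ = 0 ∧ z₂ = 0) :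
    Cfsg.Agent.H223.Bnd.Bn.{0, w} (Cfsg.POmega K (Cfsg.quadFormMinus (m - 1) K a b)) := by
  obtain ⟨p, f, hp, hf, hq, hpK⟩ := exists_pf (K := K)
  have hd : p ∣ Fintype.card K := by rw [hq]; exact dvd_pow_self p (by omega)
  have hdm : p ∣ Fintype.card K ^ m := dvd_pow hd (by omega)
  have hN : NoR.{w} p (Cfsg.POmega K (Cfsg.quadFormMinus (m - 1) K a b)) :=
    NoR.of_cyclic (S2099.result (F := K) rfl m hm a b hab) (coprime_gcd_add hp hdm)
  by_cases h2 : Fintype.card K = 2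
  · obtain rfl : p = 2 := by
      have h4 : p ∣ 2 := by rw [← h2]; exact hd
      exact (Nat.prime_dvd_prime_iff_eq hp Nat.prime_two).1 h4
    by_cases h5 : m = 5
    · subst h5
      exact fine_minus_five h2 a b hab hN
    by_cases h6 : m = 6
    · subst h6
      exact fine_minus_six h2 a b hab hN
    exact fine_minus hp hpK hm a b hab (fun h => h5 h.1) (fun h => h6 h.1) hN
  · exact fine_minus hp hpK hm a b hab (fun h => h2 h.2) (fun h => h2 h.2) hN

end

/-- **The simple orthogonal groups are fine.** -/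
theorem fine_omega {T : Type u} [Group T] [Finite T]
    (h : Cfsg.IsPOmegaOdd T ∨ Cfsg.IsPOmegaPlus T ∨ Cfsg.IsPOmegaMinus T) : Cfsg.Agent.H223.Bnd.Bn.{u, u} T := by
  rcases h with ⟨K, _, _, m, hm, ho, ⟨e⟩⟩ | ⟨K, _, _, m, hm, ⟨e⟩⟩ | ⟨K, _, _, m, a, b, hm, hab, ⟨e⟩⟩
  · exact (fine_odd_all hm ho).congr e.symm
  · exact (fine_plus_all hm).congr e.symm
  · exact (fine_minus_all hm a b hab).congr e.symm

end Cfsg.Agent.H223.Bnd.H315.FineOrth
end

-- part: H223/Bnd/Exc1T
section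
/-!
helper762 (market task 768, for S4881): tools for the numerical condition `Fine`.
-/

set_option autoImplicit false

namespace Cfsg.Agent.H223.Bnd.H762.FineTools
open Cfsg Cfsg.Agent.H698 Cfsg.Agent.H92.KTools

universe u v w

section

variable {T : Type u} [Group T]

theorem center_bot [IsSimpleGroup T] (hna : ¬ IsMulCommutative T) : Subgroup.center T = ⊥ := by
  rcases (inferInstance : (Subgroup.center T).Normal).eq_bot_or_eq_top with h | h
  · exact h
  · exfalso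
    apply hna
    refine ⟨⟨fun a b => ?_⟩⟩
    have h1 : b ∈ Subgroup.center T := by rw [h]; trivial
    exact Subgroup.mem_center_iff.1 h1 a

open scoped commutatorElement in
theorem isPerfect [IsSimpleGroup T] (hna : ¬ IsMulCommutative T) : Group.IsPerfect T := by
  refine ⟨?_⟩
  rcases (inferInstance : (commutator T).Normal).eq_bot_or_eq_top with h1 | h1
  · exfalso
    apply hna
    refine ⟨⟨fun a b => ?_⟩⟩
    have h2 : ⁅a, b⁆ ∈ commutator T := Subgroup.commutator_mem_commutator (Subgroup.mem_top _) (Subgroup.mem_top _)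
    rw [h1, Subgroup.mem_bot, commutatorElement_eq_one_iff_mul_comm] at h2
    exact h2
  · exact h1

theorem conj_injective (hc : Subgroup.center T = ⊥) : Function.Injective (MulAut.conj : T →* MulAut T) := by
  rw [injective_iff_map_eq_one]
  intro a ha
  have h1 : a ∈ Subgroup.center T := by
    rw [Subgroup.mem_center_iff]
    intro x
    have h2 : a * x * a⁻¹ = x := DFunLike.congr_fun ha x
    calc x * a = (a * x * a⁻¹) * a := by rw [h2]
      _ = a * x := by group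
  rwa [hc, Subgroup.mem_bot] at h1

/-- element orders of `T` bound the number of classes of `X`, `Inn T ≤ X ≤ Aut T` -/
theorem classes_of_orders [Finite T] (hc : Subgroup.center T = ⊥) (s : Finset ℕ) (hs : ∀ n ∈ s, HasOrd T n)
    (X : Subgroup (MulAut T)) (hX : (MulAut.conj : T →* MulAut T).range ≤ X) : s.card ≤ Nat.card (ConjClasses X) := by
  let f : T →* X := (MulAut.conj : T →* MulAut T).codRestrict X (fun t => hX ⟨t, rfl⟩)
  have hf : Function.Injective f := fun a b h => conj_injective hc (congrArg Subtype.val h)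
  exact orders_le (G := X) s fun n hn => (hs n hn).of_injective f hf

theorem card_aut [Finite T] [IsSimpleGroup T] (hna : ¬ IsMulCommutative T) :
    Nat.card (MulAut T) = Nat.card T * Nat.card (Cfsg.Out T) := H57.TTOut.card_mulAut (center_bot hna)

theorem one_lt [Finite T] [IsSimpleGroup T] : 1 < Nat.card T := by
  have h : Nontrivial T := inferInstance
  exact Finite.one_lt_card

theorem not_comm [Finite T] [IsSimpleGroup T] (h : ¬ (Nat.card T).Prime) : ¬ IsMulCommutative T := by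
  intro hc
  apply h
  letI : CommGroup T := { (inferInstance : Group T) with mul_comm := hc.is_comm.comm }
  exact IsSimpleGroup.prime_card

/-- a degree bound `d + 1` and `|Aut T| ≤ 11 ^ d` -/
theorem of_LS [Finite T] [IsSimpleGroup T] (hna : ¬ IsMulCommutative T) {r d : ℕ} (hr : r.Prime)
    (hrT : r ∣ Nat.card T) (hLS : H203.LS.LS.{u, w, w} r (d + 1) T)
    (h : Nat.card T * Nat.card (Cfsg.Out T) ≤ 11 ^ d) : Cfsg.Agent.H223.Bnd.Bn.{u, w} T := by
  refine Cfsg.Agent.H223.Bnd.Bn.of_eleven (center_bot hna) one_lt (d := d) (fun p m hp h11 hpT hm hR => ?_) (by rwa [card_aut hna])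
  exact Rep.le_of_LS hp hr hrT hpT hR hLS

end

/-! ### arithmetic -/

theorem pow_six (n : ℕ) (hn : 8 ≤ n) : n ^ 6 ≤ 11 ^ (n - 2) := by
  induction n, hn using Nat.le_induction with
  | base => norm_num
  | succ n hn ih =>
    have e : n + 1 - 2 = n - 2 + 1 := by omega
    rw [e, pow_succ 11]
    have h1 : (n + 1) ^ 6 ≤ 11 * n ^ 6 := by
      obtain ⟨k, rfl⟩ := Nat.exists_eq_add_of_le hn
      ring_nf
      nlinarith only [pow_nonneg (Nat.zero_le k) 3]
    omega

end Cfsg.Agent.H223.Bnd.H762.FineTools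
end

-- part: H223/Bnd/Exc1A
section
/-!
helper762 (market task 768, for S4881): `Fine` for `G₂(q)`, `q ≥ 5`, `³D₄(q)`, `Sz(q)`, `²G₂(q)`, `²F₄(q)`.
-/

set_option autoImplicit false

namespace Cfsg.Agent.H223.Bnd.H762.FineExc
open Cfsg Cfsg.Agent.H698 Cfsg.Agent.H92.KTools Cfsg.Agent.H223.Bnd.H762.FineTools

universe u v w

theorem two_pow (n : ℕ) (a b : ℕ) (h : a * n ≤ 3 * b) : n ^ a ≤ 11 ^ b := by
  have h1 : n ≤ 2 ^ n := Nat.lt_two_pow_self.le
  calc n ^ a ≤ (2 ^ n) ^ a := Nat.pow_le_pow_left h1 a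
    _ = 2 ^ (a * n) := by rw [← pow_mul, mul_comm]
    _ ≤ 2 ^ (3 * b) := Nat.pow_le_pow_right (by norm_num) h
    _ = 8 ^ b := by rw [pow_mul]; norm_num
    _ ≤ 11 ^ b := Nat.pow_le_pow_left (by norm_num) b

/-! ### `G₂(q)` -/

theorem fine_g2_big {F : Type v} [Field F] [Fintype F] (h5 : 5 ≤ Fintype.card F) :
    Cfsg.Agent.H223.Bnd.Bn.{v, w} ↥(Lie.chevG2.group F) := by
  obtain ⟨r, hchar⟩ := CharP.exists F
  have hr : r.Prime := (CharP.char_is_prime_or_zero F r).resolve_right (CharP.char_ne_zero_of_finite F r)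
  have hfact : Fact r.Prime := ⟨hr⟩
  obtain ⟨⟨f, hf⟩, -, hcard⟩ := FiniteField.card F r
  have hcard : Fintype.card F = r ^ f := hcard
  set q := Fintype.card F with hq
  obtain ⟨hs, hna⟩ := S1055.result (F := F) (by
    classical
    by_contra hcon
    push Not at hcon
    have h1 : (Finset.univ : Finset F) ⊆ {0, 1} := by
      intro x _
      simp only [Finset.mem_insert, Finset.mem_singleton]
      by_cases hx : x = 0
      · exact Or.inl hx
      · exact Or.inr (hcon x hx)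
    have h2 := Finset.card_le_card h1
    have h3 : ({0, 1} : Finset F).card ≤ 2 := Finset.card_le_two
    rw [Finset.card_univ] at h2
    omega)
  have hT : Nat.card ↥(Lie.chevG2.group F) = q ^ 6 * (q ^ 2 - 1) * (q ^ 6 - 1) := S1059.result rfl
  have hout : Nat.card (Out ↥(Lie.chevG2.group F)) ≤ 2 * q := by
    rw [S2121.result r f hcard (by rw [← hcard]; omega)]
    have h1 : f < r ^ f := Nat.lt_pow_self hr.one_lt
    split_ifs <;> omega
  have hLS := H203.LS.G2.ls.{v, w, w} (r := r) F (by rw [Nat.card_eq_fintype_card]; omega)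
    (by rw [Nat.card_eq_fintype_card]; omega)
  rw [Nat.card_eq_fintype_card, ← hq] at hLS
  have hd : (q - 1) * q = (q - 1) * q - 1 + 1 := by
    have : 0 < (q - 1) * q := Nat.mul_pos (by omega) (by omega)
    omega
  rw [hd] at hLS
  refine of_LS hna hr ?_ hLS ?_
  · rw [hT]
    refine Dvd.dvd.mul_right (Dvd.dvd.mul_right (dvd_pow ?_ (by norm_num)) _) _
    rw [hcard]
    refine dvd_pow_self r ?_
    rintro rfl
    rw [pow_zero] at hcard
    omega
  · have h1 : Nat.card ↥(Lie.chevG2.group F) ≤ q ^ 14 := by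
      rw [hT]
      calc q ^ 6 * (q ^ 2 - 1) * (q ^ 6 - 1) ≤ q ^ 6 * q ^ 2 * q ^ 6 :=
            Nat.mul_le_mul (Nat.mul_le_mul_left _ (Nat.sub_le _ _)) (Nat.sub_le _ _)
        _ = q ^ 14 := by ring
    have h2 : Nat.card ↥(Lie.chevG2.group F) * Nat.card (Out ↥(Lie.chevG2.group F)) ≤ q ^ 16 := by
      calc _ ≤ q ^ 14 * (2 * q) := Nat.mul_le_mul h1 hout
        _ ≤ q ^ 14 * (q * q) := Nat.mul_le_mul_left _ (Nat.mul_le_mul_right _ (by omega))
        _ = q ^ 16 := by ring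
    refine h2.trans ?_
    by_cases h7 : 7 ≤ q
    · apply two_pow
      have h3 : 6 * q ≤ (q - 1) * q := Nat.mul_le_mul_right _ (by omega)
      omega
    · have h6 : q = 5 ∨ q = 6 := by omega
      rcases h6 with h6 | h6 <;> rw [h6] <;> norm_num

/-! ### `³D₄(q)` -/

theorem fine_3d4 {K : Type v} [Field K] [Fintype K] {q : ℕ} (hq : IsPrimePow q) (hK : Fintype.card K = q ^ 3) :
    Cfsg.Agent.H223.Bnd.Bn.{v, w} ↥(Lie.twistedD4 K q) := by
  obtain ⟨r, f, hr, hf, rfl⟩ := hq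
  have hr : r.Prime := hr.nat_prime
  have hfact : Fact r.Prime := ⟨hr⟩
  have hq : IsPrimePow (r ^ f) := ⟨r, f, hr.prime, hf, rfl⟩
  have hchar : CharP K r := H203.LS.charP_of_card (n := f * 3) hr (by rw [hK, pow_mul])
  obtain ⟨hs, hna⟩ := S1071.result hq hK
  have hT := S1067.result hq hK
  have hout : Nat.card (Out ↥(Lie.twistedD4 K (r ^ f))) ≤ 3 * r ^ f := by
    rw [S2129.result r f (by rw [hK, ← pow_mul, mul_comm]) hf]
    exact Nat.mul_le_mul_left _ (Nat.lt_pow_self hr.one_lt).le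
  have hLS := H203.LS.TwD4.ls.{v, w, w} (r := r) hq hK
  have h2 : 2 ≤ r ^ f := hq.two_le
  have hrq : r ∣ r ^ f := dvd_pow_self r hf.ne'
  generalize r ^ f = q at *
  have hd : (q - 1) * q ^ 4 = (q - 1) * q ^ 4 - 1 + 1 := by
    have : 0 < (q - 1) * q ^ 4 := Nat.mul_pos (by omega) (by positivity)
    omega
  rw [hd] at hLS
  refine of_LS hna hr ?_ hLS ?_
  · rw [hT]
    exact Dvd.dvd.mul_right (Dvd.dvd.mul_right (Dvd.dvd.mul_right (hrq.trans (dvd_pow_self _ (by norm_num))) _) _) _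
  · have h8 : q ^ 8 + q ^ 4 + 1 ≤ q ^ 9 := by
      have e1 : q ^ 9 = q * q ^ 8 := by ring
      have e2 : 2 * q ^ 8 ≤ q * q ^ 8 := Nat.mul_le_mul_right _ h2
      have e3 : q ^ 4 + 1 ≤ q ^ 8 := by
        have : q ^ 4 < q ^ 8 := Nat.pow_lt_pow_right (by omega) (by norm_num)
        omega
      omega
    have h1 : Nat.card ↥(Lie.twistedD4 K q) ≤ q ^ 29 := by
      rw [hT]
      calc q ^ 12 * (q ^ 2 - 1) * (q ^ 6 - 1) * (q ^ 8 + q ^ 4 + 1) ≤ q ^ 12 * q ^ 2 * q ^ 6 * q ^ 9 :=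
            Nat.mul_le_mul (Nat.mul_le_mul (Nat.mul_le_mul_left _ (Nat.sub_le _ _)) (Nat.sub_le _ _)) h8
        _ = q ^ 29 := by ring
    have h2' : Nat.card ↥(Lie.twistedD4 K q) * Nat.card (Out ↥(Lie.twistedD4 K q)) ≤ q ^ 32 := by
      calc _ ≤ q ^ 29 * (3 * q) := Nat.mul_le_mul h1 hout
        _ ≤ q ^ 29 * (q ^ 2 * q) := Nat.mul_le_mul_left _ (Nat.mul_le_mul_right _ (by nlinarith only [h2]))
        _ = q ^ 32 := by ring
    refine h2'.trans ?_
    by_cases h3 : 3 ≤ q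
    · apply two_pow
      have h4 : 54 * q ≤ (q - 1) * q ^ 4 := by
        have e1 : 2 * (27 * q) ≤ (q - 1) * q ^ 4 := by
          refine Nat.mul_le_mul (by omega) ?_
          have e2 : q ^ 4 = q ^ 3 * q := by ring
          rw [e2]
          refine Nat.mul_le_mul_right _ ?_
          calc 27 = 3 ^ 3 := by norm_num
            _ ≤ q ^ 3 := Nat.pow_le_pow_left h3 3
        omega
      omega
    · have h6 : q = 2 := by omega
      rw [h6]
      norm_num

/-! ### `Sz(q)` -/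

theorem fine_sz {F : Type v} [Field F] [Fintype F] {m : ℕ} (hm : 1 ≤ m) (hF : Fintype.card F = 2 ^ (2 * m + 1)) :
    Cfsg.Agent.H223.Bnd.Bn.{v, w} ↥(Lie.Sz F (2 ^ (m + 1))) := by
  have hs := S1162.result hm hF
  have hT := (S1163.result hm hF).1
  have hout : Nat.card (Out ↥(Lie.Sz F (2 ^ (m + 1)))) ≤ 2 ^ (2 * m + 1) := by
    rw [S2126.result hm hF]
    exact (Nat.lt_two_pow_self).le
  have hLS := H203.LS.LS.sz.{v, w, w} hm hF
  rw [Nat.card_eq_fintype_card, hF] at hLS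
  have h8 : 8 ≤ 2 ^ (2 * m + 1) := by
    calc 8 = 2 ^ 3 := by norm_num
      _ ≤ _ := Nat.pow_le_pow_right (by norm_num) (by omega)
  have h2q : 2 ∣ 2 ^ (2 * m + 1) := dvd_pow_self 2 (by omega)
  generalize 2 ^ (2 * m + 1) = q at *
  have hna : ¬ IsMulCommutative ↥(Lie.Sz F (2 ^ (m + 1))) := by
    intro hc
    have hp : (Nat.card ↥(Lie.Sz F (2 ^ (m + 1)))).Prime := by
      have : IsCyclic ↥(Lie.Sz F (2 ^ (m + 1))) := by
        letI : CommGroup ↥(Lie.Sz F (2 ^ (m + 1))) := { (inferInstance : Group ↥(Lie.Sz F (2 ^ (m + 1)))) with mul_comm := hc.is_comm.comm }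
        exact IsSimpleGroup.isCyclic
      letI : CommGroup ↥(Lie.Sz F (2 ^ (m + 1))) := { (inferInstance : Group ↥(Lie.Sz F (2 ^ (m + 1)))) with mul_comm := hc.is_comm.comm }
      exact IsSimpleGroup.prime_card
    rw [hT] at hp
    have h1 := Nat.not_prime_mul (a := q ^ 2 * (q - 1)) (b := q ^ 2 + 1) ?_ ?_
    · exact h1 hp
    · intro h2
      have := Nat.eq_one_of_mul_eq_one_right h2
      nlinarith only [h8, this]
    · nlinarith only [h8]
  have hd : q - 1 = q - 2 + 1 := by omega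
  rw [hd] at hLS
  refine of_LS hna Nat.prime_two ?_ hLS ?_
  · rw [hT]
    exact Dvd.dvd.mul_right (Dvd.dvd.mul_right (h2q.trans (dvd_pow_self _ (by norm_num))) _) _
  · have h1 : Nat.card ↥(Lie.Sz F (2 ^ (m + 1))) ≤ q ^ 5 := by
      rw [hT]
      obtain ⟨k, rfl⟩ : ∃ k, q = k + 1 := ⟨q - 1, by omega⟩
      rw [Nat.add_sub_cancel]
      calc (k + 1) ^ 2 * k * ((k + 1) ^ 2 + 1) = (k + 1) ^ 2 * (k * ((k + 1) ^ 2 + 1)) := by ring
        _ ≤ (k + 1) ^ 2 * (k + 1) ^ 3 := Nat.mul_le_mul_left _ (by linarith only [_root_.sq_nonneg (↑k : ℤ)])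
        _ = (k + 1) ^ 5 := by ring
    calc _ ≤ q ^ 5 * q := Nat.mul_le_mul h1 hout
      _ = q ^ 6 := by ring
      _ ≤ 11 ^ (q - 2) := pow_six q h8

/-! ### `²G₂(q)` -/

theorem pow_eight (n : ℕ) (hn : 27 ≤ n) : n ^ 8 ≤ 11 ^ (n - 2) := by
  induction n, hn using Nat.le_induction with
  | base => norm_num
  | succ n hn ih =>
    have e : n + 1 - 2 = n - 2 + 1 := by omega
    rw [e, pow_succ 11]
    have h1 : (n + 1) ^ 8 ≤ 11 * n ^ 8 := by
      have h2 : (n + 1) ^ 2 ≤ 3 * n ^ 2 - n ^ 2 := by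
        have : (n + 1) ^ 2 ≤ 2 * n ^ 2 := by nlinarith only [hn]
        omega
      have h3 : 27 * (n + 1) ≤ 28 * n := by omega
      have h4 : (27 * (n + 1)) ^ 8 ≤ (28 * n) ^ 8 := Nat.pow_le_pow_left h3 8
      rw [mul_pow, mul_pow] at h4
      have h5 : (27 : ℕ) ^ 8 = 282429536481 := by norm_num
      have h6 : (28 : ℕ) ^ 8 = 377801998336 := by norm_num
      rw [h5, h6] at h4
      omega
    omega

theorem fine_ree {F : Type v} [Field F] [Fintype F] {m : ℕ} (hm : 1 ≤ m) (hF : Fintype.card F = 3 ^ (2 * m + 1)) :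
    Cfsg.Agent.H223.Bnd.Bn.{v, w} ↥(Lie.twistedG2 F (3 ^ m)) := by
  obtain ⟨hs, hna⟩ := S1073.result hm hF
  have hT := S1069.result hF
  have hout : Nat.card (Out ↥(Lie.twistedG2 F (3 ^ m))) ≤ 3 ^ (2 * m + 1) := by
    rw [S2127.result hm hF]
    exact (Nat.lt_pow_self (by norm_num)).le
  have hLS := H203.LS.LS.ree.{v, w, w} hm hF
  rw [Nat.card_eq_fintype_card, hF] at hLS
  have h8 : 27 ≤ 3 ^ (2 * m + 1) := by
    calc 27 = 3 ^ 3 := by norm_num
      _ ≤ _ := Nat.pow_le_pow_right (by norm_num) (by omega)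
  have h2q : 3 ∣ 3 ^ (2 * m + 1) := dvd_pow_self 3 (by omega)
  generalize 3 ^ (2 * m + 1) = q at *
  have hd : q - 1 = q - 2 + 1 := by omega
  rw [hd] at hLS
  refine of_LS hna Nat.prime_three ?_ hLS ?_
  · rw [hT]
    exact Dvd.dvd.mul_right (Dvd.dvd.mul_right (h2q.trans (dvd_pow_self _ (by norm_num))) _) _
  · have h1 : Nat.card ↥(Lie.twistedG2 F (3 ^ m)) ≤ q ^ 7 := by
      rw [hT]
      obtain ⟨k, rfl⟩ : ∃ k, q = k + 1 := ⟨q - 1, by omega⟩
      rw [Nat.add_sub_cancel]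
      calc (k + 1) ^ 3 * k * ((k + 1) ^ 3 + 1) = (k + 1) ^ 3 * (k * ((k + 1) ^ 3 + 1)) := by ring
        _ ≤ (k + 1) ^ 3 * (k + 1) ^ 4 := Nat.mul_le_mul_left _ (by linarith only [pow_nonneg (Nat.zero_le k) 3, _root_.sq_nonneg (↑k : ℤ)])
        _ = (k + 1) ^ 7 := by ring
    calc _ ≤ q ^ 7 * q := Nat.mul_le_mul h1 hout
      _ = q ^ 8 := by ring
      _ ≤ 11 ^ (q - 2) := pow_eight q h8

/-! ### `²F₄(q)` -/

theorem fine_2f4 {F : Type v} [Field F] [Fintype F] {m : ℕ} (hm : 1 ≤ m) (hF : Fintype.card F = 2 ^ (2 * m + 1)) :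
    Cfsg.Agent.H223.Bnd.Bn.{v, w} ↥(Lie.twistedF4 F (2 ^ m)) := by
  obtain ⟨hs, hna⟩ := S1072.result hm hF
  have hT := S1068.result hF
  have hout : Nat.card (Out ↥(Lie.twistedF4 F (2 ^ m))) ≤ 2 ^ (2 * m + 1) := by
    rw [S2128.result hm hF]
    exact (Nat.lt_two_pow_self).le
  have hLS := H203.LS.TwF4.ls.{v, w, w} hm hF
  rw [Nat.card_eq_fintype_card, hF] at hLS
  have h8 : 8 ≤ 2 ^ (2 * m + 1) := by
    calc 8 = 2 ^ 3 := by norm_num
      _ ≤ _ := Nat.pow_le_pow_right (by norm_num) (by omega)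
  have h2q : 2 ∣ 2 ^ (2 * m + 1) := dvd_pow_self 2 (by omega)
  generalize 2 ^ (2 * m + 1) = q at *
  have hd : (q - 1) * q ^ 2 = (q - 1) * q ^ 2 - 1 + 1 := by
    have : 0 < (q - 1) * q ^ 2 := Nat.mul_pos (by omega) (by positivity)
    omega
  rw [hd] at hLS
  refine of_LS hna Nat.prime_two ?_ hLS ?_
  · rw [hT, mul_assoc, mul_assoc, mul_assoc]
    exact Dvd.dvd.mul_right (h2q.trans (dvd_pow_self _ (by norm_num))) _
  · have e3 : q ^ 3 + 1 ≤ q ^ 4 := by
      have : q ^ 3 < q ^ 4 := Nat.pow_lt_pow_right (by omega) (by norm_num)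
      omega
    have e6 : q ^ 6 + 1 ≤ q ^ 7 := by
      have : q ^ 6 < q ^ 7 := Nat.pow_lt_pow_right (by omega) (by norm_num)
      omega
    have h1 : Nat.card ↥(Lie.twistedF4 F (2 ^ m)) ≤ q ^ 28 := by
      rw [hT]
      calc q ^ 12 * (q - 1) * (q ^ 3 + 1) * (q ^ 4 - 1) * (q ^ 6 + 1) ≤ q ^ 12 * q * q ^ 4 * q ^ 4 * q ^ 7 :=
            Nat.mul_le_mul (Nat.mul_le_mul (Nat.mul_le_mul (Nat.mul_le_mul_left _ (Nat.sub_le _ _)) e3)
              (Nat.sub_le _ _)) e6
        _ = q ^ 28 := by ring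
    calc _ ≤ q ^ 28 * q := Nat.mul_le_mul h1 hout
      _ = q ^ 29 := by ring
      _ ≤ 11 ^ ((q - 1) * q ^ 2 - 1) := by
        apply two_pow
        have e1 : 7 * (8 * q) ≤ (q - 1) * q ^ 2 := by
          refine Nat.mul_le_mul (by omega) ?_
          rw [sq]
          exact Nat.mul_le_mul_right _ h8
        omega

end Cfsg.Agent.H223.Bnd.H762.FineExc
end

-- part: H223/Bnd/Exc1B
section
/-!
helper762 (market task 768, for S4881): `Fine` for the Tits group, `G₂(3)` and (given `m ≥ 7`) `G₂(4)`.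
-/

set_option autoImplicit false

namespace Cfsg.Agent.H223.Bnd.H762.FineExc
open Cfsg Cfsg.Agent.H698 Cfsg.Agent.H92.KTools Cfsg.Agent.H223.Bnd.H762.FineTools Cfsg.Agent.H203.LS

universe u v w

/-! ### The Tits group -/

/-- the nontrivial projective representations of the Tits group have degree at least six -/
theorem ls_tits : LS.{0, v, w} 13 6 Lie.TitsGroup := by
  obtain ⟨-, hs, hna, hcard⟩ := S1074.result
  refine LS.of_core fun P _ π k _ _ V _ _ _ ρ h => ?_
  have hfin : Finite Lie.TitsGroup := Nat.finite_of_card_ne_zero (by rw [hcard]; norm_num)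
  have hperf : Group.IsPerfect Lie.TitsGroup := isPerfect hna
  obtain ⟨η, hη⟩ := H487.exists_lift_of_trivial hperf S2115.result (MonoidHom.id Lie.TitsGroup) h.surj h.cen
  have hη' : ∀ x, π (η x) = x := fun x => DFunLike.congr_fun hη x
  obtain ⟨x, t, j, hx13, hx1, htx, hjx⟩ := H547.SelfCent.TitsRow.exists_tits
  let f : Lie.TitsGroup → V →ₗ[k] V := fun g => ρ (η g)
  have fmul : ∀ a b v, f (a * b) v = f a (f b v) := fun a b v => by
    show ρ (η (a * b)) v = _
    rw [map_mul, map_mul]; rfl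
  have hne : f x ≠ 1 := h.ne_one (by rw [hη']; exact hx1)
  have hpow : f x ^ 13 = 1 := by
    show ρ (η x) ^ 13 = 1
    rw [← map_pow, ← map_pow, hx13, map_one, map_one]
  obtain ⟨s, hs1, v, hv0, hv⟩ := exists_eigen h.rk hpow hne
  have hfpow : ∀ (n : ℕ) (v : V) (c : k), f x v = c • v → f (x ^ n) v = c ^ n • v := by
    intro n v c hc
    induction n with
    | zero => simp only [f, _root_.pow_zero, _root_.map_one, _root_.Module.End.one_apply, _root_.one_smul]
    | succ n ih => rw [pow_succ, fmul, hc, map_smul, ih, smul_smul, pow_succ']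
  have hs13 : s ^ 13 = 1 := by
    have h1 := hfpow 13 v s hv
    rw [hx13] at h1
    have h2 : f 1 v = v := by simp only [f, _root_.map_one, _root_.Module.End.one_apply]
    rw [h2] at h1
    have h3 : (s ^ 13 - 1) • v = 0 := by rw [sub_smul, one_smul, ← h1, sub_self]
    exact sub_eq_zero.1 ((smul_eq_zero.1 h3).resolve_right hv0)
  -- conjugating eigenvectors
  have hcj : ∀ (g : Lie.TitsGroup) (n : ℕ), g * x * g⁻¹ = x ^ n → ∀ (v : V) (c : k), f x v = c • v →
      f x (f g⁻¹ v) = c ^ n • f g⁻¹ v := by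
    intro g n hg v c hc
    have e : x * g⁻¹ = g⁻¹ * x ^ n := by rw [← hg]; group
    rw [← fmul, e, fmul, hfpow n v c hc, map_smul]
  have hinj : ∀ (g : Lie.TitsGroup) {v : V}, v ≠ 0 → f g v ≠ 0 := fun g v hv => h.ne_zero _ hv
  have hj12 : j * x * j⁻¹ = x ^ 12 := by
    rw [hjx, inv_eq_iff_mul_eq_one, ← pow_succ', hx13]
  have h13p : Nat.Prime 13 := by norm_num
  -- six eigenvalues
  let e : Fin 6 → ℕ := ![1, 3, 9, 12, 36, 108]
  have hvec : ∀ i : Fin 6, ∃ w : V, w ≠ 0 ∧ f x w = s ^ e i • w := by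
    have a1 : ∃ w : V, w ≠ 0 ∧ f x w = s ^ 1 • w := ⟨v, hv0, by rw [pow_one]; exact hv⟩
    have up3 : ∀ n, (∃ w : V, w ≠ 0 ∧ f x w = s ^ n • w) → ∃ w : V, w ≠ 0 ∧ f x w = s ^ (n * 3) • w := by
      rintro n ⟨w, hw, hw'⟩
      exact ⟨f t⁻¹ w, hinj _ hw, by rw [pow_mul]; exact hcj t 3 htx w _ hw'⟩
    have up12 : ∀ n, (∃ w : V, w ≠ 0 ∧ f x w = s ^ n • w) → ∃ w : V, w ≠ 0 ∧ f x w = s ^ (n * 12) • w := by
      rintro n ⟨w, hw, hw'⟩
      exact ⟨f j⁻¹ w, hinj _ hw, by rw [pow_mul]; exact hcj j 12 hj12 w _ hw'⟩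
    have a3 := up3 1 a1
    have a9 := up3 _ a3
    intro i
    fin_cases i
    · exact a1
    · exact a3
    · exact a9
    · exact up12 1 a1
    · exact up12 _ a3
    · exact up12 _ a9
  choose w hw0 hw using hvec
  have key := card_le_of_weights (k := k) (J := Unit) (fun _ => f x) w (fun i _ => s ^ e i) hw0 (fun i _ => hw i) (by
    intro a b hab
    have h1 : s ^ e a = s ^ e b := congrFun hab ()
    have hord : orderOf s = 13 := by
      have : Fact (Nat.Prime 13) := ⟨h13p⟩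
      exact orderOf_eq_prime hs13 hs1
    have hprim : IsPrimitiveRoot s 13 := by
      rw [← hord]
      exact IsPrimitiveRoot.orderOf s
    rw [pow_eq_pow_mod (e a) hs13, pow_eq_pow_mod (e b) hs13] at h1
    have h2 := hprim.pow_inj (Nat.mod_lt _ (by norm_num)) (Nat.mod_lt _ (by norm_num)) h1
    clear hab h1
    revert a b
    decide)
  simpa using key

theorem fine_tits_aux {T : Type v} [Group T] [Finite T] [IsSimpleGroup T] (hna : ¬ IsMulCommutative T)
    (hcard : Nat.card T = 2 ^ 11 * 3 ^ 3 * 5 ^ 2 * 13) (hout : Nat.card (Out T) ≤ 2) (h16 : HasOrd T 16)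
    (h12 : HasOrd T 12) (h10 : HasOrd T 10) (hLS : LS.{v, w, w} 13 6 T) : Cfsg.Agent.H223.Bnd.Bn.{v, w} T := by
  have hc := center_bot hna
  have h13 : HasOrd T 13 := hasOrd_prime (by norm_num) (by rw [hcard]; norm_num)
  have hA : Nat.card (MulAut T) ≤ 35942400 := by
    rw [card_aut hna, hcard]
    calc 2 ^ 11 * 3 ^ 3 * 5 ^ 2 * 13 * Nat.card (Out T) ≤ 2 ^ 11 * 3 ^ 3 * 5 ^ 2 * 13 * 2 :=
          Nat.mul_le_mul_left _ hout
      _ = 35942400 := by norm_num
  refine Cfsg.Agent.H223.Bnd.Bn.of_twentythree (d := 5) (fun p m hp h23 hpT hm hR => ?_) (hA.trans (by norm_num))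
  exact Rep.le_of_LS hp (by norm_num : Nat.Prime 13) (by rw [hcard]; norm_num) hpT hR hLS

set_option maxRecDepth 100000 in
theorem ho16 : HasOrd Lie.TitsGroup 16 := H92.ExcTits.hasOrd_tits (by decide) (by decide) H92.ExcTits.t16

set_option maxRecDepth 100000 in
theorem ho12 : HasOrd Lie.TitsGroup 12 := H92.ExcTits.hasOrd_tits (by decide) (by decide) H92.ExcTits.t12

set_option maxRecDepth 100000 in
theorem ho10 : HasOrd Lie.TitsGroup 10 := H92.ExcTits.hasOrd_tits (by decide) (by decide) H92.ExcTits.t10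

theorem fine_tits {T : Type v} [Group T] (h : Lie.IsoTits T) : Cfsg.Agent.H223.Bnd.Bn.{v, w} T := by
  have hcard : Nat.card T = 2 ^ 11 * 3 ^ 3 * 5 ^ 2 * 13 := by
    rw [H707.RowTits.card_eq h]; norm_num
  have hfin : Finite T := Nat.finite_of_card_ne_zero (by rw [hcard]; norm_num)
  have hs : IsSimpleGroup T := H226.Setup.simple_tits h
  have hna : ¬ IsMulCommutative T := not_comm (by rw [hcard]; norm_num)
  have hout := H867.TitsOut.card_out_le h
  obtain ⟨e⟩ := h
  exact fine_tits_aux hna hcard hout (ho16.of_equiv e.symm) (ho12.of_equiv e.symm)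
    (ho10.of_equiv e.symm) (LS.congr (T := Lie.TitsGroup) e.symm ls_tits.{w, w})

/-! ### `G₂(3)` -/

theorem fine_g2_three {F : Type v} [Field F] [Fintype F] (hF : Fintype.card F = 3) :
    Cfsg.Agent.H223.Bnd.Bn.{v, w} ↥(Lie.chevG2.group F) := by
  have hF' : Nat.card F = 3 := by rw [Nat.card_eq_fintype_card, hF]
  have hfact : Fact (Nat.Prime 3) := ⟨Nat.prime_three⟩
  have hchar : CharP F 3 := charP_of_card (n := 1) Nat.prime_three (by rw [hF]; norm_num)
  obtain ⟨hs, hna⟩ := S1055.result (F := F) (by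
    refine ⟨2, ?_, ?_⟩
    · intro h
      have h1 : ((2 : ℕ) : F) = 0 := by exact_mod_cast h
      rw [CharP.cast_eq_zero_iff F 3] at h1
      norm_num at h1
    · intro h
      exact one_ne_zero (α := F) (by linear_combination h))
  have hT : Nat.card ↥(Lie.chevG2.group F) = 4245696 := by rw [S1059.result hF]; norm_num
  have hA : Nat.card (MulAut ↥(Lie.chevG2.group F)) = 8491392 := by
    rw [card_aut hna, hT, S2121.result (F := F) 3 1 (by rw [hF]; norm_num) (by norm_num)]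
    norm_num
  have hLS := H203.LS.G2.ls.{v, w, w} (r := 3) F (by rw [hF']; norm_num) (by rw [hF']; norm_num)
  rw [hF'] at hLS
  have hc := center_bot hna
  -- element orders
  have h : Fintype.card F = Fintype.card (ZMod 3) := by rw [hF, ZMod.card]
  let e2 : F ≃+* ZMod 3 := FiniteField.ringEquivOfCardEq h
  let e3 := ChevalleyStructure.FieldIso.groupEquiv Lie.chevG2 e2
  have key : ∀ {x : GL Lie.chevG2.Idx (ZMod 3)} (_ : x ∈ Lie.chevG2.group (ZMod 3)) {n : ℕ}, orderOf x = n →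
      HasOrd ↥(Lie.chevG2.group F) n := by
    intro x hx n hn
    have h1 : HasOrd ↥(Lie.chevG2.group (ZMod 3)) n :=
      ⟨⟨x, hx⟩, by rw [← hn]; exact (orderOf_injective (Subgroup.subtype _) (Subgroup.subtype_injective _) ⟨x, hx⟩).symm⟩
    exact h1.of_equiv e3.symm
  have h13 : HasOrd ↥(Lie.chevG2.group F) 13 := hasOrd_prime (by norm_num) (by rw [hT]; norm_num)
  have h7 : HasOrd ↥(Lie.chevG2.group F) 7 := hasOrd_prime (by norm_num) (by rw [hT]; norm_num)
  have h8 : HasOrd ↥(Lie.chevG2.group F) 8 := key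
    (mul_mem (mul_mem (ChevalleyStructure.Elts.xG_mem_group H92.ExcThree.hG2 _ _) (ChevalleyStructure.Elts.xG_mem_group H92.ExcThree.hG2 _ _))
      (ChevalleyStructure.Elts.hG_mem_group H92.ExcThree.hG2 _ _))
    (H92.ExcThree.orderOf_eight H92.ExcThree.hG2 (i := 0) (j := 1) (t := 7) (by decide) (by decide) (by decide)
      (by decide) (by decide) (by decide) (by decide) (by decide) (by decide))
  have h12 : HasOrd ↥(Lie.chevG2.group F) 12 := by
    have ha : orderOf (ChevalleyStructure.Elts.xG H92.ExcThree.hG2 11 (1 : ZMod 3)) = 3 :=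
      H92.ExcOrd.orderOf_xG H92.ExcThree.hG2 (by decide) 3
    have ht : orderOf (ChevalleyStructure.Elts.nG H92.ExcThree.hG2 7 (1 : ZMod 3)) = 4 :=
      H92.ExcThree.ord_wel (i := 0) (t := 6) (by decide) (by decide) (by decide) (by decide) rfl
    refine key (x := ChevalleyStructure.Elts.xG H92.ExcThree.hG2 11 1 * ChevalleyStructure.Elts.nG H92.ExcThree.hG2 7 1)
      (mul_mem (ChevalleyStructure.Elts.xG_mem_group H92.ExcThree.hG2 _ _) (ChevalleyStructure.Elts.nG_mem_group H92.ExcThree.hG2 _ _)) ?_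
    rw [(H92.ExcThree.com_wel (by decide) (by decide) (by decide)).orderOf_mul_eq_mul_orderOf_of_coprime
      (by rw [ha, ht]; decide), ha, ht]
  refine Cfsg.Agent.H223.Bnd.Bn.of_classes (k := 8) ?_ ?_
  · have := classes_of_orders hc {1, 2, 3, 4, 6, 7, 8, 12, 13} (by
      simp only [Finset.mem_insert, Finset.mem_singleton, forall_eq_or_imp, forall_eq]
      exact ⟨hasOrd_one _, h12.of_dvd (by norm_num) (by norm_num), h12.of_dvd (by norm_num) (by norm_num),
        h12.of_dvd (by norm_num) (by norm_num), h12.of_dvd (by norm_num) (by norm_num), h7, h8, h12, h13⟩)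
    intro X hX
    exact le_trans (by decide) (this X hX)
  · intro p m hp h11 hpT hm hR
    have h6 := Rep.le_of_LS hp Nat.prime_three (by rw [hT]; norm_num) hpT hR hLS
    have h1 : p ^ 6 ≤ p ^ m := Nat.pow_le_pow_right (by omega) (by omega)
    rw [hA]
    have h13' : p ≠ 13 := by
      rintro rfl
      exact hpT (by rw [hT]; norm_num)
    have h3 : (p + 1 - 2 * 8) * 8491392 + 1 < p ^ 6 := by
      by_cases h37 : 25 ≤ p
      · have h4 : 25 ^ 5 ≤ p ^ 5 := Nat.pow_le_pow_left h37 5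
        have h5 : (p + 1 - 2 * 8) * 8491392 ≤ (p - 15) * p ^ 5 := by
          have e : p + 1 - 2 * 8 = p - 15 := by omega
          rw [e]
          exact Nat.mul_le_mul_left _ (le_trans (by norm_num) h4)
        have h7 : (p - 15) * p ^ 5 + 15 * p ^ 5 = p ^ 6 := by
          rw [← add_mul, Nat.sub_add_cancel (by omega)]; ring
        omega
      · have h38 : p < 25 := by omega
        clear h1 hR hpT hp h6
        interval_cases p <;> norm_num
    omega

/-! ### `G₂(4)` -/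

theorem fine_g2_four {F : Type v} [Field F] [Fintype F] (hF : Fintype.card F = 4)
    (h7 : ∀ p m : ℕ, p.Prime → 11 ≤ p → ¬ p ∣ Nat.card ↥(Lie.chevG2.group F) → 3 ≤ m →
      _root_.Cfsg.Agent.H698.Rep.{v, w} p m ↥(Lie.chevG2.group F) → 7 ≤ m) :
    Cfsg.Agent.H223.Bnd.Bn.{v, w} ↥(Lie.chevG2.group F) := by
  have hF' : Nat.card F = 4 := by rw [Nat.card_eq_fintype_card, hF]
  have hfact : Fact (Nat.Prime 2) := ⟨Nat.prime_two⟩
  have hchar : CharP F 2 := charP_of_card (n := 2) Nat.prime_two (by rw [hF]; norm_num)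
  obtain ⟨hs, hna⟩ := S1055.result (F := F) (by
    classical
    by_contra hcon
    push Not at hcon
    have h1 : (Finset.univ : Finset F) ⊆ {0, 1} := by
      intro x _
      simp only [Finset.mem_insert, Finset.mem_singleton]
      by_cases hx : x = 0
      · exact Or.inl hx
      · exact Or.inr (hcon x hx)
    have h2 := Finset.card_le_card h1
    have h3 : ({0, 1} : Finset F).card ≤ 2 := Finset.card_le_two
    rw [Finset.card_univ] at h2
    omega)
  have hT : Nat.card ↥(Lie.chevG2.group F) = 251596800 := by rw [S1059.result hF]; norm_num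
  have hA : Nat.card (MulAut ↥(Lie.chevG2.group F)) = 503193600 := by
    rw [card_aut hna, hT, S2121.result (F := F) 2 2 (by rw [hF]; norm_num) (by norm_num)]
    norm_num
  have hc := center_bot hna
  have h : Fintype.card SporRec.GF4.F4 = Fintype.card F := by rw [show Fintype.card SporRec.GF4.F4 = 4 from rfl, hF]
  let e : SporRec.GF4.F4 ≃+* F := FiniteField.ringEquivOfCardEq h
  let e3 := ChevalleyStructure.FieldIso.groupEquiv Lie.chevG2 e
  have ho : ∀ {n : ℕ}, HasOrd SporRec.G24Mat.Gp n → HasOrd ↥(Lie.chevG2.group F) n := fun h => h.of_equiv e3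
  have h8 := ho (H92.ExcG24.hasOrd H92.ExcG24.o8)
  have h10 := ho (H92.ExcG24.hasOrd H92.ExcG24.o10)
  have h12 := ho (H92.ExcG24.hasOrd H92.ExcG24.o12)
  have h13 := ho (H92.ExcG24.hasOrd H92.ExcG24.o13)
  have h15 := ho (H92.ExcG24.hasOrd H92.ExcG24.o15)
  have h21 := ho (H92.ExcG24.hasOrd H92.ExcG24.o21)
  refine Cfsg.Agent.H223.Bnd.Bn.of_twentythree (d := 6) (fun p m hp h23 hpT hm hR => ?_) (hA.le.trans (by norm_num))
  exact h7 p m hp (by omega) hpT hm hR

end Cfsg.Agent.H223.Bnd.H762.FineExc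
end

-- part: H223/Bnd/Exc1
section
/-!
helper762 (market task 768, for S4881): `Fine` for the exceptional groups `G₂`, `³D₄`, `Sz`, `²G₂`, `²F₄`, Tits.
-/

set_option autoImplicit false

namespace Cfsg.Agent.H223.Bnd.H762.FineExc
open Cfsg Cfsg.Agent.H698 Cfsg.Agent.H223.Bnd.H762.FineTools

universe u

theorem fine_g2 {T : Type u} [Group T] [Finite T] (h : Lie.IsoChevG2 T) : Cfsg.Agent.H223.Bnd.Bn.{u, u} T := by
  obtain ⟨F, _, _, h3, ⟨e⟩⟩ := h
  rcases Nat.lt_or_ge (Fintype.card F) 5 with h5 | h5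
  · have h34 : Fintype.card F = 3 ∨ Fintype.card F = 4 := by omega
    rcases h34 with hF | hF
    · exact (fine_g2_three hF).congr e.symm
    · refine (fine_g2_four hF fun p m hp h11 hpT hm hR => ?_).congr e.symm
      have hT : Nat.card T = 251596800 := by
        rw [Nat.card_congr e.toEquiv, S1059.result hF]; norm_num
      have hs : IsSimpleGroup T := by
        have := (S1055.result (F := F) (by
          classical
          by_contra hcon
          push Not at hcon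
          have h1 : (Finset.univ : Finset F) ⊆ {0, 1} := by
            intro x _
            simp only [Finset.mem_insert, Finset.mem_singleton]
            by_cases hx : x = 0
            · exact Or.inl hx
            · exact Or.inr (hcon x hx)
          have h2 := Finset.card_le_card h1
          have h3 : ({0, 1} : Finset F).card ≤ 2 := Finset.card_le_two
          rw [Finset.card_univ] at h2
          omega)).1
        exact e.isSimpleGroup
      have hna : ¬ IsMulCommutative T := not_comm (by rw [hT]; norm_num)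
      obtain ⟨h1, h2⟩ := H831.RepLift.prime_le hna hp (hR.congr e.symm) (s := 13) (by norm_num) (by rw [hT]; norm_num)
      by_contra hlt
      have hm6 : m = 6 := by omega
      obtain ⟨e'⟩ := h2 (by omega) (by rw [hT]; norm_num)
      have h13 : Fact (Nat.Prime 13) := ⟨by norm_num⟩
      have hc := SmallSimple.PSLTwoPart.card_psl_two_odd (F := ZMod 13) (by rw [ZMod.card]; decide)
      rw [← Nat.card_congr e'.toEquiv, hT, ZMod.card] at hc
      norm_num at hc
  · exact (fine_g2_big h5).congr e.symm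

theorem fine_exc1 {T : Type u} [Group T] [Finite T] (h : Lie.IsoChevG2 T ∨ Lie.Iso3D4 T ∨ Lie.IsoSuzuki T ∨
    Lie.IsoRee T ∨ Lie.Iso2F4 T ∨ Lie.IsoTits T) : Cfsg.Agent.H223.Bnd.Bn.{u, u} T := by
  rcases h with h | h | h | h | h | h
  · exact fine_g2 h
  · obtain ⟨K, _, _, q, hq, hK, ⟨e⟩⟩ := h
    exact (fine_3d4 hq hK).congr e.symm
  · obtain ⟨K, _, _, m, hm, hK, ⟨e⟩⟩ := h
    exact (fine_sz hm hK).congr e.symm
  · obtain ⟨K, _, _, m, hm, hK, ⟨e⟩⟩ := h
    exact (fine_ree hm hK).congr e.symm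
  · obtain ⟨K, _, _, m, hm, hK, ⟨e⟩⟩ := h
    exact (fine_2f4 hm hK).congr e.symm
  · exact fine_tits h

end Cfsg.Agent.H223.Bnd.H762.FineExc
end

-- part: H223/Bnd/Sec
section
/-!
# Projective representations: change of universe, restriction to sections (helper128)
-/

set_option autoImplicit false

namespace Cfsg.Agent.H223.Bnd.H128.FineSec
open Cfsg.Agent.H698 Subgroup
open scoped commutatorElement

universe u u' v w

/-- change of universe -/
theorem rep_down {p m : ℕ} {T : Type u} [Group T] {T₀ : Type v} [Group T₀] (h : _root_.Cfsg.Agent.H698.Rep.{u, w} p m T)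
    (e : T ≃* T₀) : _root_.Cfsg.Agent.H698.Rep.{v, 0} p m T₀ := by
  obtain ⟨F, _, _, _, P, _, _, π, ρ, h1, h2, h3, h4, h5⟩ := h
  let eP : Shrink.{0} P ≃* P := Shrink.mulEquiv
  let eF' : Shrink.{0} F ≃+* F := (equivShrink.{0} F).symm.ringEquiv
  let eF : F ≃+* Shrink.{0} F := eF'.symm
  have hfP : Finite (Shrink.{0} P) := Finite.of_equiv P eP.symm.toEquiv
  have hfF : Finite (Shrink.{0} F) := Finite.of_equiv F eF.toEquiv
  have hch : CharP (Shrink.{0} F) p := by
    refine ⟨fun x => ?_⟩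
    rw [← CharP.cast_eq_zero_iff F p x]
    constructor
    · intro hx
      apply eF.injective
      rw [map_natCast, map_zero]
      exact hx
    · intro hx
      have := congrArg eF hx
      rwa [map_natCast, map_zero] at this
  refine ⟨Shrink.{0} F, inferInstance, hfF, hch, Shrink.{0} P, inferInstance, hfP,
    (e.toMonoidHom.comp π).comp eP.toMonoidHom,
    ((Matrix.GeneralLinearGroup.map (n := Fin m) (eF : F →+* Shrink.{0} F)).comp ρ).comp eP.toMonoidHom, ?_, ?_, ?_, ?_, ?_⟩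
  · exact (e.surjective.comp h1).comp eP.surjective
  · intro x hx
    rw [MonoidHom.mem_ker] at hx
    have h6 : π (eP x) = 1 := e.injective (by rw [map_one]; exact hx)
    have h7 := h2 (MonoidHom.mem_ker.2 h6)
    rw [Subgroup.mem_center_iff] at h7 ⊢
    intro y
    apply eP.injective
    rw [map_mul, map_mul]
    exact h7 (eP y)
  · have h6 : (_root_.commutator (Shrink.{0} P)).map eP.toMonoidHom = ⊤ := by
      rw [_root_.commutator_def, Subgroup.map_commutator, ← MonoidHom.range_eq_map,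
        MonoidHom.range_eq_top.2 eP.surjective, ← _root_.commutator_def, h3]
    rw [eq_top_iff]
    intro x _
    have h7 : eP x ∈ (commutator (Shrink.{0} P)).map eP.toMonoidHom := by rw [h6]; trivial
    obtain ⟨y, hy, hyx⟩ := h7
    rwa [← eP.injective hyx]
  · intro a b hab
    apply eP.injective
    apply h4
    apply Units.ext
    ext i j
    have h6 := congrArg (fun x : Matrix.GeneralLinearGroup (Fin m) (Shrink.{0} F) =>
      (x : Matrix (Fin m) (Fin m) (Shrink.{0} F)) i j) hab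
    exact eF.injective h6
  · rw [Nat.card_congr eP.toEquiv]
    exact h5

/-- a perfect subgroup mapping onto a perfect group -/
theorem exists_perfect {Q S : Type*} [Group Q] [Finite Q] [Group S] (φ : Q →* S) (hφ : Function.Surjective φ)
    (hS : commutator S = ⊤) : ∃ D : Subgroup Q, D.map φ = ⊤ ∧ ⁅D, D⁆ = D := by
  classical
  let s : Set (Subgroup Q) := {D | D.map φ = ⊤}
  have hs : s.Nonempty := ⟨⊤, by
    show (⊤ : Subgroup Q).map φ = ⊤
    rw [← MonoidHom.range_eq_map]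
    exact MonoidHom.range_eq_top.2 hφ⟩
  obtain ⟨D, hD, hmin⟩ := WellFounded.has_min (wellFounded_lt : WellFounded ((· < ·) : Subgroup Q → Subgroup Q → Prop)) s hs
  refine ⟨D, hD, ?_⟩
  have h1 : ⁅D, D⁆ ∈ s := by
    show (⁅D, D⁆).map φ = ⊤
    rw [Subgroup.map_commutator, show D.map φ = ⊤ from hD, ← _root_.commutator_def]
    exact hS
  have h2 : ⁅D, D⁆ ≤ D := commutator_le_self D
  rcases h2.lt_or_eq with h3 | h3
  · exact absurd h3 (hmin _ h1)
  · exact h3

theorem commutator_top {S : Type*} [Group S] [IsSimpleGroup S] (hS : ¬ IsMulCommutative S) : commutator S = ⊤ := by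
  rcases (inferInstance : (commutator S).Normal).eq_bot_or_eq_top with h6 | h6
  · exfalso
    apply hS
    refine ⟨⟨fun a b => ?_⟩⟩
    have h7 : ⁅a, b⁆ ∈ commutator S := Subgroup.commutator_mem_commutator (Subgroup.mem_top _) (Subgroup.mem_top _)
    rw [h6, Subgroup.mem_bot, commutatorElement_eq_one_iff_mul_comm] at h7
    exact h7
  · exact h6

/-- **Restriction to a section.** -/
theorem rep_section {p m : ℕ} {T : Type u} [Group T] (h : _root_.Cfsg.Agent.H698.Rep.{u, w} p m T) {K : Subgroup T} {S : Type v}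
    [Group S] [IsSimpleGroup S] (hS : ¬ IsMulCommutative S) (φ : K →* S) (hφ : Function.Surjective φ)
    (hc : φ.ker ≤ center K) : _root_.Cfsg.Agent.H698.Rep.{v, w} p m S := by
  obtain ⟨F, _, _, _, P, _, _, π, ρ, h1, h2, h3, h4, h5⟩ := h
  let Q : Subgroup P := K.comap π
  let πQ : Q →* K := (π.comp Q.subtype).codRestrict K (fun x => x.2)
  let ψ : Q →* S := φ.comp πQ
  have hπQ : Function.Surjective πQ := by
    intro k
    obtain ⟨x, hx⟩ := h1 k.1
    exact ⟨⟨x, by change π x ∈ K; rw [hx]; exact k.2⟩, Subtype.ext hx⟩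
  have hψ : Function.Surjective ψ := hφ.comp hπQ
  obtain ⟨D, hD, hDD⟩ := exists_perfect ψ hψ (commutator_top hS)
  -- the elements of `D` in the kernel are central in `D`
  have hcen : ∀ x ∈ D, ψ x = 1 → ∀ y ∈ D, x * y = y * x := by
    intro x hx hx1 y hy
    have hk : πQ x ∈ center K := hc hx1
    have hz : ∀ y : Q, ((⁅x, y⁆ : Q) : P) ∈ center P := by
      intro y
      apply h2
      rw [MonoidHom.mem_ker]
      have h6 : πQ ⁅x, y⁆ = 1 := by
        rw [map_commutatorElement, commutatorElement_eq_one_iff_mul_comm]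
        exact (mem_center_iff.1 hk (πQ y)).symm
      exact congrArg Subtype.val h6
    -- the homomorphism `y ↦ [x, y]`
    let f : Q →* center P :=
      { toFun := fun y => ⟨((⁅x, y⁆ : Q) : P), hz y⟩
        map_one' := by
          apply Subtype.ext
          change ((⁅x, (1 : Q)⁆ : Q) : P) = 1
          rw [commutatorElement_one_right]
          rfl
        map_mul' := by
          intro a b
          apply Subtype.ext
          change ((⁅x, a * b⁆ : Q) : P) = ((⁅x, a⁆ : Q) : P) * ((⁅x, b⁆ : Q) : P)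
          have h7 := mem_center_iff.1 (hz b) (a : P)
          have h8 : ((⁅x, a * b⁆ : Q) : P) = ((⁅x, a⁆ : Q) : P) * ((a : P) * ((⁅x, b⁆ : Q) : P) * (a : P)⁻¹) := by
            simp only [commutatorElement_def, Subgroup.coe_mul, InvMemClass.coe_inv]
            group
          rw [h8, h7, mul_inv_cancel_right] }
    have h9 : D ≤ f.ker := by
      rw [← hDD, Subgroup.commutator_le]
      intro a _ b _
      rw [MonoidHom.mem_ker, map_commutatorElement, commutatorElement_eq_one_iff_mul_comm]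
      exact Subtype.ext (mem_center_iff.1 (f b).2 _)
    have h10 : f y = 1 := h9 hy
    have h11 : ((⁅x, y⁆ : Q) : P) = 1 := congrArg Subtype.val h10
    exact commutatorElement_eq_one_iff_mul_comm.1 (Subtype.ext h11)
  refine ⟨F, inferInstance, inferInstance, inferInstance, D, inferInstance, inferInstance, ψ.comp D.subtype,
    (ρ.comp Q.subtype).comp D.subtype, ?_, ?_, ?_, ?_, ?_⟩
  · intro s
    have h6 : s ∈ D.map ψ := by rw [hD]; trivial
    obtain ⟨d, hd, rfl⟩ := h6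
    exact ⟨⟨d, hd⟩, rfl⟩
  · intro x hx
    rw [Subgroup.mem_center_iff]
    intro y
    exact Subtype.ext (hcen x x.2 hx y y.2).symm
  · rw [_root_.commutator_def, eq_top_iff]
    intro x _
    have h7 : (x : Q) ∈ ⁅D, D⁆ := by rw [hDD]; exact x.2
    have h8 : (⁅(⊤ : Subgroup D), (⊤ : Subgroup D)⁆).map D.subtype = ⁅D, D⁆ := by
      rw [Subgroup.map_commutator, ← MonoidHom.range_eq_map, Subgroup.range_subtype]
    rw [← h8] at h7
    obtain ⟨y, hy, hyx⟩ := h7
    rwa [← Subtype.ext (show (y : Q) = x from hyx)]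
  · intro a b hab
    exact Subtype.ext (Subtype.ext (h4 hab))
  · intro h6
    exact h5 ((h6.trans (Subgroup.card_subgroup_dvd_card D)).trans (Subgroup.card_subgroup_dvd_card Q))

/-- The form with a homomorphism `f : H → T` and a homomorphism `φ : H → S` with central kernels. -/
theorem rep_of_hom {p m : ℕ} {T : Type u} [Group T] (h : _root_.Cfsg.Agent.H698.Rep.{u, w} p m T) {H : Type u'} [Group H] (f : H →* T)
    (hf : f.ker ≤ center H) {S : Type v}
    [Group S] [IsSimpleGroup S] (hS : ¬ IsMulCommutative S) (φ : H →* S) (hφ : Function.Surjective φ)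
    (hc : φ.ker ≤ center H) : _root_.Cfsg.Agent.H698.Rep.{v, w} p m S := by
  have hcS : center S = ⊥ := by
    rcases (inferInstance : (center S).Normal).eq_bot_or_eq_top with h6 | h6
    · exact h6
    · exact absurd ⟨⟨fun a b => (mem_center_iff.1 (by rw [h6]; trivial : a ∈ center S) b).symm⟩⟩ hS
  have hle : f.ker ≤ φ.ker := by
    intro x hx
    rw [MonoidHom.mem_ker]
    have h1 : φ x ∈ center S := by
      rw [mem_center_iff]
      intro s
      obtain ⟨y, rfl⟩ := hφ s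
      rw [← map_mul, ← map_mul, mem_center_iff.1 (hf hx) y]
    rwa [hcS, mem_bot] at h1
  have hle' : f.rangeRestrict.ker ≤ φ.ker := by
    rw [MonoidHom.ker_rangeRestrict]
    exact hle
  let g : f.range →* S := MonoidHom.liftOfSurjective f.rangeRestrict f.rangeRestrict_surjective ⟨φ, hle'⟩
  have hg : ∀ x, g (f.rangeRestrict x) = φ x := fun x =>
    MonoidHom.liftOfRightInverse_comp_apply f.rangeRestrict _ _ ⟨φ, hle'⟩ x
  refine rep_section h hS g ?_ ?_
  · intro s
    obtain ⟨x, rfl⟩ := hφ s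
    exact ⟨f.rangeRestrict x, hg x⟩
  · intro y hy
    obtain ⟨x, rfl⟩ := f.rangeRestrict_surjective y
    rw [MonoidHom.mem_ker, hg] at hy
    have h1 := hc hy
    rw [mem_center_iff] at h1 ⊢
    intro z
    obtain ⟨t, rfl⟩ := f.rangeRestrict_surjective z
    rw [← map_mul, ← map_mul, h1]

/-- The conclusion from a lower bound. -/
theorem fine_of {T : Type u} [Group T] [Finite T] [IsSimpleGroup T] (hna : ¬ IsMulCommutative T) {N d : ℕ}
    (hN : Nat.card T = N) (hN7 : 3263442 < N)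
    (hidx : (MulAut.conj : T →* MulAut T).range.index ≤ 2) (hd1 : 2 ≤ d) (hd : 2 * N ≤ 17 ^ (d - 1))
    (hm : ∀ p m : ℕ, p.Prime → 11 ≤ p → ¬ p ∣ Nat.card T → _root_.Cfsg.Agent.H698.Rep.{u, u} p m T → d ≤ m) : Cfsg.Agent.H223.Bnd.Bn.{u, u} T := by
  have hcT : center T = ⊥ := by
    rcases (inferInstance : (center T).Normal).eq_bot_or_eq_top with h6 | h6
    · exact h6
    · exact absurd ⟨⟨fun a b => (mem_center_iff.1 (by rw [h6]; trivial : a ∈ center T) b).symm⟩⟩ hna
  have hA : Nat.card (MulAut T) ≤ 2 * N := by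
    have h1 := Subgroup.card_mul_index (MulAut.conj : T →* MulAut T).range
    have h2 : Nat.card ↥(MulAut.conj : T →* MulAut T).range ≤ N := by
      rw [← hN]
      exact Nat.card_le_card_of_surjective _ (MonoidHom.rangeRestrict_surjective (MulAut.conj : T →* MulAut T))
    rw [← h1, mul_comm 2]
    exact Nat.mul_le_mul h2 hidx
  refine Cfsg.Agent.H223.Bnd.Bn.of_lt7 hcT (by rw [hN]; exact hN7) fun p m hp h11 hpT _ hR => ?_
  have hdm := hm p m hp h11 hpT hR
  rcases lt_or_ge p 17 with h17 | h17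
  · have hp13 : p ≤ 13 := by
      by_contra hcon
      have : p = 14 ∨ p = 15 ∨ p = 16 := by omega
      rcases this with rfl | rfl | rfl
      · exact absurd hp (by norm_num)
      · exact absurd hp (by norm_num)
      · exact absurd hp (by norm_num)
    rw [Nat.sub_eq_zero_of_le hp13, zero_mul, zero_add]
    exact Nat.one_lt_pow (by omega) hp.one_lt
  · have h1 : 17 ^ (d - 1) ≤ p ^ (d - 1) := Nat.pow_le_pow_left h17 _
    have h2 : p * p ^ (d - 1) ≤ p ^ m := by
      rw [← pow_succ']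
      exact Nat.pow_le_pow_right hp.pos (by omega)
    have h3 : (p - 13) * Nat.card (MulAut T) ≤ (p - 13) * p ^ (d - 1) :=
      Nat.mul_le_mul_left _ (hA.trans (hd.trans h1))
    have h4 : (p - 13) * p ^ (d - 1) + 13 * p ^ (d - 1) = p * p ^ (d - 1) := by
      rw [← add_mul]
      congr 1
      omega
    have h5 : 0 < p ^ (d - 1) := Nat.pow_pos hp.pos
    omega

end Cfsg.Agent.H223.Bnd.H128.FineSec
end

-- part: H223/Bnd/SporB1
section
/-!
# The condition `Fine` for the sporadic groups, second part (helper128)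
-/

set_option autoImplicit false

namespace Cfsg.Agent.H223.Bnd.H128.FineSpor
open Cfsg Cfsg.Agent.H698 Cfsg.Agent.H912.Bd Cfsg.Agent.H223.Bnd.H128.FineSec Subgroup

universe u v

/-- the bounds `Bd`, for `p ≠ r` -/
theorem le_of_Bd' {p m r d : ℕ} {T : Type} [Group T] (hp : p.Prime) (hr : r.Prime) (hne : r ≠ p)
    (h : _root_.Cfsg.Agent.H698.Rep.{0, 0} p m T) {A : Type v} [CommGroup A] (hM : Cfsg.HasSchurMultiplier T A)
    (hA : (Nat.card A).Coprime r) (hB : ∀ (F : Type) [Field F], (r : F) ≠ 0 → Bd F r d T) : d ≤ m := by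
  obtain ⟨F, _, _, _, hPR⟩ := h.exists_PR hM hA
  refine hB F ?_ m hPR
  rw [Ne, CharP.cast_eq_zero_iff F p]
  intro h6
  rw [Nat.prime_dvd_prime_iff_eq hp hr] at h6
  exact hne h6.symm

/-! ### `PSU₃(3)`, `PSU₃(5)` -/

theorem le_psu {p m q : ℕ} (hp : p.Prime) (hq : q.Prime) (hq2 : q ≠ 2) (hne : q ≠ p) {F : Type} [Field F] [Fintype F]
    (hF : Fintype.card F = q ^ 2) (hg : (Nat.gcd 3 (q + 1)).Coprime q) (h : _root_.Cfsg.Agent.H698.Rep.{0, 0} p m (PSU 3 F q)) :
    (q - 1) * q ^ (3 - 2) ≤ m := by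
  have hqF : Fact q.Prime := ⟨hq⟩
  have : CharP F q := by
    obtain ⟨r, hr⟩ := CharP.exists F
    have hr' : r.Prime := CharP.char_is_prime F r
    have : Fact r.Prime := ⟨hr'⟩
    obtain ⟨n, hn, hc⟩ := FiniteField.card F r
    rw [hF] at hc
    have h1 : r ∣ q ^ 2 := by rw [hc]; exact dvd_pow_self r n.pos.ne'
    have h2 := (Nat.prime_dvd_prime_iff_eq hr' hq).1 (hr'.dvd_of_dvd_pow h1)
    rw [← h2]; exact hr
  have hM := Cfsg.Agent.S2089.result (F := F) 3 q hF le_rfl (fun h => hq2 h.2) (by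
    simp only [Set.mem_insert_iff, Set.mem_singleton_iff, Prod.mk.injEq]
    omega)
  refine le_of_Bd' hp hq hne h hM ?_ fun F' _ hF' => ?_
  · rw [Nat.card_congr Multiplicative.toAdd, Nat.card_zmod]
    exact hg
  · exact Cfsg.Agent.H175.BdSU.bd_psu hq hF le_rfl hF' (MulEquiv.refl _)

theorem rep_psu_five {p m : ℕ} {F : Type} [Field F] [Fintype F] (hF : Fintype.card F = 25) {T : Type u} [Group T]
    (h : _root_.Cfsg.Agent.H698.Rep.{u, 0} p m T) (f : PSU 3 F 5 →* T) (hf : f.ker ≤ center _) : Rep.{0, 0} p m (PSU 3 F 5) := by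
  have hs : IsSimpleGroup (PSU 3 F 5) := Cfsg.Agent.S0283.result (by rw [hF]; norm_num) 3 le_rfl (by omega)
  have hna : ¬ IsMulCommutative (PSU 3 F 5) := Cfsg.Agent.CpAut.Fix.not_comm_quot (H := ↥(Cfsg.SU 3 F 5)) (hs := hs)
  exact rep_of_hom h f hf hna (MonoidHom.id _) Function.surjective_id (by
    intro x hx
    rw [MonoidHom.mem_ker] at hx
    change x = 1 at hx
    rw [hx]
    exact one_mem _)

theorem le_five {p m : ℕ} (hp : p.Prime) (h11 : 11 ≤ p) {F : Type} [Field F] [Fintype F] (hF : Fintype.card F = 25)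
    (h : _root_.Cfsg.Agent.H698.Rep.{0, 0} p m (PSU 3 F 5)) : 20 ≤ m :=
  le_psu hp (by norm_num) (by norm_num) (by omega) (by rw [hF]; norm_num) (by norm_num) h

/-! ### the general pattern -/

theorem fine_sp {T : Type u} [Group T] [Finite T] (hsp : IsSporadicGroup T) {N d : ℕ}
    (hN : Nat.card T = N) (hN7 : 3263442 < N) (hd1 : 2 ≤ d) (hd : 2 * N ≤ 17 ^ (d - 1))
    (hm : ∀ p m : ℕ, p.Prime → 11 ≤ p → _root_.Cfsg.Agent.H698.Rep.{u, u} p m T → d ≤ m) : Cfsg.Agent.H223.Bnd.Bn.{u, u} T := by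
  have hs : IsSimpleGroup T := H14.KnownSimple.sporadic hsp
  exact fine_of (H47.MeetS.not_comm_spor hsp) hN hN7 (H498.SporOut.index_le_two hsp) hd1 hd
    fun p m hp h11 _ h => hm p m hp h11 h

/-! ### `HS`, `McL`, `Co₁` -/

section

open Cfsg.Agent.H792.SpU35

theorem hs_twenty {T : Type u} [Group T] (hT : Spor.IsoHS T) {p m : ℕ} (hp : p.Prime) (h11 : 11 ≤ p)
    (h : _root_.Cfsg.Agent.H698.Rep.{u, u} p m T) : 20 ≤ m := by
  obtain ⟨e⟩ := hT
  obtain ⟨F, _, _, hF⟩ := exists_field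
  obtain ⟨x, Tr⟩ := exists_tri sq_V hs_pair.1 hs_pair.2
  obtain ⟨e1⟩ := Tr.exists_hom hF
  let W := MulAction.stabilizer Co0 Spor.leechV ⊓ MulAction.stabilizer Co0 (-(Spor.leechV + Spor.leechU')) ⊓
      MulAction.stabilizer Co0 x
  let f : W →* Spor.HS := (Co0.subtype.comp W.subtype).codRestrict Spor.HS fun g => mem_HS g.2.1.1 g.2.1.2
  have hf : Function.Injective f := by
    intro a b h
    have h1 := congrArg Subtype.val h
    exact Subtype.ext (Subtype.ext h1)
  have hinj : Function.Injective (f.comp e1.toMonoidHom) := by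
    rw [MonoidHom.coe_comp]
    exact hf.comp e1.injective
  refine le_five hp h11 hF (rep_psu_five hF (rep_down h e) (f.comp e1.toMonoidHom) ?_)
  rw [(MonoidHom.ker_eq_bot_iff _).2 hinj]
  exact bot_le

theorem mcl_twenty {T : Type u} [Group T] (hT : Spor.IsoMcL T) {p m : ℕ} (hp : p.Prime) (h11 : 11 ≤ p)
    (h : _root_.Cfsg.Agent.H698.Rep.{u, u} p m T) : 20 ≤ m := by
  obtain ⟨e⟩ := hT
  obtain ⟨F, _, _, hF⟩ := exists_field
  obtain ⟨x, Tr⟩ := exists_tri_mcl
  obtain ⟨e1⟩ := Tr.exists_hom hF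
  let W := MulAction.stabilizer Co0 x ⊓ MulAction.stabilizer Co0 Spor.leechV ⊓ MulAction.stabilizer Co0 Spor.leechU
  let f : W →* Spor.McL := (Co0.subtype.comp W.subtype).codRestrict Spor.McL fun g => ⟨⟨g.1.2, g.2.1.2⟩, g.2.2⟩
  have hf : Function.Injective f := by
    intro a b h
    have h1 := congrArg Subtype.val h
    exact Subtype.ext (Subtype.ext h1)
  have hinj : Function.Injective (f.comp e1.toMonoidHom) := by
    rw [MonoidHom.coe_comp]
    exact hf.comp e1.injective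
  refine le_five hp h11 hF (rep_psu_five hF (rep_down h e) (f.comp e1.toMonoidHom) ?_)
  rw [(MonoidHom.ker_eq_bot_iff _).2 hinj]
  exact bot_le

theorem co1_twenty {T : Type u} [Group T] (hT : Spor.IsoCo1 T) {p m : ℕ} (hp : p.Prime) (h11 : 11 ≤ p)
    (h : _root_.Cfsg.Agent.H698.Rep.{u, u} p m T) : 20 ≤ m := by
  obtain ⟨e⟩ := hT
  obtain ⟨F, _, _, hF⟩ := exists_field
  obtain ⟨x, Tr⟩ := exists_tri_mcl
  obtain ⟨e1⟩ := Tr.exists_hom hF
  let W := MulAction.stabilizer Co0 x ⊓ MulAction.stabilizer Co0 Spor.leechV ⊓ MulAction.stabilizer Co0 Spor.leechU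
  let f : W →* Spor.Co1 := (QuotientGroup.mk' (center Co0)).comp W.subtype
  refine le_five hp h11 hF (rep_psu_five hF (rep_down h e) (f.comp e1.toMonoidHom) ?_)
  intro y hy
  have h1 : ((e1 y : W) : Co0) ∈ center Co0 := by
    have h2 : (QuotientGroup.mk' (center Co0)) ((e1 y : W) : Co0) = 1 := hy
    rwa [QuotientGroup.mk'_apply, QuotientGroup.eq_one_iff] at h2
  rw [mem_center_iff]
  intro z
  apply e1.injective
  rw [map_mul, map_mul]
  exact Subtype.ext (mem_center_iff.1 h1 ((e1 z : W) : Co0))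

end

theorem fine_hs {T : Type u} [Group T] [Finite T] (hsp : IsSporadicGroup T) (h : Spor.IsoHS T) : Cfsg.Agent.H223.Bnd.Bn.{u, u} T :=
  fine_sp hsp (NotCT.Orders.hs h) (d := 20) (by norm_num) (by norm_num) (by norm_num)
    fun _ _ hp h11 hR => hs_twenty h hp h11 hR

theorem fine_mcl {T : Type u} [Group T] [Finite T] (hsp : IsSporadicGroup T) (h : Spor.IsoMcL T) : Cfsg.Agent.H223.Bnd.Bn.{u, u} T :=
  fine_sp hsp (NotCT.Orders.mcl h) (d := 20) (by norm_num) (by norm_num) (by norm_num)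
    fun _ _ hp h11 hR => mcl_twenty h hp h11 hR

theorem fine_co1 {T : Type u} [Group T] [Finite T] (hsp : IsSporadicGroup T) (h : Spor.IsoCo1 T) : Cfsg.Agent.H223.Bnd.Bn.{u, u} T :=
  fine_sp hsp (NotCT.Orders.co1 h) (d := 20) (by norm_num) (by norm_num) (by norm_num)
    fun _ _ hp h11 hR => co1_twenty h hp h11 hR

end Cfsg.Agent.H223.Bnd.H128.FineSpor
end

-- part: H223/Bnd/SporB2
section
/-!
# The condition `Fine` for `J₂`, `Suz`, `HN`, `Fi₂₂`, `Fi₂₃`, `Fi₂₄'` (helper128)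
-/

set_option autoImplicit false

namespace Cfsg.Agent.H223.Bnd.H128.FineSpor
open Cfsg Cfsg.Agent.H698 Cfsg.Agent.H912.Bd Cfsg.Agent.H223.Bnd.H128.FineSec Subgroup

universe u v

/-! ### `J₂` -/

theorem j2_six {T : Type u} [Group T] (hT : Spor.IsoJ2 T) {p m : ℕ} (hp : p.Prime) (h11 : 11 ≤ p)
    (h : _root_.Cfsg.Agent.H698.Rep.{u, u} p m T) : 6 ≤ m := by
  obtain ⟨e⟩ := hT
  obtain ⟨H, -, ⟨F, _, _, hF, ⟨e1⟩⟩, -⟩ := S1624.result
  have hs : IsSimpleGroup (PSU 3 F 3) := Cfsg.Agent.S0283.result (by rw [hF]; norm_num) 3 le_rfl (by omega)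
  have hna : ¬ IsMulCommutative (PSU 3 F 3) := Cfsg.Agent.CpAut.Fix.not_comm_quot (H := ↥(Cfsg.SU 3 F 3)) (hs := hs)
  have h1 : _root_.Cfsg.Agent.H698.Rep.{0, 0} p m (PSU 3 F 3) := rep_section (rep_down h e) hna e1.toMonoidHom e1.surjective (by
    rw [(MonoidHom.ker_eq_bot_iff _).2 e1.injective]
    exact bot_le)
  exact le_psu hp (by norm_num) (by norm_num) (by omega) (by rw [hF]; norm_num) (by norm_num) h1

theorem fine_j2 {T : Type u} [Group T] [Finite T] (hsp : IsSporadicGroup T) (h : Spor.IsoJ2 T) : Cfsg.Agent.H223.Bnd.Bn.{u, u} T := by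
  have hs : IsSimpleGroup T := H14.KnownSimple.sporadic hsp
  have hna := H47.MeetS.not_comm_spor hsp
  have hN := NotCT.Orders.j2 h
  have hidx := H498.SporOut.index_le_two hsp
  have hcT : center T = ⊥ := by
    rcases (inferInstance : (center T).Normal).eq_bot_or_eq_top with h6 | h6
    · exact h6
    · exact absurd ⟨⟨fun a b => (mem_center_iff.1 (by rw [h6]; trivial : a ∈ center T) b).symm⟩⟩ hna
  have hA : Nat.card (MulAut T) ≤ 1209600 := by
    have h1 := Subgroup.card_mul_index (MulAut.conj : T →* MulAut T).range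
    have h2 : Nat.card ↥(MulAut.conj : T →* MulAut T).range ≤ 604800 := by
      rw [← hN]
      exact Nat.card_le_card_of_surjective _ (MonoidHom.rangeRestrict_surjective (MulAut.conj : T →* MulAut T))
    rw [← h1]
    exact Nat.mul_le_mul h2 hidx
  refine Cfsg.Agent.H223.Bnd.Bn.of_lt6 hcT (by rw [hN]; norm_num) fun p m hp h11 hpT _ hR => ?_
  have hdm := j2_six h hp h11 hR
  rcases lt_or_ge p 17 with h17 | h17
  · have hp13 : p = 11 ∨ p = 13 := by
      have : p = 11 ∨ p = 12 ∨ p = 13 ∨ p = 14 ∨ p = 15 ∨ p = 16 := by omega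
      rcases this with rfl | rfl | rfl | rfl | rfl | rfl
      · exact Or.inl rfl
      · exact absurd hp (by norm_num)
      · exact Or.inr rfl
      · exact absurd hp (by norm_num)
      · exact absurd hp (by norm_num)
      · exact absurd hp (by norm_num)
    rcases hp13 with rfl | rfl
    · rw [Nat.sub_self, zero_mul, zero_add]
      exact Nat.one_lt_pow (by omega) hp.one_lt
    · have h1 : 13 ^ 6 ≤ 13 ^ m := Nat.pow_le_pow_right (by norm_num) hdm
      have h2 : (13 - 11) * Nat.card (MulAut T) ≤ 2 * 1209600 := Nat.mul_le_mul_left _ hA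
      have h3 : (13 : ℕ) ^ 6 = 4826809 := by norm_num
      omega
  · have h1 : 17 ^ 5 ≤ p ^ 5 := Nat.pow_le_pow_left h17 _
    have h2 : p * p ^ 5 ≤ p ^ m := by
      rw [← pow_succ']
      exact Nat.pow_le_pow_right hp.pos (by omega)
    have h3 : (p - 11) * Nat.card (MulAut T) ≤ (p - 11) * p ^ 5 :=
      Nat.mul_le_mul_left _ (hA.trans ((by norm_num : 1209600 ≤ 17 ^ 5).trans h1))
    have h4 : (p - 11) * p ^ 5 + 11 * p ^ 5 = p * p ^ 5 := by
      rw [← add_mul]
      congr 1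
      omega
    have h5 : 0 < p ^ 5 := Nat.pow_pos hp.pos
    omega

/-! ### `HN` -/

theorem rep_of_cover {p m : ℕ} {T : Type u} [Group T] (h : _root_.Cfsg.Agent.H698.Rep.{u, 0} p m T) {K : Type*} [Group K] (i : K →* T)
    (hi : Function.Injective i) {X : Type*} [Group X] (g : K →* X) (hg : Function.Surjective g)
    (hgc : g.ker ≤ center K) {S : Type} [Group S] [IsSimpleGroup S] (hS : ¬ IsMulCommutative S) (f : S →* X)
    (hf : Function.Injective f) : _root_.Cfsg.Agent.H698.Rep.{0, 0} p m S := by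
  let H : Subgroup K := f.range.comap g
  let e := MonoidHom.ofInjective hf
  let φ : H →* S := e.symm.toMonoidHom.comp ((g.comp H.subtype).codRestrict f.range (fun x => x.2))
  have hφ' : ∀ x : H, f (φ x) = g x := by
    intro x
    change f (e.symm _) = _
    rw [← MonoidHom.ofInjective_apply hf]
    exact congrArg Subtype.val (e.apply_symm_apply _)
  refine rep_of_hom h (i.comp H.subtype) ?_ hS φ ?_ ?_
  · rw [(MonoidHom.ker_eq_bot_iff (i.comp H.subtype)).2 (by
      rw [MonoidHom.coe_comp]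
      exact hi.comp H.subtype_injective)]
    exact bot_le
  · intro s
    obtain ⟨k, hk⟩ := hg (f s)
    exact ⟨⟨k, ⟨s, hk.symm⟩⟩, hf (by rw [hφ']; exact hk)⟩
  · intro x hx
    rw [MonoidHom.mem_ker] at hx
    have h1 : g x = 1 := by rw [← hφ', hx, map_one]
    have h2 := hgc (MonoidHom.mem_ker.2 h1)
    rw [mem_center_iff] at h2 ⊢
    intro y
    exact Subtype.ext (h2 y)

theorem hn_twenty {T : Type u} [Group T] (hT : Spor.IsoHN T) {p m : ℕ} (hp : p.Prime) (h11 : 11 ≤ p)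
    (h : _root_.Cfsg.Agent.H698.Rep.{u, u} p m T) : 20 ≤ m := by
  obtain ⟨e⟩ := hT
  obtain ⟨K, _, -, -, ⟨e2⟩, -⟩ := S1708.result
  obtain ⟨F, _, _, hF⟩ := H792.SpU35.exists_field
  have hs : IsSimpleGroup (PSU 3 F 5) := Cfsg.Agent.S0283.result (by rw [hF]; norm_num) 3 le_rfl (by omega)
  have hna : ¬ IsMulCommutative (PSU 3 F 5) := Cfsg.Agent.CpAut.Fix.not_comm_quot (H := ↥(Cfsg.SU 3 F 5)) (hs := hs)
  -- the embedding in `HS`
  obtain ⟨x, Tr⟩ := H792.SpU35.exists_tri H792.SpU35.sq_V H792.SpU35.hs_pair.1 H792.SpU35.hs_pair.2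
  obtain ⟨e1⟩ := Tr.exists_hom hF
  let W := MulAction.stabilizer Co0 Spor.leechV ⊓ MulAction.stabilizer Co0 (-(Spor.leechV + Spor.leechU')) ⊓
      MulAction.stabilizer Co0 x
  let f : W →* Spor.HS := (Co0.subtype.comp W.subtype).codRestrict Spor.HS fun g => H792.SpU35.mem_HS g.2.1.1 g.2.1.2
  have hf : Function.Injective f := by
    intro a b h
    have h1 := congrArg Subtype.val h
    exact Subtype.ext (Subtype.ext h1)
  have hinj : Function.Injective (f.comp e1.toMonoidHom) := by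
    rw [MonoidHom.coe_comp]
    exact hf.comp e1.injective
  refine le_five hp h11 hF ?_
  refine rep_of_cover (rep_down h e) ((Subgroup.subtype _).comp K.subtype) ?_
    (e2.toMonoidHom.comp (QuotientGroup.mk' (center ↥K))) ?_ ?_ hna (f.comp e1.toMonoidHom) hinj
  · rw [MonoidHom.coe_comp]
    exact (Subgroup.subtype_injective _).comp K.subtype_injective
  · rw [MonoidHom.coe_comp]
    exact e2.surjective.comp (QuotientGroup.mk'_surjective _)
  · intro y hy
    have h1 : e2 (QuotientGroup.mk' (center ↥K) y) = 1 := hy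
    rw [MulEquiv.map_eq_one_iff, QuotientGroup.mk'_apply, QuotientGroup.eq_one_iff] at h1
    exact h1

theorem fine_hn {T : Type u} [Group T] [Finite T] (hsp : IsSporadicGroup T) (h : Spor.IsoHN T) : Cfsg.Agent.H223.Bnd.Bn.{u, u} T :=
  fine_sp hsp (NotCT.Orders.hn h) (d := 20) (by norm_num) (by norm_num) (by norm_num)
    fun _ _ hp h11 hR => hn_twenty h hp h11 hR

/-! ### `Fi₂₂` -/

instance fact3 : Fact (Nat.Prime 3) := ⟨Nat.prime_three⟩

theorem fi22_26 {T : Type u} [Group T] (hT : Spor.IsoFi22 T) {p m : ℕ} (hp : p.Prime) (h11 : 11 ≤ p)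
    (h : _root_.Cfsg.Agent.H698.Rep.{u, u} p m T) : 26 ≤ m := by
  obtain ⟨e⟩ := hT
  obtain ⟨e1⟩ := S1686.result
  obtain ⟨f, hf⟩ := exists_odd (K := ZMod 3) (le_refl 3)
  obtain ⟨e2⟩ := Cfsg.Agent.S0302.result (F := ZMod 3)
  have hs : IsSimpleGroup (Matrix.ProjectiveSpecialLinearGroup (Fin 4) (ZMod 3)) :=
    S0249.result 4 (by norm_num)
  have hna : ¬ IsMulCommutative (Matrix.ProjectiveSpecialLinearGroup (Fin 4) (ZMod 3)) :=
    Cfsg.Agent.CpAut.Fix.not_comm_quot (H := Matrix.SpecialLinearGroup (Fin 4) (ZMod 3)) (hs := hs)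
  have hfk : ((Subgroup.subtype _).comp (e1.symm.toMonoidHom.comp f)).ker ≤ center _ := by
    intro x hx
    apply hf
    rw [MonoidHom.mem_ker] at hx ⊢
    have h1 : e1.symm (f x) = 1 := Subtype.ext hx
    rwa [MulEquiv.map_eq_one_iff] at h1
  have h1 : _root_.Cfsg.Agent.H698.Rep.{0, 0} p m (Matrix.ProjectiveSpecialLinearGroup (Fin 4) (ZMod 3)) := by
    refine rep_of_hom (rep_down h e) _ hfk hna
      (e2.toMonoidHom.comp (QuotientGroup.mk' (center (Omega (ZMod 3) (quadFormPlus 3 (ZMod 3)))))) ?_ ?_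
    · rw [MonoidHom.coe_comp]
      exact e2.surjective.comp (QuotientGroup.mk'_surjective _)
    · intro y hy
      have h1 : e2 (QuotientGroup.mk' _ y) = 1 := hy
      rw [MulEquiv.map_eq_one_iff, QuotientGroup.mk'_apply, QuotientGroup.eq_one_iff] at h1
      exact h1
  have hM := Cfsg.Agent.S2086.result (F := ZMod 3) (q := 3) (by rw [ZMod.card]) 4 (by norm_num) (by omega) (by
    simp only [Set.mem_insert_iff, Set.mem_singleton_iff, Prod.mk.injEq]
    omega)
  have h2 := le_of_Bd' hp Nat.prime_three (by omega) h1 hM (r := 3) (d := 26) (by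
      rw [Nat.card_congr Multiplicative.toAdd, Nat.card_zmod]
      norm_num) fun F' _ hF' => by
    have h3 := bd_psl (F := F') (r := 3) Nat.prime_three hF' (m := 4) (by norm_num) (K := ZMod 3) inferInstance
    rwa [ZMod.card] at h3
  exact h2

theorem fine_fi22 {T : Type u} [Group T] [Finite T] (hsp : IsSporadicGroup T) (h : Spor.IsoFi22 T) : Cfsg.Agent.H223.Bnd.Bn.{u, u} T :=
  fine_sp hsp (NotCT.Orders.fi22 h) (d := 26) (by norm_num) (by norm_num) (by norm_num)
    fun _ _ hp h11 hR => fi22_26 h hp h11 hR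

/-! ### `Fi₂₃`, `Fi₂₄'` -/

theorem le_PO {p m : ℕ} (hp : p.Prime) (h11 : 11 ≤ p) (h : _root_.Cfsg.Agent.H698.Rep.{0, 0} p m H840.M499.PO) : 26 ≤ m := by
  have hM := Cfsg.Agent.S2097.result (F := ZMod 3) (q := 3) (by rw [ZMod.card]) 4 le_rfl (by decide) (by omega)
  refine le_of_Bd' hp Nat.prime_three (by omega) h hM (r := 3) (d := 26) ?_ fun F' _ hF' => ?_
  · rw [Nat.card_congr Multiplicative.toAdd, Nat.card_prod, Nat.card_zmod]
    norm_num
  · have h3 := bd_pomega_plus_cube (F := F') (r := 3) (K := ZMod 3) Nat.prime_three hF' inferInstance (m := 4)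
      (by norm_num)
    rwa [ZMod.card] at h3

theorem fi23_26 {T : Type u} [Group T] (hT : Spor.IsoFi23 T) {p m : ℕ} (hp : p.Prime) (h11 : 11 ≤ p)
    (h : _root_.Cfsg.Agent.H698.Rep.{u, u} p m T) : 26 ≤ m := by
  obtain ⟨e⟩ := hT
  obtain ⟨e1⟩ := H843.FullFiD.EE_equiv
  have hs : IsSimpleGroup H840.M499.PO := S0296.result 4 le_rfl
  refine le_PO hp h11 (rep_section (rep_down h e) H840.M499.not_comm_PO e1.toMonoidHom e1.surjective ?_)
  rw [(MonoidHom.ker_eq_bot_iff _).2 e1.injective]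
  exact bot_le

theorem fi24_26 {T : Type u} [Group T] (hT : Spor.IsoFi24' T) {p m : ℕ} (hp : p.Prime) (h11 : 11 ≤ p)
    (h : _root_.Cfsg.Agent.H698.Rep.{u, u} p m T) : 26 ≤ m := by
  obtain ⟨e⟩ := hT
  obtain ⟨e1⟩ := H843.FullFiD.EE_equiv
  have hs : IsSimpleGroup H840.M499.PO := S0296.result 4 le_rfl
  let f : Spor.Fi23 →* Spor.Fi24' := H843.FullFiD.ph.codRestrict (_root_.commutator Spor.Fi24)
    fun x => (H843.FullFiD.mem_range.1 ⟨x, rfl⟩).2
  have hf : Function.Injective f := by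
    intro a b hab
    exact H843.FullFiD.ph_injective (congrArg Subtype.val hab)
  have hinj : Function.Injective (f.comp (H843.FullFiD.EE.subtype.comp e1.symm.toMonoidHom)) := by
    rw [MonoidHom.coe_comp, MonoidHom.coe_comp]
    exact hf.comp (H843.FullFiD.EE.subtype_injective.comp e1.symm.injective)
  refine le_PO hp h11 (rep_of_hom (rep_down h e) (f.comp (H843.FullFiD.EE.subtype.comp e1.symm.toMonoidHom)) ?_
    H840.M499.not_comm_PO (MonoidHom.id _) Function.surjective_id ?_)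
  · rw [(MonoidHom.ker_eq_bot_iff _).2 hinj]
    exact bot_le
  · intro x hx
    have hx' : x = 1 := hx
    rw [hx']
    exact one_mem _

theorem fine_fi23 {T : Type u} [Group T] [Finite T] (hsp : IsSporadicGroup T) (h : Spor.IsoFi23 T) : Cfsg.Agent.H223.Bnd.Bn.{u, u} T :=
  fine_sp hsp (NotCT.Orders.fi23 h) (d := 26) (by norm_num) (by norm_num) (by norm_num)
    fun _ _ hp h11 hR => fi23_26 h hp h11 hR

theorem fine_fi24 {T : Type u} [Group T] [Finite T] (hsp : IsSporadicGroup T) (h : Spor.IsoFi24' T) : Cfsg.Agent.H223.Bnd.Bn.{u, u} T :=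
  fine_sp hsp (NotCT.Orders.fi24 h) (d := 26) (by norm_num) (by norm_num) (by norm_num)
    fun _ _ hp h11 hR => fi24_26 h hp h11 hR

/-! ### `Suz` -/

section

open Cfsg.Agent.H812.SuzFive Cfsg.Agent.H812 Cfsg.Agent.H812.FiveBasis Cfsg.Agent.H812.FiveMain
open Cfsg.Agent.J2Type.SylowFive

/-- the pair of order twelve -/
def p0 : T43 := (⟨2, 3, by decide, by decide⟩, finRotate 3)

theorem act_p0 : ∀ i : Fin 12, i ≠ 0 → ∀ u : V2, act (p0 ^ i.val) u = u → u = 0 := by
  decide +kernel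

theorem bd_suz {T : Type u} [Group T] [Finite T] (hT : Spor.IsoSuz T) {F : Type v} [Field F] (h5F : ((5 : ℕ) : F) ≠ 0) :
    Bd F 5 12 T := by
  obtain ⟨e⟩ := hT
  have h5 : Fact (Nat.Prime 5) := ⟨by norm_num⟩
  obtain ⟨P⟩ : Nonempty (Sylow 5 T) := inferInstance
  have hcard : Nat.card T = 448345497600 := NotCT.Orders.suz ⟨e⟩
  have hP25 : Nat.card (P : Subgroup T) = 25 := by
    have := J2Type.SylowSeven.card_sylow P 2 17933819904 (by rw [hcard]; norm_num) (by norm_num)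
    rw [this]; norm_num
  have hG : Nat.card T = 200 * 2241727488 := by rw [hcard]
  have hm : 2241727488 % 5 = 3 := by norm_num
  have hg0 : Good (e.symm SuzLoc.x5) := good_map e.symm good_x5
  obtain ⟨g, hg⟩ := exists_conj_mem_sylow P (y := e.symm SuzLoc.x5) (n := 1) (by rw [hg0.1]; norm_num)
  have hg1 := hg0.conj g
  have hsq : IsConj (g * e.symm SuzLoc.x5 * g⁻¹) ((g * e.symm SuzLoc.x5 * g⁻¹) ^ 2) := by
    obtain ⟨c, hc⟩ := isConj_iff.1 conj_sq
    have h1 : e.symm c * e.symm SuzLoc.x5 * (e.symm c)⁻¹ = (e.symm SuzLoc.x5) ^ 2 := by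
      rw [← map_inv, ← map_mul, ← map_mul, hc, map_pow]
    refine isConj_iff.2 ⟨g * e.symm c * g⁻¹, ?_⟩
    rw [conj_pow, ← h1]
    group
  obtain ⟨b, H, -⟩ := FiveMain.exists_nrm hP25 hG hm hg1 hsq hg
  obtain ⟨n, hn⟩ := H.surjective p0
  have hrel : ∀ i : ℕ, ∀ u : V2, (n : T) ^ i * c b u * ((n : T) ^ i)⁻¹ = c b (act (p0 ^ i) u) := by
    intro i u
    have h1 := H.hom_spec (n ^ i)
    rw [map_pow, hn] at h1
    have h2 := rel_c H.bas h1 u
    rwa [Subgroup.coe_pow] at h2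
  have hPn : ∀ y ∈ (P : Subgroup T), (n : T) * y * (n : T)⁻¹ ∈ (P : Subgroup T) := fun y hy =>
    (mem_normalizer_iff.1 n.2 y).1 hy
  refine bd_of_frob (by norm_num) h5F (P : Subgroup T) H.comm P.isPGroup' ?_ 12 hPn ?_
  · intro h
    rw [h, card_bot] at hP25
    norm_num at hP25
  · intro i hi hi12 y hy hc
    obtain ⟨w, rfl⟩ := H.surjP y hy
    have h1 : (n : T) ^ i * c b w * ((n : T) ^ i)⁻¹ = c b w := by rw [hc, mul_inv_cancel_right]
    rw [hrel] at h1
    have h2 := c_inj H.bas h1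
    have h3 := act_p0 ⟨i, hi12⟩ (by
      intro h
      have := congrArg Fin.val h
      simp only [Fin.val_zero] at this
      omega) w h2
    rw [h3, c_zero]

end

theorem suz_12 {T : Type u} [Group T] (hT : Spor.IsoSuz T) {p m : ℕ} (hp : p.Prime) (h11 : 11 ≤ p)
    (h : _root_.Cfsg.Agent.H698.Rep.{u, u} p m T) : 12 ≤ m := by
  obtain ⟨e⟩ := hT
  have hfin : Finite Spor.Suz := Nat.finite_of_card_ne_zero (by
    rw [NotCT.Orders.suz (K := Spor.Suz) ⟨MulEquiv.refl _⟩]; norm_num)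
  refine le_of_Bd' hp (r := 5) (by norm_num) (by omega) (rep_down h e) S2048.result ?_ fun F' _ hF' => ?_
  · rw [Nat.card_congr Multiplicative.toAdd, Nat.card_zmod]
    norm_num
  · exact bd_suz ⟨MulEquiv.refl _⟩ hF'

theorem fine_suz {T : Type u} [Group T] [Finite T] (hsp : IsSporadicGroup T) (h : Spor.IsoSuz T) : Cfsg.Agent.H223.Bnd.Bn.{u, u} T :=
  fine_sp hsp (NotCT.Orders.suz h) (d := 12) (by norm_num) (by norm_num) (by norm_num)
    fun _ _ hp h11 hR => suz_12 h hp h11 hR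

/-- **The condition `Fine`, second part of the sporadic groups.** -/
theorem fine_spor2 {T : Type u} [Group T] [Finite T] (h : Cfsg.Spor.IsoJ2 T ∨ Cfsg.Spor.IsoHS T ∨ Cfsg.Spor.IsoMcL T ∨
    Cfsg.Spor.IsoCo1 T ∨ Cfsg.Spor.IsoSuz T ∨ Cfsg.Spor.IsoFi22 T ∨ Cfsg.Spor.IsoFi23 T ∨ Cfsg.Spor.IsoFi24' T ∨
    Cfsg.Spor.IsoHN T) : Cfsg.Agent.H223.Bnd.Bn.{u, u} T := by
  have hsp : IsSporadicGroup T := by
    unfold IsSporadicGroup
    itauto
  rcases h with h | h | h | h | h | h | h | h | h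
  · exact fine_j2 hsp h
  · exact fine_hs hsp h
  · exact fine_mcl hsp h
  · exact fine_co1 hsp h
  · exact fine_suz hsp h
  · exact fine_fi22 hsp h
  · exact fine_fi23 hsp h
  · exact fine_fi24 hsp h
  · exact fine_hn hsp h

end Cfsg.Agent.H223.Bnd.H128.FineSpor
end
end

-- part: H223/Bnd/Main
section
prune_inst 0x200000000140000000000014100000002400000000200000808000400800410000020100000000000802200000000000000000100000000000000000000000000000000400100008400007000000000000000000000000000000000000000000000000000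
set_option linter.all false
open scoped Cfsg.Agent.FastGrp

-- part: H223/Bnd/Alt
section
/-!
# The alternating groups are `Fine`

`fine_alt` : the row of the alternating groups for S4881 (two orbits of coprime linear groups).
-/

set_option autoImplicit false

namespace Cfsg.Agent.H223.Bnd.H656.FineAlt
open Cfsg.Agent.H698 Equiv

universe u w

/-! ### Counting classes -/

/-! ### The general case -/

theorem card_alt {n : ℕ} (hn : 2 ≤ n) : 2 * Nat.card (alternatingGroup (Fin n)) = n.factorial := by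
  have : Nontrivial (Fin n) := Fin.nontrivial_iff_two_le.2 hn
  rw [two_mul_nat_card_alternatingGroup, Nat.card_perm, Nat.card_eq_fintype_card, Fintype.card_fin]

theorem card_aut {n : ℕ} (hn : 4 ≤ n) (h6 : n ≠ 6) :
    Nat.card (MulAut ↥(alternatingGroup (Fin n))) = n.factorial := by
  rw [← Nat.card_congr (Equiv.ofBijective _ (S2119.result n hn h6)), Nat.card_perm, Nat.card_eq_fintype_card,
    Fintype.card_fin]

theorem lt_of_not_dvd {n p : ℕ} (hn : 2 ≤ n) (hp : p.Prime) (h11 : 11 ≤ p)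
    (hpT : ¬ p ∣ Nat.card (alternatingGroup (Fin n))) : n < p := by
  by_contra h
  have h1 : p ∣ n.factorial := Nat.dvd_factorial hp.pos (by omega)
  rw [← card_alt hn] at h1
  rcases hp.dvd_mul.1 h1 with h2 | h2
  · have := Nat.le_of_dvd (by norm_num) h2
    omega
  · exact hpT h2

theorem center_alt {n : ℕ} (hn : 5 ≤ n) : Subgroup.center (alternatingGroup (Fin n)) = ⊥ :=
  alternatingGroup.center_eq_bot (by rw [Nat.card_eq_fintype_card, Fintype.card_fin]; omega)

theorem fact_le {p : ℕ} : ∀ j : ℕ, 3 + j ≤ p → (3 + j).factorial ≤ 6 * p ^ j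
  | 0, _ => by simp [Nat.factorial]
  | j + 1, h => by
    have h1 := fact_le (p := p) j (by omega)
    calc (3 + (j + 1)).factorial = (3 + j + 1) * (3 + j).factorial := Nat.factorial_succ (3 + j)
      _ ≤ p * (6 * p ^ j) := Nat.mul_le_mul (by omega) h1
      _ = 6 * p ^ (j + 1) := by ring

theorem rep_ge {n p m : ℕ} (hn : 9 ≤ n) (hnp : n < p)
    (h : Rep.{0, w} p m (alternatingGroup (Fin n))) : n - 1 ≤ m := by
  obtain ⟨F, _, _, _, P, _, _, π, ρ, h1, h2, h3, h4, h5⟩ := h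
  let ρ' : P →* Module.End F (Fin m → F) :=
    ((Matrix.toLinAlgEquiv' : Matrix (Fin m) (Fin m) F ≃ₐ[F] _).toAlgHom.toRingHom.toMonoidHom).comp
      ((Units.coeHom _).comp ρ)
  have h6 := Cfsg.Agent.H189.FeitTits.feit_tits p hn π h1 ρ' (by
    intro g hg
    have h7 : ρ g = ρ 1 := by
      apply Units.ext
      have h8 : (Matrix.toLinAlgEquiv' : Matrix (Fin m) (Fin m) F ≃ₐ[F] _) (ρ g : Matrix (Fin m) (Fin m) F) = 1 := hg
      rw [map_one, Units.val_one]
      exact Matrix.toLinAlgEquiv'.injective (by rw [h8, map_one])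
    rw [h4 h7, map_one])
  rw [if_neg (fun h => by have := Nat.le_of_dvd (by omega) h; omega), Module.finrank_fintype_fun_eq_card,
    Fintype.card_fin] at h6
  omega

theorem fine_big {n : ℕ} (hn : 9 ≤ n) : Cfsg.Agent.H223.Bnd.Bn.{0, w} (alternatingGroup (Fin n)) := by
  refine Cfsg.Agent.H223.Bnd.Bn.of_lt (center_alt (by omega)) ?_ fun p m hp h11 hpT hm hR => ?_
  · have h1 := card_alt (n := n) (by omega)
    have h2 : Nat.factorial 9 ≤ n.factorial := Nat.factorial_le hn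
    have h3 : Nat.factorial 9 = 362880 := by decide
    omega
  · have hnp := lt_of_not_dvd (by omega) hp h11 hpT
    have h1 := rep_ge hn hnp hR
    rw [card_aut (by omega) (by omega)]
    obtain ⟨j, rfl⟩ : ∃ j, n = 3 + j := ⟨n - 3, by omega⟩
    have h2 := fact_le (p := p) j (by omega)
    have h0 : j + 2 ≤ m := by omega
    have h3 : p ^ (j + 2) ≤ p ^ m := Nat.pow_le_pow_right (by omega) h0
    have h4 : 6 * p ^ j ≤ p * p ^ j := Nat.mul_le_mul_right _ (by omega)
    have h5 : (p - 3) * (3 + j).factorial ≤ (p - 3) * (p * p ^ j) := Nat.mul_le_mul_left _ (h2.trans h4)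
    have h6 : (p - 3) * (p * p ^ j) + 3 * (p * p ^ j) = p ^ (j + 2) := by
      rw [← add_mul, show p - 3 + 3 = p from by omega]; ring
    have h7 : 0 < p * p ^ j := Nat.mul_pos (by omega) (Nat.pow_pos (by omega))
    omega

/-! ### Degrees 5 and 7 -/

theorem fine_five : Cfsg.Agent.H223.Bnd.Bn.{0, w} (alternatingGroup (Fin 5)) := by
  have hc := card_alt (n := 5) (by norm_num)
  have hf : Nat.factorial 5 = 120 := by decide
  refine Cfsg.Agent.H223.Bnd.Bn.of_lt5 (center_alt le_rfl) (by omega) fun p m hp h11 hpT hm hR => ?_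
  rw [card_aut (by norm_num) (by norm_num), hf]
  have h1 : p ^ 3 ≤ p ^ m := Nat.pow_le_pow_right (by omega) hm
  have h2 : 11 * 11 * p ≤ p ^ 3 := by
    rw [pow_succ, pow_two]
    exact Nat.mul_le_mul_right _ (Nat.mul_le_mul h11 h11)
  omega

theorem rep_seven {p m : ℕ} (hp : p.Prime) (hpT : ¬ p ∣ Nat.card (alternatingGroup (Fin 7)))
    (h : Rep.{0, w} p m (alternatingGroup (Fin 7))) : 4 ≤ m := by
  have hc := card_alt (n := 7) (by norm_num)
  have hf : Nat.factorial 7 = 5040 := by decide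
  have h5 : Nat.Prime 5 := by norm_num
  have e : alternatingGroup (Fin 7) ≃* ULift.{w} (alternatingGroup (Fin 7)) := MulEquiv.ulift.symm
  have h' : Rep.{w, w} p m (ULift.{w} (alternatingGroup (Fin 7))) := h.congr e
  have hM := Cfsg.Agent.H487.HasSchurMultiplier.congr_left (S2116.result 7 (Or.inr rfl)) e
  refine Rep.le_of_Bd (r := 5) hp h5 ?_ (by rwa [← Nat.card_congr e.toEquiv]) h' hM ?_ ?_
  · rw [← Nat.card_congr e.toEquiv]
    have : Nat.card (alternatingGroup (Fin 7)) = 2520 := by omega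
    rw [this]; norm_num
  · rw [Nat.card_eq_fintype_card, Fintype.card_multiplicative, ZMod.card]
    norm_num
  · intro F _ hF
    exact (Cfsg.Agent.H912.Bd.bd_alt_prime h5 hF (by norm_num)).congr e.symm

theorem fine_seven : Cfsg.Agent.H223.Bnd.Bn.{0, w} (alternatingGroup (Fin 7)) := by
  have hc := card_alt (n := 7) (by norm_num)
  have hf : Nat.factorial 7 = 5040 := by decide
  refine Cfsg.Agent.H223.Bnd.Bn.of_lt5 (center_alt (by norm_num)) (by omega) fun p m hp h11 hpT hm hR => ?_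
  rw [card_aut (by norm_num) (by norm_num), hf]
  have h0 := rep_seven hp hpT hR
  have h1 : p ^ 4 ≤ p ^ m := Nat.pow_le_pow_right (by omega) h0
  obtain ⟨j, rfl⟩ : ∃ j, p = 9 + j := ⟨p - 9, by omega⟩
  have h2 : (9 + j) ^ 4 = j ^ 4 + 36 * j ^ 3 + 486 * j ^ 2 + 2916 * j + 6561 := by ring
  have h3 : 9 + j - 9 = j := by omega
  rw [h3]
  have h4 : 4 * j ≤ j ^ 2 + 4 := by linarith only [sq_nonneg ((j : ℤ) - 2)]
  have h5 : 3 * j ^ 2 ≤ j ^ 3 + 4 * j := by
    have := Nat.zero_le (j ^ 3)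
    nlinarith only [sq_nonneg ((j : ℤ) - 2)]
  nlinarith only [h1, h5]

/-! ### Degree 8 -/

/-- the numbers of fixed points of the first four powers -/
def fixNum (n : ℕ) (σ : Perm (Fin n)) (k : ℕ) : ℕ := (Finset.univ.filter fun i => (σ ^ k) i = i).card

theorem fixNum_conj {n : ℕ} (σ τ : Perm (Fin n)) (k : ℕ) : fixNum n (τ * σ * τ⁻¹) k = fixNum n σ k := by
  unfold fixNum
  refine Finset.card_bij (fun i _ => τ⁻¹ i) ?_ ?_ ?_
  · intro i hi
    rw [Finset.mem_filter] at hi ⊢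
    refine ⟨Finset.mem_univ _, ?_⟩
    have h1 := hi.2
    rw [conj_pow] at h1
    rw [Perm.eq_inv_iff_eq]
    simpa only [Perm.mul_apply, _root_.Equiv.Perm.coe_inv] using h1
  · intro i _ j _ h
    exact τ⁻¹.injective h
  · intro i hi
    rw [Finset.mem_filter] at hi
    refine ⟨τ i, ?_, by simp⟩
    rw [Finset.mem_filter]
    refine ⟨Finset.mem_univ _, ?_⟩
    rw [conj_pow]
    simp only [Perm.mul_apply, hi.2, _root_.Equiv.Perm.mul_apply, _root_.Equiv.Perm.coe_inv, _root_.Equiv.symm_apply_apply]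

/-- A lower bound for the number of classes of an almost simple group with alternating socle. -/
theorem classes_alt {n k : ℕ} (hn : 4 ≤ n) (h6 : n ≠ 6) (a : Fin k → alternatingGroup (Fin n))
    (ha : ∀ i j, i ≠ j → ∃ t, fixNum n (a i) t ≠ fixNum n (a j) t)
    (X : Subgroup (MulAut (alternatingGroup (Fin n))))
    (hX : (MulAut.conj : alternatingGroup (Fin n) →* MulAut (alternatingGroup (Fin n))).range ≤ X) :
    k ≤ Nat.card (ConjClasses X) := by
  let f : Fin k → ConjClasses X := fun i => ConjClasses.mk ⟨MulAut.conj (a i), hX ⟨a i, rfl⟩⟩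
  have hf : Function.Injective f := by
    intro i j h
    by_contra hij
    obtain ⟨t, ht⟩ := ha i j hij
    apply ht
    obtain ⟨c, hc⟩ := isConj_iff.1 (ConjClasses.mk_eq_mk_iff_isConj.1 h)
    obtain ⟨τ, hτ⟩ := (S2119.result n hn h6).2 (c : MulAut (alternatingGroup (Fin n)))
    have h1 : (c : MulAut (alternatingGroup (Fin n))) * MulAut.conj (a i) * (c : MulAut (alternatingGroup (Fin n)))⁻¹ =
        MulAut.conj (a j) := congrArg Subtype.val hc
    have h2 : MulAut.conj ((c : MulAut (alternatingGroup (Fin n))) (a i)) = MulAut.conj (a j) := by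
      rw [← h1]
      ext x
      simp only [MulAut.conj_apply, _root_.MulAut.conj_apply, _root_.Subgroup.coe_mul, _root_.InvMemClass.coe_inv, _root_.Equiv.Perm.coe_mul, _root_.Equiv.Perm.coe_inv, _root_.Function.comp_apply, _root_.MulAut.mul_apply, _root_.MulAut.inv_apply, _root_.map_mul, _root_.MulEquiv.apply_symm_apply, _root_.map_inv]
    have h3 : (c : MulAut (alternatingGroup (Fin n))) (a i) = a j := by
      have h4 : ((c : MulAut (alternatingGroup (Fin n))) (a i)) * (a j)⁻¹ ∈ Subgroup.center (alternatingGroup (Fin n)) := by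
        rw [Subgroup.mem_center_iff]
        intro x
        have h5 : ((c : MulAut (alternatingGroup (Fin n))) (a i)) * ((a j)⁻¹ * x * a j) *
            ((c : MulAut (alternatingGroup (Fin n))) (a i))⁻¹ = x := by
          have := DFunLike.congr_fun h2 ((a j)⁻¹ * x * a j)
          rw [MulAut.conj_apply, MulAut.conj_apply] at this
          rw [this]; group
        calc x * (((c : MulAut (alternatingGroup (Fin n))) (a i)) * (a j)⁻¹)
            = (((c : MulAut (alternatingGroup (Fin n))) (a i)) * ((a j)⁻¹ * x * a j) *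
              ((c : MulAut (alternatingGroup (Fin n))) (a i))⁻¹) * (((c : MulAut (alternatingGroup (Fin n))) (a i)) * (a j)⁻¹) := by
              rw [h5]
          _ = _ := by group
      rw [alternatingGroup.center_eq_bot (by rw [Nat.card_eq_fintype_card, Fintype.card_fin]; omega),
        Subgroup.mem_bot, mul_inv_eq_one] at h4
      exact h4
    rw [← h3, ← hτ, MulAut.conjNormal_apply, fixNum_conj]
  have h1 := Nat.card_le_card_of_injective f hf
  rwa [Nat.card_eq_fintype_card, Fintype.card_fin] at h1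

/-- a product of two transpositions -/
def tt {n : ℕ} (a b c d : Fin n) (h : a ≠ b ∧ c ≠ d) : alternatingGroup (Fin n) :=
  ⟨swap a b * swap c d, by rw [Perm.mem_alternatingGroup, Perm.sign_mul, Perm.sign_swap h.1, Perm.sign_swap h.2]; rfl⟩

/-- representatives -/
def reps8 : Fin 9 → alternatingGroup (Fin 8) :=
  ![1, tt 0 1 2 3 (by decide), tt 0 1 2 3 (by decide) * tt 4 5 6 7 (by decide), tt 0 1 1 2 (by decide),
    tt 0 1 1 2 (by decide) * tt 3 4 4 5 (by decide), tt 0 1 1 2 (by decide) * tt 2 3 4 5 (by decide),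
    tt 0 1 1 2 (by decide) * tt 2 3 4 5 (by decide) * tt 5 6 6 7 (by decide),
    tt 0 1 1 2 (by decide) * tt 2 3 3 4 (by decide),
    tt 0 1 1 2 (by decide) * tt 2 3 3 4 (by decide) * tt 4 5 5 6 (by decide)]

theorem reps8_ne : ∀ i j : Fin 9, i ≠ j → fixNum 8 (reps8 i) 1 ≠ fixNum 8 (reps8 j) 1 ∨
    fixNum 8 (reps8 i) 2 ≠ fixNum 8 (reps8 j) 2 := by decide +kernel

/-- the embedding of `A₇` in `A₈` -/
theorem exists_hom : ∃ f : alternatingGroup (Fin 7) →* alternatingGroup (Fin 8), Function.Injective f := by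
  classical
  let e : Fin 7 ≃ {x : Fin 8 // x ∈ Set.range (Fin.castSucc : Fin 7 → Fin 8)} :=
    Equiv.ofInjective Fin.castSucc (Fin.castSucc_injective 7)
  let g : Perm (Fin 7) →* Perm (Fin 8) := Perm.extendDomainHom e
  have hg : Function.Injective g := Perm.extendDomainHom_injective e
  refine ⟨(g.comp (alternatingGroup (Fin 7)).subtype).codRestrict (alternatingGroup (Fin 8)) (fun x => ?_), ?_⟩
  · rw [Perm.mem_alternatingGroup]
    have h1 : Perm.sign (Perm.extendDomain (x : Perm (Fin 7)) e) = Perm.sign (x : Perm (Fin 7)) :=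
      Perm.sign_extendDomain _ _
    have h2 : Perm.sign (x : Perm (Fin 7)) = 1 := Perm.mem_alternatingGroup.1 x.2
    exact h1.trans h2
  · intro x y hxy
    apply Subtype.ext
    apply hg
    exact congrArg Subtype.val hxy

theorem rep_eight {p m : ℕ} (hp : p.Prime) (hpT : ¬ p ∣ Nat.card (alternatingGroup (Fin 8)))
    (h : Rep.{0, w} p m (alternatingGroup (Fin 8))) : 4 ≤ m := by
  have hc7 := card_alt (n := 7) (by norm_num)
  obtain ⟨f, hf⟩ := exists_hom
  have hs : IsSimpleGroup (alternatingGroup (Fin 7)) :=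
    alternatingGroup.isSimpleGroup (by rw [Nat.card_eq_fintype_card, Fintype.card_fin]; norm_num)
  have e8 : alternatingGroup (Fin 8) ≃* ULift.{w} (alternatingGroup (Fin 8)) := MulEquiv.ulift.symm
  have e7 : alternatingGroup (Fin 7) ≃* ULift.{w} (alternatingGroup (Fin 7)) := MulEquiv.ulift.symm
  have hs' : IsSimpleGroup (ULift.{w} (alternatingGroup (Fin 7))) := e7.symm.isSimpleGroup
  have h' : Rep.{w, w} p m (ULift.{w} (alternatingGroup (Fin 8))) := h.congr e8
  have h1 := h'.sub (S := ULift.{w} (alternatingGroup (Fin 7))) (by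
    intro hcomm
    have h2 : Subgroup.center (alternatingGroup (Fin 7)) = ⊤ := by
      rw [eq_top_iff]
      intro a _
      rw [Subgroup.mem_center_iff]
      intro b
      apply e7.injective
      rw [map_mul, map_mul]
      exact hcomm.is_comm.comm _ _
    rw [center_alt (by norm_num)] at h2
    exact bot_ne_top h2) ((e8.toMonoidHom.comp f).comp e7.symm.toMonoidHom)
    (e8.injective.comp (hf.comp e7.symm.injective))
  refine rep_seven hp ?_ (h1.congr e7.symm)
  intro hd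
  exact hpT (hd.trans (Subgroup.card_dvd_of_injective f hf))

theorem fine_eight : Cfsg.Agent.H223.Bnd.Bn.{0, w} (alternatingGroup (Fin 8)) := by
  have hf : Nat.factorial 8 = 40320 := by decide
  refine Cfsg.Agent.H223.Bnd.Bn.of_classes (k := 9) (fun X hX => classes_alt (by norm_num) (by norm_num) reps8 (fun i j hij => ?_) X hX)
    fun p m hp h11 hpT hm hR => ?_
  · rcases reps8_ne i j hij with h | h
    exacts [⟨1, h⟩, ⟨2, h⟩]
  rw [card_aut (by norm_num) (by norm_num), hf]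
  have h0 := rep_eight hp hpT hR
  have h1 : p ^ 4 ≤ p ^ m := Nat.pow_le_pow_right (by omega) h0
  refine lt_of_lt_of_le ?_ h1
  rcases Nat.lt_or_ge p 37 with h2 | h2
  · interval_cases p <;> (clear * -; omega)
  · have h3 : 37 * 37 * 37 * p ≤ p ^ 4 := by
      rw [pow_succ, pow_succ, pow_succ, pow_one]
      exact Nat.mul_le_mul_right _ (Nat.mul_le_mul (Nat.mul_le_mul h2 h2) h2)
    omega

/-! ### Degree 6 -/

theorem fine_six : Cfsg.Agent.H223.Bnd.Bn.{0, w} (alternatingGroup (Fin 6)) := by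
  intro p m hp h23 hpT hm hR
  have h1 := Cfsg.Agent.H202.TwoTransAlt.card_mulAut_A6
  have h2 : 23 ^ 2 ≤ p ^ 2 := Nat.pow_le_pow_left h23 2
  have h3 : p ^ 2 ≤ p ^ (m - 1) := Nat.pow_le_pow_right (by omega) (by omega)
  omega

/-- **The alternating groups.** -/
theorem fine_alt {T : Type u} [Group T] [Finite T] (h : Cfsg.IsAlternating T) : Cfsg.Agent.H223.Bnd.Bn.{u, u} T := by
  obtain ⟨n, hn, ⟨e⟩⟩ := h
  rcases Nat.lt_or_ge n 9 with h9 | h9
  · interval_cases n
    · exact fine_five.congr e.symm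
    · exact fine_six.congr e.symm
    · exact fine_seven.congr e.symm
    · exact fine_eight.congr e.symm
  · exact (fine_big h9).congr e.symm

end Cfsg.Agent.H223.Bnd.H656.FineAlt
end

-- part: H223/Bnd/PslTwo
section
/-!
# The condition `Fine` for `PSL₂(q)`
-/

set_option autoImplicit false

universe u w

namespace Cfsg.Agent.H223.Bnd.H680.FinePSL
open Matrix Cfsg.Agent.H698

theorem suff {p m A : ℕ} (hp : 11 ≤ p) (hm : 1 ≤ m) (h : A ≤ p ^ (m - 1)) : (p - 9) * A + 1 < p ^ m := by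
  obtain ⟨n, rfl⟩ : ∃ n, m = n + 1 := ⟨m - 1, by omega⟩
  rw [Nat.add_sub_cancel] at h
  obtain ⟨r, rfl⟩ : ∃ r, p = r + 9 := ⟨p - 9, by omega⟩
  have h1 : 1 ≤ (r + 9) ^ n := Nat.one_le_pow _ _ (by omega)
  have h2 : r * A ≤ r * (r + 9) ^ n := Nat.mul_le_mul_left _ h
  rw [Nat.add_sub_cancel, pow_succ]
  linarith only [h1, h2]

theorem pow4 {k : ℕ} (hk : 5 ≤ k) : (2 * k + 1) ^ 4 ≤ 11 ^ (k - 1) := by
  induction k, hk using Nat.le_induction with
  | base => norm_num
  | succ k hk ih =>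
    obtain ⟨n, rfl⟩ : ∃ n, k = n + 5 := ⟨k - 5, by omega⟩
    have h1 : n + 5 + 1 - 1 = (n + 5 - 1) + 1 := by omega
    rw [h1, pow_succ]
    refine le_trans ?_ (Nat.mul_le_mul_right 11 ih)
    have : (2 * (n + 5 + 1) + 1) ^ 4 ≤ (2 * (n + 5) + 1) ^ 4 * 11 := by
      ring_nf
      gcongr <;> norm_num
    exact this

theorem fine {F : Type} [Field F] [Fintype F] (hq : 4 ≤ Fintype.card F) (h9 : Fintype.card F ≠ 9) :
    Cfsg.Agent.H223.Bnd.Bn.{0, w} (ProjectiveSpecialLinearGroup (Fin 2) F) := by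
  classical
  obtain ⟨p₀, hp₀⟩ := CharP.exists F
  obtain ⟨⟨f, hf⟩, hpp, hF⟩ := FiniteField.card F p₀
  simp only [PNat.mk_coe] at hF
  have hA := Cfsg.Agent.H412.ReeOut.card_mulAut hpp hf hF hq
  have hG := Cfsg.Agent.ClassicalGeometry.PSL2Basic.card_PSL2_gcd (F := F)
  have hf2 : f < p₀ ^ f := Nat.lt_pow_self hpp.one_lt
  rw [mul_assoc, mul_comm (Nat.gcd _ _), hG] at hA
  have hS : IsSimpleGroup (ProjectiveSpecialLinearGroup (Fin 2) F) :=
    Matrix.ProjectiveSpecialLinearGroup.rank_two_simple (by rw [Nat.card_eq_fintype_card]; omega)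
  have hj : (QuotientGroup.mk' (Subgroup.center (SpecialLinearGroup (Fin 2) F)))
      (Cfsg.Agent.H203.BdSL2.up 1) ≠ 1 := by
    intro h
    rw [← MonoidHom.mem_ker, QuotientGroup.ker_mk'] at h
    exact one_ne_zero (Cfsg.Agent.H203.BdSL2.up_center h)
  generalize hqq : Fintype.card F = q at *
  have hgcd : Nat.gcd 2 (q - 1) = 1 ∨ Nat.gcd 2 (q - 1) = 2 :=
    (Nat.dvd_prime Nat.prime_two).1 (Nat.gcd_dvd_left 2 (q - 1))
  have hpG : p₀ ∣ Nat.card (ProjectiveSpecialLinearGroup (Fin 2) F) := by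
    have h1 : p₀ ∣ q := by rw [hF]; exact dvd_pow_self _ (by omega)
    have h2 : Nat.Coprime p₀ (Nat.gcd 2 (q - 1)) := by
      rw [Nat.Prime.coprime_iff_not_dvd hpp]
      intro h3
      have h4 : p₀ ∣ q - 1 := h3.trans (Nat.gcd_dvd_right _ _)
      have h5 : p₀ ∣ 1 := by
        have := (Nat.dvd_sub h1 h4)
        rwa [Nat.sub_sub_self (by omega)] at this
      exact hpp.one_lt.ne' (Nat.dvd_one.1 h5)
    refine h2.dvd_of_dvd_mul_right (n := Nat.gcd 2 (q - 1)) ?_
    rw [hG]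
    exact Dvd.dvd.mul_right h1 _
  have hq2 : q ^ 2 - 1 ≤ q ^ 2 := Nat.sub_le _ _
  have hT : 42 < Nat.card (ProjectiveSpecialLinearGroup (Fin 2) F) := by
    by_cases h4 : q = 4
    · rw [h4, show Nat.gcd 2 (4 - 1) = 1 from rfl, mul_one] at hG
      rw [hG]
      norm_num
    · have h5 : 5 ≤ q := by omega
      have h6 : 24 ≤ q ^ 2 - 1 := by
        have : 25 ≤ q ^ 2 := by nlinarith only [h5]
        omega
      have h7 : 5 * 24 ≤ q * (q ^ 2 - 1) := Nat.mul_le_mul h5 h6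
      rw [← hG] at h7
      rcases hgcd with h | h <;> rw [h] at h7 <;> omega
  refine Cfsg.Agent.H223.Bnd.Bn.of_lt5 (Cfsg.Agent.H412.ReeOut.psl_center (by omega)) hT fun p m hp h11 hpT hm hR => ?_
  by_cases h7 : q ≤ 7
  · have hf3 : f ≤ 2 := by
      by_contra hcon
      have : p₀ ^ 3 ≤ p₀ ^ f := Nat.pow_le_pow_right hpp.pos (by omega)
      have : 2 ^ 3 ≤ p₀ ^ 3 := Nat.pow_le_pow_left hpp.two_le 3
      omega
    have hp2 : 11 ^ 2 ≤ p ^ (m - 1) :=
      (Nat.pow_le_pow_left h11 2).trans (Nat.pow_le_pow_right (by omega) (by omega))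
    have hp3 : p ^ 3 ≤ p ^ m := Nat.pow_le_pow_right (by omega) hm
    have h6 : ∀ p f : ℕ, p.Prime → 2 ≤ f → f ≤ 2 → p ^ f = q → q = 4 := by
      intro a b ha hb hb2 hab
      obtain rfl : b = 2 := by omega
      have : a < 3 := by
        by_contra hcon
        have : 3 ^ 2 ≤ a ^ 2 := Nat.pow_le_pow_left (by omega) 2
        omega
      have := ha.two_le
      obtain rfl : a = 2 := by omega
      omega
    by_cases h4 : q = 4
    · apply suff h11 (by omega)
      refine le_trans ?_ hp2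
      rw [hA, h4]
      omega
    · have hf1 : f = 1 := by
        by_contra hcon
        exact h4 (h6 p₀ f hpp (by omega) hf3 hF.symm)
      rw [hf1, pow_one] at hF
      have hne : q ≠ 6 := by
        intro h
        rw [← hF, h] at hpp
        revert hpp
        norm_num
      rw [hf1, one_mul] at hA
      rcases (by omega : q = 5 ∨ q = 7) with h5 | h5
      · apply suff h11 (by omega)
        refine le_trans ?_ hp2
        rw [hA, h5]
        norm_num
      · rw [hA, h5]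
        refine lt_of_lt_of_le ?_ hp3
        obtain ⟨t, rfl⟩ : ∃ t, p = t + 11 := ⟨p - 11, by omega⟩
        have : t + 11 - 9 = t + 2 := by omega
        rw [this]
        ring_nf
        have : 0 ≤ t ^ 2 := Nat.zero_le _
        have : 0 ≤ t ^ 3 := Nat.zero_le _
        omega
  · have hLS := Cfsg.Agent.H203.LS.LS.sl2.{0, w, w} (r := p₀) hqq (by omega) h9
      (T := ProjectiveSpecialLinearGroup (Fin 2) F)
      (QuotientGroup.mk' (Subgroup.center (SpecialLinearGroup (Fin 2) F))) hj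
    have hd := Rep.le_of_LS hp hpp hpG hpT hR hLS
    apply suff h11 (by omega)
    rw [hA]
    generalize hdd : (q - 1) / Nat.gcd 2 (q - 1) = d at *
    have h1 : 11 ^ (d - 1) ≤ p ^ (m - 1) :=
      (Nat.pow_le_pow_left h11 _).trans (Nat.pow_le_pow_right (by omega) (by omega))
    refine le_trans ?_ h1
    by_cases h8 : q = 8
    · have h9 : d = 7 := by
        rw [← hdd, h8]
        norm_num
      have h10 : f ≤ 3 := by
        by_contra hcon
        have : p₀ ^ 4 ≤ p₀ ^ f := Nat.pow_le_pow_right hpp.pos (by omega)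
        have : 2 ^ 4 ≤ p₀ ^ 4 := Nat.pow_le_pow_left hpp.two_le 4
        omega
      rw [h9, h8]
      norm_num
      omega
    · have h10 : q ≠ 10 := by
        intro h
        have h2 : (2 : ℕ) ∣ p₀ ^ f := by rw [← hF, h]; norm_num
        have h5 : (5 : ℕ) ∣ p₀ ^ f := by rw [← hF, h]; norm_num
        have h3 := (Nat.prime_dvd_prime_iff_eq Nat.prime_two hpp).1 (Nat.prime_two.dvd_of_dvd_pow h2)
        have h4 := (Nat.prime_dvd_prime_iff_eq Nat.prime_five hpp).1 (Nat.prime_five.dvd_of_dvd_pow h5)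
        omega
      have h11q : 11 ≤ q := by omega
      have h2 : 5 ≤ d ∧ q ≤ 2 * d + 1 := by
        rcases hgcd with h | h
        · rw [h, Nat.div_one] at hdd
          omega
        · have := Nat.div_mul_cancel (Nat.gcd_dvd_right 2 (q - 1))
          rw [h] at hdd this
          omega
      refine le_trans ?_ (pow4 h2.1)
      calc f * (q * (q ^ 2 - 1)) ≤ q * (q * q ^ 2) := Nat.mul_le_mul (by omega) (Nat.mul_le_mul_left _ hq2)
        _ = q ^ 4 := by ring
        _ ≤ _ := Nat.pow_le_pow_left h2.2 4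

end Cfsg.Agent.H223.Bnd.H680.FinePSL
namespace Cfsg.Agent.H223.Bnd.H680
theorem fine_psl2 {T : Type u} [Group T] [Finite T] {F : Type} [Field F] [Fintype F]
    (hq : 4 ≤ Fintype.card F) (h9 : Fintype.card F ≠ 9)
    (e : T ≃* Matrix.ProjectiveSpecialLinearGroup (Fin 2) F) : Cfsg.Agent.H223.Bnd.Bn.{u, u} T :=
  (FinePSL.fine hq h9).congr e.symm

end Cfsg.Agent.H223.Bnd.H680
end

-- part: H223/Bnd/Psl
section
/-!
# `Fine` for `PSL_n(q)`, `n ≥ 3` (helper454, S4881)
-/

set_option autoImplicit false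

namespace Cfsg.Agent.H223.Bnd.H454.FinePsl
universe u v

open Cfsg.Agent.H698 Cfsg.Agent.H912.Bd Cfsg.Agent.H223.Bnd.H454.FineAux Matrix

section card

variable {F : Type*} [Field F] [Fintype F]

theorem prod_le (q k : ℕ) :
    ∏ i : Fin (k + 1), (q ^ (k + 1) - q ^ (i : ℕ)) ≤ (q - 1) * q ^ ((k + 1) ^ 2 - 1) := by
  rw [Fin.prod_univ_castSucc]
  have h1 : ∏ i : Fin k, (q ^ (k + 1) - q ^ ((Fin.castSucc i : Fin (k + 1)) : ℕ)) ≤ (q ^ (k + 1)) ^ k := by
    calc _ ≤ ∏ _i : Fin k, q ^ (k + 1) := Finset.prod_le_prod' fun i _ => Nat.sub_le _ _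
      _ = _ := by rw [Finset.prod_const, Finset.card_univ, Fintype.card_fin]
  have h2 : q ^ (k + 1) - q ^ ((Fin.last k : Fin (k + 1)) : ℕ) = (q - 1) * q ^ k := by
    rw [Fin.val_last, pow_succ, Nat.sub_mul, one_mul, mul_comm]
  rw [h2]
  calc _ ≤ (q ^ (k + 1)) ^ k * ((q - 1) * q ^ k) := Nat.mul_le_mul_right _ h1
    _ = (q - 1) * q ^ ((k + 1) * k + k) := by rw [← pow_mul, pow_add]; ring
    _ = _ := by
      congr 2
      have : (k + 1) ^ 2 = (k + 1) * k + k + 1 := by ring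
      omega

theorem card_pgl_le {q n : ℕ} (hF : Fintype.card F = q) (hn : 1 ≤ n) :
    Nat.card (ProjGenLinGroup (Fin n) F) ≤ q ^ (n ^ 2 - 1) := by
  obtain ⟨k, rfl⟩ : ∃ k, n = k + 1 := ⟨n - 1, by omega⟩
  have h1 := Cfsg.Agent.S0265.card_GL_eq_PGL (F := F) (n := k + 1) (by omega)
  rw [Matrix.card_GL_field, hF, Nat.card_units, Nat.card_eq_fintype_card, hF] at h1
  have hq1 : 1 < q := hF ▸ Fintype.one_lt_card
  have h2 := prod_le q k
  rw [h1] at h2
  exact Nat.le_of_mul_le_mul_left h2 (by omega)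

theorem dvd_card {q n r : ℕ} (hF : Fintype.card F = q) (hn : 2 ≤ n) (hr : r.Prime) (hrq : r ∣ q) :
    r ∣ Nat.card (ProjectiveSpecialLinearGroup (Fin n) F) := by
  have hq1 : 1 < q := hF ▸ Fintype.one_lt_card
  have h1 := Cfsg.Agent.S0243.result hF n hn
  have h2 : r ∣ ∏ i : Fin n, (q ^ n - q ^ (i : ℕ)) := by
    refine (Dvd.dvd.trans ?_ (Finset.dvd_prod_of_mem _ (Finset.mem_univ (⟨1, by omega⟩ : Fin n))))
    refine Nat.dvd_sub (hrq.trans (dvd_pow_self q (by omega))) ?_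
    simpa using hrq
  rw [← h1] at h2
  have h3 : ¬ r ∣ q - 1 := by
    intro h
    have h4 := (Nat.dvd_sub_iff_right (by omega : 1 ≤ q) hrq).1 h
    exact hr.one_lt.ne' (Nat.dvd_one.1 h4)
  rcases (Nat.Prime.dvd_mul hr).1 h2 with h4 | h4
  · exact absurd (h4.trans (Nat.gcd_dvd_right _ _)) h3
  rcases (Nat.Prime.dvd_mul hr).1 h4 with h5 | h5
  · exact absurd h5 h3
  · exact h5

end card

/-- the inequality -/
theorem num {n q : ℕ} (hn : 3 ≤ n) (hq : 2 ≤ q) (h32 : ¬ (n = 3 ∧ q = 2)) : (q - 1) * n ^ 2 + 6 ≤ 3 * q ^ (n - 1) := by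
  obtain ⟨a, rfl⟩ : ∃ a, q = a + 1 := ⟨q - 1, by omega⟩
  rw [Nat.add_sub_cancel]
  rcases (by omega : n = 3 ∨ 4 ≤ n) with rfl | h4
  · have ha : 2 ≤ a := by omega
    norm_num
    nlinarith
  · clear h32 hn
    induction n, h4 using Nat.le_induction with
    | base =>
      norm_num
      have ha : 1 ≤ a := by omega
      nlinarith only [mul_le_mul ha ha (by norm_num) (by omega)]
    | succ n hn ih =>
      have ha : 1 ≤ a := by omega
      have e : (a + 1) ^ (n + 1 - 1) = (a + 1) * (a + 1) ^ (n - 1) := by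
        rw [← pow_succ']; congr 1; omega
      rw [e]
      have h1 : 2 * (3 * (a + 1) ^ (n - 1)) ≤ (a + 1) * (3 * (a + 1) ^ (n - 1)) := Nat.mul_le_mul_right _ (by omega)
      have h2 : (n + 1) ^ 2 ≤ 2 * n ^ 2 := by nlinarith only [hn]
      have h3 : a * (n + 1) ^ 2 ≤ a * (2 * n ^ 2) := Nat.mul_le_mul_left _ h2
      linarith only [ih, h1, h3]

theorem charP_of_card {F : Type*} [Field F] [Fintype F] : ∃ p f : ℕ, p.Prime ∧ 1 ≤ f ∧ CharP F p ∧ Fintype.card F = p ^ f := by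
  obtain ⟨p, hp⟩ := CharP.exists F
  obtain ⟨f, hpp, hf⟩ := FiniteField.card F p
  exact ⟨p, f, hpp, f.2, hp, hf⟩

/-- **`PSL_n(q)`, `n ≥ 3`**, `(n, q) ≠ (3, 4), (4, 2)`. -/
theorem fine_psl {T : Type u} [Group T] [Finite T] {F : Type} [Field F] [Fintype F] {n : ℕ} (hn : 3 ≤ n)
    (h34 : ¬ (n = 3 ∧ Fintype.card F = 4)) (h42 : ¬ (n = 4 ∧ Fintype.card F = 2))
    (e : T ≃* ProjectiveSpecialLinearGroup (Fin n) F) : Cfsg.Agent.H223.Bnd.Bn.{u, u} T := by
  obtain ⟨p, f, hp, hf, hchar, hF⟩ := charP_of_card (F := F)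
  have hpf : Fact p.Prime := ⟨hp⟩
  have hs : IsSimpleGroup (ProjectiveSpecialLinearGroup (Fin n) F) := Cfsg.Agent.S0249.result n hn
  have hnt : Nontrivial T := e.toEquiv.nontrivial
  have hsT : IsSimpleGroup T := IsSimpleGroup.isSimpleGroup_of_surjective e.symm.toMonoidHom e.symm.surjective
  have hA : Nat.card (MulAut T) = 2 * f * Nat.card (ProjGenLinGroup (Fin n) F) := by
    rw [card_mulAut_congr e, Cfsg.Agent.S0813.result p f hf hF n (by omega) (by omega), if_neg (by omega)]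
  have hcT : Nat.card T = Nat.card (ProjectiveSpecialLinearGroup (Fin n) F) := Nat.card_congr e.toEquiv
  have hq2 : 2 ≤ p ^ f := by
    have := hF ▸ Fintype.one_lt_card (α := F)
    omega
  by_cases h32 : n = 3 ∧ Fintype.card F = 2
  · -- `PSL_3(2)`
    obtain ⟨rfl, hF2⟩ := h32
    have hpgl : Nat.card (ProjGenLinGroup (Fin 3) F) = 168 := by
      have h1 := Cfsg.Agent.S0265.card_GL_eq_PGL (F := F) (n := 3) (by omega)
      rw [Matrix.card_GL_field, hF2, Nat.card_units, Nat.card_eq_fintype_card, hF2] at h1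
      simp only [Fin.prod_univ_succ, _root_.Nat.reducePow, _root_.Fin.prod_univ_succ, _root_.Fin.isValue, _root_.Fin.coe_ofNat_eq_mod, _root_.Nat.zero_mod, _root_.pow_zero, _root_.Nat.add_one_sub_one, _root_.Fin.val_succ, _root_.zero_add, _root_.pow_one, _root_.Nat.reduceSub, _root_.Finset.univ_unique, _root_.Fin.default_eq_zero, _root_.Fin.val_eq_zero, _root_.Nat.reduceAdd, _root_.Finset.prod_const, _root_.Finset.card_singleton, _root_.Nat.reduceMul, _root_.one_mul] at h1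
      omega
    have hpsl : Nat.card T = 168 := by
      have h1 := Cfsg.Agent.S0243.result hF2 3 (by norm_num)
      simp only [Fin.prod_univ_succ, _root_.Nat.add_one_sub_one, _root_.Nat.gcd_one_right, _root_.one_mul, _root_.Nat.reducePow, _root_.Fin.prod_univ_succ, _root_.Fin.isValue, _root_.Fin.coe_ofNat_eq_mod, _root_.Nat.zero_mod, _root_.pow_zero, _root_.Fin.val_succ, _root_.zero_add, _root_.pow_one, _root_.Nat.reduceSub, _root_.Finset.univ_unique, _root_.Fin.default_eq_zero, _root_.Fin.val_eq_zero, _root_.Nat.reduceAdd, _root_.Finset.prod_const, _root_.Finset.card_singleton, _root_.Nat.reduceMul] at h1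
      omega
    have hf1 : f = 1 := by
      have h2 : 2 * f ≤ 2 := (two_f_le hp.two_le hf).trans (by rw [← hF, hF2])
      omega
    refine fine_of_nonab fun hna => ?_
    refine Cfsg.Agent.H223.Bnd.Bn.of_lt5 (center_eq_bot hna) (by rw [hpsl]; norm_num) ?_
    intro p' m hp' h11 _ hm _
    rw [hA, hpgl, hf1]
    have h3 : p' ^ 3 ≤ p' ^ m := Nat.pow_le_pow_right (by omega) hm
    refine lt_of_lt_of_le ?_ h3
    obtain ⟨k, rfl⟩ : ∃ k, p' = k + 9 := ⟨p' - 9, by omega⟩
    rw [Nat.add_sub_cancel]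
    nlinarith only [sq_nonneg ((k : ℤ) - 2)]
  · refine fine_of_bd (r := p) (d := (p ^ f) ^ (n - 1) - 2) (a := Nat.gcd n (p ^ f - 1)) hp ?_ ?_ ?_ ?_ ?_
    · rw [hcT]
      exact dvd_card hF (by omega) hp (dvd_pow_self p (by omega))
    · refine Cfsg.Agent.H487.HasSchurMultiplier.congr_left
        (Cfsg.Agent.S2086.result hF n (by omega) (by omega) ?_) e.symm
      simp only [Set.mem_insert_iff, Set.mem_singleton_iff, Prod.mk.injEq, not_or]
      rw [hF] at h34 h42 h32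
      refine ⟨by omega, by omega, h32, h34, h42⟩
    · have h1 : ¬ p ∣ p ^ f - 1 := by
        intro h
        have h4 := (Nat.dvd_sub_iff_right (by omega : 1 ≤ p ^ f) (dvd_pow_self p (by omega))).1 h
        exact hp.one_lt.ne' (Nat.dvd_one.1 h4)
      exact (Nat.Coprime.symm ((Nat.Prime.coprime_iff_not_dvd hp).2 fun h => h1 (h.trans (Nat.gcd_dvd_right _ _))))
    · intro K _ hK
      have h1 := (bd_psl (F := K) hp hK hn hchar).congr e
      rw [hF] at h1
      refine h1.mono ?_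
      have h2 : 2 ^ 2 ≤ (p ^ f) ^ (n - 1) := by
        calc 2 ^ 2 ≤ 2 ^ (n - 1) := Nat.pow_le_pow_right (by norm_num) (by omega)
          _ ≤ _ := Nat.pow_le_pow_left hq2 _
      omega
    · rw [hA]
      have h1 := card_pgl_le hF (show 1 ≤ n by omega)
      have h2 := two_f_le hp.two_le hf
      have h3 := num hn hq2 (by rw [← hF]; exact h32)
      calc 2 * f * Nat.card (ProjGenLinGroup (Fin n) F) ≤ (p ^ f) * (p ^ f) ^ (n ^ 2 - 1) := Nat.mul_le_mul h2 h1
        _ = (p ^ f) ^ (n ^ 2) := by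
          rw [← pow_succ']
          congr 1
          have : 0 < n ^ 2 := by positivity
          omega
        _ ≤ 11 ^ ((p ^ f) ^ (n - 1) - 2) := pow_le_eleven (by omega) (by omega)

end Cfsg.Agent.H223.Bnd.H454.FinePsl
end

-- part: H223/Bnd/Lin
section
/-!
# `Fine` for `PSL_3(4)` (helper831, task 762 for S4881)

`PSL_3(4)` contains `3² : Q₈` acting freely on `3²` (`bd_three`).
-/

set_option autoImplicit false
set_option maxRecDepth 20000

namespace Cfsg.Agent.H223.Bnd.H831.FineLin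
universe u

open Matrix Cfsg.Agent.H698 Cfsg.Agent.H831.FineBase Cfsg.Agent.H831.FineUnit
open Cfsg.Agent.H674.Explicit Cfsg.Agent.H674.ExplicitCases Cfsg.Agent.H674.TwelvePSU
open Cfsg.Agent.H912.Bd

abbrev M3 := Matrix (Fin 3) (Fin 3) F4
abbrev L3 := Matrix.SpecialLinearGroup (Fin 3) F4
abbrev P3 := Matrix.ProjectiveSpecialLinearGroup (Fin 3) F4
abbrev V := ZMod 3 × ZMod 3

def o : F4 := ⟨0, 0⟩
def i : F4 := ⟨1, 0⟩
def w : F4 := ⟨0, 1⟩
def v : F4 := ⟨1, 1⟩

def X : M3 := !![o, o, i; i, o, o; o, i, o]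
def Z : M3 := !![i, o, o; o, w, o; o, o, v]

/-- the matrices of the extraspecial group -/
def Mx (a : V) : M3 := X ^ a.1.val * Z ^ a.2.val

/-- five elements of the quaternion group -/
def Ms : Fin 5 → M3
  | 0 => !![i, o, o; o, i, o; o, o, i]
  | 1 => !![i, i, i; i, w, v; i, v, w]
  | 2 => !![i, o, o; o, o, i; o, i, o]
  | 3 => !![i, i, i; i, v, w; i, w, v]
  | 4 => !![i, i, v; i, w, w; w, i, w]

/-- their action -/
def al (s : Fin 5) (a : V) : V :=
  match s with
  | 0 => a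
  | 1 => (2 * a.2, a.1)
  | 2 => (2 * a.1, 2 * a.2)
  | 3 => (a.2, 2 * a.1)
  | 4 => (a.1 + 2 * a.2, 2 * a.1 + 2 * a.2)

private noncomputable def _root_.Cfsg.Agent.LsF.fd71b2d_0 : {f // @Cfsg.Agent.H223.Bnd.H831.FineLin.X = f} := ⟨_, by first | (delta Cfsg.Agent.H223.Bnd.H831.FineLin.X; rewrite [Cfsg.Agent.LsF.mof_pat, Cfsg.Agent.LsF.vecCons_eq]; exact rfl) | exact rfl⟩
private noncomputable def _root_.Cfsg.Agent.LsF.fd71b2d_1 : {f // @Cfsg.Agent.H223.Bnd.H831.FineLin.Z = f} := ⟨_, by first | (delta Cfsg.Agent.H223.Bnd.H831.FineLin.Z; rewrite [Cfsg.Agent.LsF.mof_pat, Cfsg.Agent.LsF.vecCons_eq]; exact rfl) | exact rfl⟩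
private noncomputable def _root_.Cfsg.Agent.LsF.fd71b2d_2 : {f // @Cfsg.Agent.H223.Bnd.H831.FineLin.Mx = f} := ⟨_, by first | (delta Cfsg.Agent.H223.Bnd.H831.FineLin.Mx; rewrite [Cfsg.Agent.LsF.mpowF_pat, Cfsg.Agent.LsF.mmulF_pat, Cfsg.Agent.LsF.fd71b2d_0.2, Cfsg.Agent.LsF.fd71b2d_1.2, Cfsg.Agent.LsF.zval_eq, Cfsg.Agent.LsF.instZAdd_pat, Cfsg.Agent.LsF.instZMul_pat, Cfsg.Agent.LsF.zACM_pat]; exact rfl) | exact rfl⟩
theorem det_Mx : ∀ a : V, (Mx a).det = 1 := by (refine of_decide_eq_true ?_; (try (rewrite [Cfsg.Agent.LsF.fd71b2d_2.2, Cfsg.Agent.LsF.det_eq, Cfsg.Agent.LsF.zdecEq_eq, Cfsg.Agent.LsF.finFintype_eq, Cfsg.Agent.LsF.zFintype_eq, Cfsg.Agent.LsF.prodFintype_eq, Cfsg.Agent.LsF.dForall_eq, Cfsg.Agent.LsF.dFinEq_eq, Cfsg.Agent.LsF.decide_eq])); decide +kernel)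
theorem det_Ms : ∀ s : Fin 5, (Ms s).det = 1 := by decide +kernel
private noncomputable def _root_.Cfsg.Agent.LsF.fd71b2d_3 : {f // @Cfsg.Agent.H674.Explicit.instFintypeQFOfFactPrime = f} := ⟨_, by first | (delta Cfsg.Agent.H674.Explicit.instFintypeQFOfFactPrime; rewrite [Cfsg.Agent.LsF.zFintype_eq, Cfsg.Agent.LsF.prodFintype_eq, Cfsg.Agent.LsF.ofEqv_eq]; exact rfl) | exact rfl⟩
theorem Mx_mul : ∀ a b : V, ∃ c : F4, Mx a * Mx b = c • Mx (a + b) := by (refine of_decide_eq_true ?_; (try (rewrite [Cfsg.Agent.LsF.mmulF_pat, Cfsg.Agent.LsF.msmul_pat, Cfsg.Agent.LsF.fd71b2d_2.2, Cfsg.Agent.LsF.fd71b2d_3.2, Cfsg.Agent.LsF.zdecEq_eq, Cfsg.Agent.LsF.finFintype_eq, Cfsg.Agent.LsF.zFintype_eq, Cfsg.Agent.LsF.prodFintype_eq, Cfsg.Agent.LsF.dForall_eq, Cfsg.Agent.LsF.dExists_eq, Cfsg.Agent.LsF.dMat_eq, Cfsg.Agent.LsF.instZAdd_pat, Cfsg.Agent.LsF.instZAdd_pat, Cfsg.Agent.LsF.instZMul_pat, Cfsg.Agent.LsF.zACM_pat, Cfsg.Agent.LsF.decide_eq])); decide +kernel)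
theorem Mx_sc : ∀ a : V, (∃ c : F4, Mx a = c • (1 : M3)) → a = 0 := by decide +kernel
private noncomputable def _root_.Cfsg.Agent.LsF.fd71b2d_4 : {f // @Cfsg.Agent.H223.Bnd.H831.FineLin.Ms = f} := ⟨_, by first | (delta Cfsg.Agent.H223.Bnd.H831.FineLin.Ms; rewrite [Cfsg.Agent.LsF.mof_pat, Cfsg.Agent.LsF.vecCons_eq]; (try delta Cfsg.Agent.H223.Bnd.H831.FineLin.Ms.match_1); (try delta Fin.casesOn Nat.casesOn Nat.le.casesOn); exact rfl) | exact rfl⟩
private noncomputable def _root_.Cfsg.Agent.LsF.fd71b2d_5 : {f // @Cfsg.Agent.H223.Bnd.H831.FineLin.al = f} := ⟨_, by first | (delta Cfsg.Agent.H223.Bnd.H831.FineLin.al; rewrite [Cfsg.Agent.LsF.zadd_pat, Cfsg.Agent.LsF.zmul_pat]; (try delta Cfsg.Agent.H223.Bnd.H831.FineLin.Ms.match_1); (try delta Fin.casesOn Nat.casesOn Nat.le.casesOn); exact rfl) | exact rfl⟩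
theorem Ms_conj : ∀ (s : Fin 5) (a : V), ∃ c : F4, Ms s * Mx a = c • (Mx (al s a) * Ms s) := by (refine of_decide_eq_true ?_; (try (rewrite [Cfsg.Agent.LsF.mmulF_pat, Cfsg.Agent.LsF.msmul_pat, Cfsg.Agent.LsF.fd71b2d_4.2, Cfsg.Agent.LsF.fd71b2d_2.2, Cfsg.Agent.LsF.fd71b2d_5.2, Cfsg.Agent.LsF.fd71b2d_3.2, Cfsg.Agent.LsF.zdecEq_eq, Cfsg.Agent.LsF.finFintype_eq, Cfsg.Agent.LsF.zFintype_eq, Cfsg.Agent.LsF.prodFintype_eq, Cfsg.Agent.LsF.dForall_eq, Cfsg.Agent.LsF.dExists_eq, Cfsg.Agent.LsF.dMat_eq, Cfsg.Agent.LsF.instZAdd_pat, Cfsg.Agent.LsF.instZMul_pat, Cfsg.Agent.LsF.zACM_pat, Cfsg.Agent.LsF.dForallFin_eq, Cfsg.Agent.LsF.decide_eq])); decide +kernel)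
theorem al_free : ∀ s t : Fin 5, s ≠ t → ∀ a : V, al s a = al t a → a = 0 := by decide +kernel

abbrev pr : L3 →* P3 := QuotientGroup.mk' (Subgroup.center L3)

theorem pr_eq {g h : L3} {c : F4} (H : (g : M3) = c • (h : M3)) : pr g = pr h := by
  rw [eq_comm, ← inv_mul_eq_one, ← map_inv, ← map_mul, QuotientGroup.mk'_apply, QuotientGroup.eq_one_iff,
    Subgroup.mem_center_iff]
  intro x
  have h1 : ((h⁻¹ * g : L3) : M3) = c • (1 : M3) := by
    rw [Matrix.SpecialLinearGroup.coe_mul, H, mul_smul_comm, ← Matrix.SpecialLinearGroup.coe_mul, inv_mul_cancel,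
      Matrix.SpecialLinearGroup.coe_one]
  apply Subtype.ext
  change (x : M3) * ((h⁻¹ * g : L3) : M3) = ((h⁻¹ * g : L3) : M3) * (x : M3)
  rw [h1, mul_smul_comm, smul_mul_assoc, mul_one, one_mul]

theorem sc_of_pr {g : L3} (h : pr g = 1) : ∃ c : F4, (g : M3) = c • (1 : M3) := by
  rw [QuotientGroup.mk'_apply, QuotientGroup.eq_one_iff] at h
  obtain ⟨c, -, hc⟩ := Matrix.SpecialLinearGroup.mem_center_iff.1 h
  refine ⟨c, ?_⟩
  rw [← hc, Matrix.scalar_apply, Matrix.smul_one_eq_diagonal]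

def mkL (A : M3) (h : A.det = 1) : L3 := ⟨A, h⟩

/-- the elementary abelian group of order nine -/
def φ : Multiplicative V →* P3 :=
  MonoidHom.mk' (fun a => pr (mkL (Mx a.toAdd) (det_Mx _))) (by
    intro a b
    rw [← map_mul]
    obtain ⟨c, hc⟩ := Mx_mul a.toAdd b.toAdd
    exact (pr_eq (c := c) hc).symm)

theorem φ_apply (a : Multiplicative V) : φ a = pr (mkL (Mx a.toAdd) (det_Mx _)) := rfl

theorem φ_injective : Function.Injective φ := by
  rw [injective_iff_map_eq_one]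
  intro a ha
  rw [φ_apply] at ha
  exact congrArg Multiplicative.ofAdd (Mx_sc a.toAdd (sc_of_pr ha))

/-- the elements of the quaternion group -/
def ss (s : Fin 5) : P3 := pr (mkL (Ms s) (det_Ms s))

theorem ss_conj (s : Fin 5) (a : Multiplicative V) : ss s * φ a * (ss s)⁻¹ = φ (Multiplicative.ofAdd (al s a.toAdd)) := by
  rw [mul_inv_eq_iff_eq_mul, ss, φ_apply, φ_apply, ← map_mul, ← map_mul]
  obtain ⟨c, hc⟩ := Ms_conj s a.toAdd
  exact pr_eq (c := c) hc

theorem bd_three {T : Type*} [Group T] (e : P3 ≃* T) {K : Type u} [Field K] (h3 : (3 : K) ≠ 0) : Bd K 3 5 T := by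
  classical
  have key : Bd K 3 5 P3 := by
    have hinj : Function.Injective ss := by
      intro s t hst
      by_contra hne
      have h1 : ∀ a : V, al s a = al t a := by
        intro a
        have h2 := ss_conj s (Multiplicative.ofAdd a)
        rw [hst, ss_conj] at h2
        exact (congrArg Multiplicative.toAdd (φ_injective h2)).symm
      exact absurd (al_free s t hne (1, 0) (h1 _)) (by decide)
    have hfin : Finite φ.range := Finite.of_surjective _ φ.rangeRestrict_surjective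
    have h5 := bd_of_free (F := K) Nat.prime_three (by exact_mod_cast h3) φ.range ?_ ?_ ?_ (Finset.univ.image ss) ?_ ?_
    · rwa [Finset.card_image_of_injective _ hinj, Finset.card_univ, Fintype.card_fin] at h5
    · rintro _ ⟨a, rfl⟩ _ ⟨b, rfl⟩
      rw [← map_mul, ← map_mul, mul_comm]
    · rintro ⟨_, a, rfl⟩
      refine ⟨1, Subtype.ext ?_⟩
      change φ a ^ 3 ^ 1 = 1
      rw [pow_one, ← map_pow]
      have h1 : a ^ 3 = 1 := by
        revert a; decide
      rw [h1, map_one]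
    · intro h
      have h1 : φ (Multiplicative.ofAdd (1, 0)) ∈ φ.range := ⟨_, rfl⟩
      rw [h, Subgroup.mem_bot] at h1
      have h2 := φ_injective (h1.trans (map_one φ).symm)
      exact absurd (congrArg Multiplicative.toAdd h2) (by decide)
    · intro s hs x hx
      obtain ⟨s, -, rfl⟩ := Finset.mem_image.1 hs
      obtain ⟨a, rfl⟩ := hx
      exact ⟨_, (ss_conj s a).symm⟩
    · intro s hs t ht hst x hx h
      obtain ⟨s, -, rfl⟩ := Finset.mem_image.1 hs
      obtain ⟨t, -, rfl⟩ := Finset.mem_image.1 ht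
      obtain ⟨a, rfl⟩ := hx
      rw [ss_conj, ss_conj] at h
      have h1 := congrArg Multiplicative.toAdd (φ_injective h)
      have h2 := al_free s t (fun h => hst (by rw [h])) _ h1
      have h3 : a = 1 := congrArg Multiplicative.ofAdd h2
      rw [h3, map_one]
  exact Bd.congr key e.symm

theorem card_psl34 {F : Type} [Field F] [Fintype F] (hF : Fintype.card F = 4) :
    Nat.card (Matrix.ProjectiveSpecialLinearGroup (Fin 3) F) = 20160 := by
  have h0 := Cfsg.Agent.S0243.result hF 3 (by norm_num)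
  rw [Fin.prod_univ_three] at h0
  norm_num only [_root_.Fin.coe_ofNat_eq_mod, _root_.pow_zero, _root_.Nat.add_one_sub_one, _root_.pow_one] at h0
  omega

theorem fine_l34 {T : Type u} [Group T] [Finite T] {F : Type} [Field F] [Fintype F] (hF : Fintype.card F = 4)
    (e : T ≃* Matrix.ProjectiveSpecialLinearGroup (Fin 3) F) : Cfsg.Agent.H223.Bnd.Bn.{u, u} T := by
  have : Fact (Nat.Prime 2) := ⟨Nat.prime_two⟩
  have hchar : CharP F 2 := charP_of_card_eq_prime_pow (f := 2) hF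
  have hs' : IsSimpleGroup (Matrix.ProjectiveSpecialLinearGroup (Fin 3) F) := Cfsg.Agent.S0249.result 3 le_rfl
  have hs : IsSimpleGroup T := MulEquiv.isSimpleGroup e
  have hcard : Nat.card T = 20160 := by rw [Nat.card_congr e.toEquiv, card_psl34 hF]
  have haut : Nat.card (MulAut T) = 241920 := by
    rw [Nat.card_congr (autCongr e).toEquiv, Cfsg.Agent.H319.PslFour.card_aut hF, card_psl34 hF]
  have hna : ¬ IsMulCommutative T := not_comm_of_card (by rw [hcard]; norm_num)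
  have hc := center_eq_bot hna
  let ψ : P3 ≃* T := (Cfsg.Agent.LieClassical.FieldTransfer.pslCongr
    (FiniteField.ringEquivOfCardEq (h4.trans (by rw [hF]; norm_num)))).trans e.symm
  refine Cfsg.Agent.H223.Bnd.Bn.of_lt6 hc (by rw [hcard]; norm_num) fun p m hp h11 hpT hm hR => ?_
  rw [haut]
  have h6 : 6 ≤ m := by
    obtain ⟨K, _, _, d, hd2, hdm, hPR⟩ := Cfsg.Agent.H831.FineScalar.exists_scalar hna hR
    refine le_trans ?_ hdm
    have hcast : ∀ r : ℕ, r.Prime → r ∣ Nat.card T → (r : K) ≠ 0 := by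
      intro r hr hrT
      rw [Ne, CharP.cast_eq_zero_iff K p, Nat.prime_dvd_prime_iff_eq hp hr]
      rintro rfl
      exact hpT hrT
    by_cases h2 : 2 ∣ d
    · by_cases h3 : 3 ∣ d
      · have h6 : 6 ∣ d := Nat.Coprime.mul_dvd_of_dvd_of_dvd (by norm_num) h2 h3
        exact Nat.le_of_dvd (by omega) h6
      · have h5 := bd_three ψ (K := K) (by exact_mod_cast hcast 3 Nat.prime_three (by rw [hcard]; norm_num)) d
          (hPR 3 Nat.prime_three h3)
        omega
    · have h5 := Cfsg.Agent.H175.BdSL.bd_psl (F := K) Nat.prime_two hF le_rfl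
        (hcast 2 Nat.prime_two (by rw [hcard]; norm_num)) e d (hPR 2 Nat.prime_two h2)
      norm_num at h5
      omega
  exact numeric (k := 6) (B := 12) (d := 5) (by norm_num) (by omega) (by norm_num) (by decide) h11

end Cfsg.Agent.H223.Bnd.H831.FineLin
end

-- part: H223/Bnd/USix
section
/-!
# `Fine` for `PSU_4(3)` and `PSU_6(2)` (helper831, task 764 for S4881)
-/

set_option autoImplicit false

namespace Cfsg.Agent.H223.Bnd.H831.FineUSix
universe u

open Cfsg.Agent.H698 Cfsg.Agent.H831.FineBase Cfsg.Agent.H831.FineUnit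
open Cfsg.Agent.H674.SUBlock Cfsg.Agent.H674.Explicit Cfsg.Agent.H674.ExplicitCases Cfsg.Agent.H674.TwelvePSU
open Cfsg.Agent.LieClassical Cfsg.Agent.H92

section

variable {F : Type} [Field F] [Fintype F]

theorem card_psu62 (hF : Fintype.card F = 2 ^ 2) : Nat.card (Cfsg.PSU 6 F 2) = 9196830720 := by
  have h0 := Cfsg.Agent.S0280.result hF 6 (by norm_num)
  have h1 : 9 * Nat.card (Cfsg.PSU 6 F 2) = 9 * 9196830720 := by
    rw [show (Nat.gcd 6 (2 + 1) : ℕ) = 3 by norm_num] at h0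
    have h2 : 3 * ((2 + 1) * Nat.card (Cfsg.PSU 6 F 2)) = 9 * Nat.card (Cfsg.PSU 6 F 2) := by ring
    rw [← h2, h0]
    decide
  omega

theorem card_psu52 (hF : Fintype.card F = 2 ^ 2) : Nat.card (Cfsg.PSU 5 F 2) = 13685760 := by
  have h0 := Cfsg.Agent.S0280.result hF 5 (by norm_num)
  have h1 : 3 * Nat.card (Cfsg.PSU 5 F 2) = 3 * 13685760 := by
    rw [show (Nat.gcd 5 (2 + 1) : ℕ) = 1 by norm_num] at h0
    have h2 : 1 * ((2 + 1) * Nat.card (Cfsg.PSU 5 F 2)) = 3 * Nat.card (Cfsg.PSU 5 F 2) := by ring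
    rw [← h2, h0]
    decide
  omega

theorem card_psu43 (hF : Fintype.card F = 3 ^ 2) : Nat.card (Cfsg.PSU 4 F 3) = 3265920 := by
  have h0 := Cfsg.Agent.S0280.result hF 4 (by norm_num)
  have h1 : 16 * Nat.card (Cfsg.PSU 4 F 3) = 16 * 3265920 := by
    rw [show (Nat.gcd 4 (3 + 1) : ℕ) = 4 by norm_num] at h0
    have h2 : 4 * ((3 + 1) * Nat.card (Cfsg.PSU 4 F 3)) = 16 * Nat.card (Cfsg.PSU 4 F 3) := by ring
    rw [← h2, h0]
    decide
  omega

theorem card_psu33 (hF : Fintype.card F = 3 ^ 2) : Nat.card (Cfsg.PSU 3 F 3) = 6048 := by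
  have h0 := Cfsg.Agent.S0280.result hF 3 (by norm_num)
  have h1 : 4 * Nat.card (Cfsg.PSU 3 F 3) = 4 * 6048 := by
    rw [show (Nat.gcd 3 (3 + 1) : ℕ) = 1 by norm_num] at h0
    have h2 : 1 * ((3 + 1) * Nat.card (Cfsg.PSU 3 F 3)) = 4 * Nat.card (Cfsg.PSU 3 F 3) := by ring
    rw [← h2, h0]
    decide
  omega

theorem card_aut_psu62 (hF : Fintype.card F = 2 ^ 2) : Nat.card (MulAut (Cfsg.PSU 6 F 2)) = 55180984320 := by
  have : Fact (Nat.Prime 2) := ⟨Nat.prime_two⟩
  rw [Cfsg.Agent.S0815.result 2 1 le_rfl (q := 2) (by norm_num) hF 6 (by norm_num) (by norm_num), card_psu62 hF]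
  norm_num

theorem card_aut_psu43 (hF : Fintype.card F = 3 ^ 2) : Nat.card (MulAut (Cfsg.PSU 4 F 3)) = 26127360 := by
  have : Fact (Nat.Prime 3) := ⟨Nat.prime_three⟩
  rw [Cfsg.Agent.S0815.result 3 1 le_rfl (q := 3) (by norm_num) hF 4 (by norm_num) (by norm_num), card_psu43 hF]
  norm_num

end

/-- the dimension of a projective representation of `PSU_6(2)` is at least `10` (restrict to `SU_5(2)`) -/
theorem ten_le {T : Type u} [Group T] [Finite T] {F : Type} [Field F] [Fintype F] [CharP F 2]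
    (hF : Fintype.card F = 2 ^ 2) (e : T ≃* Cfsg.PSU (5 + 1) F 2) {p m : ℕ} (hp : p.Prime)
    (hpT : ¬ p ∣ Nat.card T) (h : Rep.{u, u} p m T) : 10 ≤ m := by
  have : Fact (Nat.Prime 2) := ⟨Nat.prime_two⟩
  obtain ⟨ε⟩ := nonempty_su_psu (n := 5) hF (by norm_num) (by norm_num)
  let f : Cfsg.SU 5 F 2 →* T := e.symm.toMonoidHom.comp ((pr : Cfsg.SU (5 + 1) F 2 →* _).comp (ext hF 1))
  have hf : Function.Injective f := e.symm.injective.comp (pr_ext_injective hF (by norm_num) (by norm_num))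
  let E : f.range ≃* Cfsg.PSU 5 F 2 := (MonoidHom.ofInjective hf).symm.trans ε
  have hs : IsSimpleGroup (Cfsg.PSU 5 F 2) := Cfsg.Agent.S0283.result hF 5 (by norm_num) (by norm_num)
  have hs' : IsSimpleGroup f.range := MulEquiv.isSimpleGroup E
  have hM : Cfsg.HasSchurMultiplier f.range (Multiplicative (ZMod (Nat.gcd 5 (2 + 1)))) :=
    Cfsg.Agent.H487.HasSchurMultiplier.congr_left
      (Cfsg.Agent.S2089.result 5 2 hF (by norm_num) (by norm_num) (by simp)) E.symm
  have hcard : Nat.card f.range = 13685760 := by rw [Nat.card_congr E.toEquiv, card_psu52 hF]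
  have hna : ¬ IsMulCommutative f.range := not_comm_of_card (by rw [hcard]; norm_num)
  have h1 := h.sub hna f.range.subtype (Subgroup.subtype_injective _)
  refine Rep.le_of_Bd (r := 2) hp Nat.prime_two (by rw [hcard]; norm_num) ?_ h1 hM ?_ ?_
  · intro h2
    exact hpT (h2.trans (Subgroup.card_subgroup_dvd_card _))
  · have : Nat.card (Multiplicative (ZMod (Nat.gcd 5 (2 + 1)))) = 1 := by
      rw [Nat.card_congr Multiplicative.toAdd, Nat.card_zmod]
      norm_num
    rw [this]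
    exact Nat.coprime_one_left 2
  · intro K _ hrK
    exact (Cfsg.Agent.H223.Bnd.Low.bd_su52 hrK).congr
      ((MonoidHom.ofInjective hf).symm.trans
        (FieldTransfer.suCongr 5 2 (FiniteField.ringEquivOfCardEq (hF.trans h4.symm))))

theorem fine_u62 {T : Type u} [Group T] [Finite T] {F : Type} [Field F] [Fintype F] (hF : Fintype.card F = 2 ^ 2)
    (e : T ≃* Cfsg.PSU 6 F 2) : Cfsg.Agent.H223.Bnd.Bn.{u, u} T := by
  have : Fact (Nat.Prime 2) := ⟨Nat.prime_two⟩
  have hchar : CharP F 2 := charP_of_card_eq_prime_pow (f := 2) hF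
  have haut : Nat.card (MulAut T) = 55180984320 := by
    rw [Nat.card_congr (autCongr e).toEquiv, card_aut_psu62 hF]
  exact Cfsg.Agent.H223.Bnd.Bn.of_twentythree (d := 9)
    (fun p m hp _ hpT _ hR => ten_le hF e hp hpT hR) (by rw [haut]; norm_num)

/-! ### `PSU_4(3)` -/

def M8 : Matrix (Fin 4) (Fin 4) F9 := !![⟨1, 1⟩, ⟨0, 0⟩, ⟨2, 1⟩, ⟨0, 0⟩; ⟨0, 0⟩, ⟨0, 0⟩, ⟨0, 0⟩, ⟨2, 0⟩; ⟨0, 0⟩, ⟨2, 0⟩, ⟨0, 0⟩, ⟨0, 0⟩; ⟨1, 1⟩, ⟨0, 0⟩, ⟨1, 2⟩, ⟨0, 0⟩]
def M9 : Matrix (Fin 4) (Fin 4) F9 := !![⟨0, 0⟩, ⟨2, 2⟩, ⟨0, 2⟩, ⟨1, 0⟩; ⟨0, 0⟩, ⟨0, 0⟩, ⟨2, 2⟩, ⟨2, 1⟩; ⟨0, 0⟩, ⟨2, 2⟩, ⟨0, 1⟩, ⟨2, 0⟩; ⟨0, 1⟩, ⟨0, 0⟩, ⟨0, 0⟩, ⟨0, 0⟩]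
def M12 : Matrix (Fin 4) (Fin 4) F9 := !![⟨0, 0⟩, ⟨0, 0⟩, ⟨2, 0⟩, ⟨0, 0⟩; ⟨2, 2⟩, ⟨2, 2⟩, ⟨0, 0⟩, ⟨0, 0⟩; ⟨1, 1⟩, ⟨2, 2⟩, ⟨0, 0⟩, ⟨0, 0⟩; ⟨0, 0⟩, ⟨0, 0⟩, ⟨0, 0⟩, ⟨0, 1⟩]

private noncomputable def _root_.Cfsg.Agent.LsF.fd71b2d_6 : {f // @Cfsg.Agent.H674.Explicit.good = f} := ⟨_, by first | (delta Cfsg.Agent.H674.Explicit.good; rewrite [Cfsg.Agent.LsF.det_eq, Cfsg.Agent.LsF.finFintype_eq, Cfsg.Agent.LsF.dMat_eq, Cfsg.Agent.LsF.instMHMul_eq, Cfsg.Agent.LsF.transpose_eq, Cfsg.Agent.LsF.instMOne_eq, Cfsg.Agent.LsF.mmap_eq, Cfsg.Agent.LsF.and_eq, Cfsg.Agent.LsF.dFinEq_eq, Cfsg.Agent.LsF.decide_eq]; exact rfl) | exact rfl⟩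
private noncomputable def _root_.Cfsg.Agent.LsF.fd71b2d_7 : {f // @Cfsg.Agent.H223.Bnd.H831.FineUSix.M8 = f} := ⟨_, by first | (delta Cfsg.Agent.H223.Bnd.H831.FineUSix.M8; rewrite [Cfsg.Agent.LsF.mof_pat, Cfsg.Agent.LsF.vecCons_eq]; exact rfl) | exact rfl⟩
private noncomputable def _root_.Cfsg.Agent.LsF.fd71b2d_8 : {f // @Cfsg.Agent.H223.Bnd.H831.FineUSix.M9 = f} := ⟨_, by first | (delta Cfsg.Agent.H223.Bnd.H831.FineUSix.M9; rewrite [Cfsg.Agent.LsF.mof_pat, Cfsg.Agent.LsF.vecCons_eq]; exact rfl) | exact rfl⟩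
private noncomputable def _root_.Cfsg.Agent.LsF.fd71b2d_9 : {f // @Cfsg.Agent.H223.Bnd.H831.FineUSix.M12 = f} := ⟨_, by first | (delta Cfsg.Agent.H223.Bnd.H831.FineUSix.M12; rewrite [Cfsg.Agent.LsF.mof_pat, Cfsg.Agent.LsF.vecCons_eq]; exact rfl) | exact rfl⟩
theorem good_M : good 3 M8 = true ∧ good 3 M9 = true ∧ good 3 M12 = true := by (refine of_decide_eq_true ?_; (try (rewrite [Cfsg.Agent.LsF.fd71b2d_6.2, Cfsg.Agent.LsF.fd71b2d_7.2, Cfsg.Agent.LsF.fd71b2d_8.2, Cfsg.Agent.LsF.fd71b2d_9.2, Cfsg.Agent.LsF.zdecEq_eq, Cfsg.Agent.LsF.dAnd_eq, Cfsg.Agent.LsF.dBoolEq_eq, Cfsg.Agent.LsF.decide_eq])); decide +kernel)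
private noncomputable def _root_.Cfsg.Agent.LsF.fd71b2d_10 : {f // @Cfsg.Agent.H674.Explicit.isSc = f} := ⟨_, by first | (delta Cfsg.Agent.H674.Explicit.isSc; rewrite [Cfsg.Agent.LsF.finFintype_eq, Cfsg.Agent.LsF.dMat_eq, Cfsg.Agent.LsF.instMOne_eq, Cfsg.Agent.LsF.dFinEq_eq, Cfsg.Agent.LsF.decide_eq]; exact rfl) | exact rfl⟩
theorem sc_M : isSc (M8 ^ 8) = true ∧ isSc (M9 ^ 9) = true ∧ isSc (M12 ^ 12) = true := by (refine of_decide_eq_true ?_; (try (rewrite [Cfsg.Agent.LsF.mpowF_pat, Cfsg.Agent.LsF.fd71b2d_10.2, Cfsg.Agent.LsF.fd71b2d_7.2, Cfsg.Agent.LsF.fd71b2d_8.2, Cfsg.Agent.LsF.fd71b2d_9.2, Cfsg.Agent.LsF.zdecEq_eq, Cfsg.Agent.LsF.dAnd_eq, Cfsg.Agent.LsF.dBoolEq_eq, Cfsg.Agent.LsF.decide_eq])); decide +kernel)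
theorem nsc_M8 : ∀ k < 8, 0 < k → isSc (M8 ^ k) = false := by decide +kernel
theorem nsc_M9 : ∀ k < 9, 0 < k → isSc (M9 ^ k) = false := by decide +kernel
theorem nsc_M12 : ∀ k < 12, 0 < k → isSc (M12 ^ k) = false := by decide +kernel

theorem ord43 : ∀ n ∈ ({1, 2, 3, 4, 5, 6, 7, 8, 9, 12} : Finset ℕ), KTools.HasOrd (Cfsg.PSU 4 F9 3) n := by
  have h8 : KTools.HasOrd (Cfsg.PSU 4 F9 3) 8 := exists_ord h9 (by norm_num) good_M.1 (by norm_num) sc_M.1 nsc_M8
  have h9' : KTools.HasOrd (Cfsg.PSU 4 F9 3) 9 :=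
    exists_ord h9 (by norm_num) good_M.2.1 (by norm_num) sc_M.2.1 nsc_M9
  have h12 : KTools.HasOrd (Cfsg.PSU 4 F9 3) 12 :=
    exists_ord h9 (by norm_num) good_M.2.2 (by norm_num) sc_M.2.2 nsc_M12
  intro n hn
  simp only [Finset.mem_insert, Finset.mem_singleton] at hn
  rcases hn with rfl | rfl | rfl | rfl | rfl | rfl | rfl | rfl | rfl | rfl
  · exact KTools.hasOrd_one _
  · exact h8.of_dvd (by norm_num) (by norm_num)
  · exact h12.of_dvd (by norm_num) (by norm_num)
  · exact h8.of_dvd (by norm_num) (by norm_num)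
  · exact KTools.hasOrd_prime (by norm_num) (by rw [card_psu43 h9]; norm_num)
  · exact h12.of_dvd (by norm_num) (by norm_num)
  · exact KTools.hasOrd_prime (by norm_num) (by rw [card_psu43 h9]; norm_num)
  · exact h8
  · exact h9'
  · exact h12

theorem fine_u43 {T : Type u} [Group T] [Finite T] {F : Type} [Field F] [Fintype F] (hF : Fintype.card F = 3 ^ 2)
    (e : T ≃* Cfsg.PSU 4 F 3) : Cfsg.Agent.H223.Bnd.Bn.{u, u} T := by
  have : Fact (Nat.Prime 3) := ⟨Nat.prime_three⟩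
  have hchar : CharP F 3 := charP_of_card_eq_prime_pow (f := 2) hF
  have hs' : IsSimpleGroup (Cfsg.PSU 4 F 3) := Cfsg.Agent.S0283.result hF 4 (by norm_num) (by norm_num)
  have hs : IsSimpleGroup T := MulEquiv.isSimpleGroup e
  have hcard : Nat.card T = 3265920 := by rw [Nat.card_congr e.toEquiv, card_psu43 hF]
  have haut : Nat.card (MulAut T) = 26127360 := by
    rw [Nat.card_congr (autCongr e).toEquiv, card_aut_psu43 hF]
  have hna : ¬ IsMulCommutative T := not_comm_of_card (by rw [hcard]; norm_num)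
  have hc := center_eq_bot hna
  let ψ : Cfsg.PSU 4 F9 3 ≃* T :=
    (FieldTransfer.psuCongr 4 3 (FiniteField.ringEquivOfCardEq (h9.trans hF.symm))).trans e.symm
  refine Cfsg.Agent.H223.Bnd.Bn.of_classes (k := 10) (fun X hX => ?_) fun p m hp h11 hpT hm hR => ?_
  · refine le_trans (by decide) (orders_le hc {1, 2, 3, 4, 5, 6, 7, 8, 9, 12} (fun n hn => ?_) hX)
    obtain ⟨g, hg⟩ := ord43 n hn
    exact ⟨ψ g, by rw [MulEquiv.orderOf_eq, hg]⟩
  · rw [haut]
    have h1 := le_of_sub (n := 3) (k := 1) (r := 3) Nat.prime_three hF (by norm_num) (by norm_num) (by norm_num)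
      (by norm_num) (by simp) (by rw [card_psu33 hF]; norm_num) (by rw [card_psu33 hF]; norm_num) e hp hpT hR
    exact numeric (B := 31) (d := 5) (by norm_num) (by omega) (by norm_num) (by decide) h11

end Cfsg.Agent.H223.Bnd.H831.FineUSix
end

-- part: H223/Bnd/Psp
section
/-!
# `Fine` for `PSp_2m(q)` (helper454, S4881)
-/

set_option autoImplicit false

namespace Cfsg.Agent.H223.Bnd.H454.FinePsp
universe u v

open Cfsg.Agent.H698 Cfsg.Agent.H912.Bd Cfsg.Agent.H223.Bnd.H454.FineAux Matrix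

section card

variable {F : Type*} [Field F] [Fintype F]

theorem card_psp {m q : ℕ} (hF : Fintype.card F = q) (hm : 1 ≤ m) :
    Nat.gcd 2 (q - 1) * Nat.card (Cfsg.PSp m F) = q ^ (m ^ 2) * ∏ i ∈ Finset.range m, (q ^ (2 * (i + 1)) - 1) := by
  have h1 := S0245.result (F := F) hF m
  have h2 := S0246.result (F := F) hF m hm
  have h3 := Subgroup.card_eq_card_quotient_mul_card_subgroup
    (Subgroup.center (Matrix.symplecticGroup (Fin m) F))
  rw [h1, h2] at h3
  rw [mul_comm]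
  exact h3.symm

theorem card_le {m q : ℕ} (hF : Fintype.card F = q) (hm : 1 ≤ m) :
    Nat.gcd 2 (q - 1) * Nat.card (Cfsg.PSp m F) ≤ q ^ (2 * m ^ 2 + m) := by
  rw [card_psp hF hm]
  have h1 : ∀ k : ℕ, ∏ i ∈ Finset.range k, (q ^ (2 * (i + 1)) - 1) ≤ q ^ (k * (k + 1)) := by
    intro k
    induction k with
    | zero => simp
    | succ k ih =>
      rw [Finset.prod_range_succ]
      calc _ ≤ q ^ (k * (k + 1)) * q ^ (2 * (k + 1)) := Nat.mul_le_mul ih (Nat.sub_le _ _)
        _ = _ := by rw [← pow_add]; congr 1; ring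
  calc _ ≤ q ^ (m ^ 2) * q ^ (m * (m + 1)) := Nat.mul_le_mul_left _ (h1 m)
    _ = _ := by rw [← pow_add]; congr 1; ring

theorem dvd_card {m q r : ℕ} (hF : Fintype.card F = q) (hm : 1 ≤ m) (hr : r.Prime) (hrq : r ∣ q) :
    r ∣ Nat.card (Cfsg.PSp m F) := by
  have hq1 : 1 < q := hF ▸ Fintype.one_lt_card
  have h1 := card_psp hF hm
  have h3 : r ∣ Nat.gcd 2 (q - 1) * Nat.card (Cfsg.PSp m F) := by
    rw [h1]
    exact Dvd.dvd.mul_right (hrq.trans (dvd_pow_self q (by positivity))) _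
  rcases (Nat.Prime.dvd_mul hr).1 h3 with h5 | h5
  · exfalso
    have h6 := h5.trans (Nat.gcd_dvd_right _ _)
    have h4 := (Nat.dvd_sub_iff_right (by omega : 1 ≤ q) hrq).1 h6
    exact hr.one_lt.ne' (Nat.dvd_one.1 h4)
  · exact h5

end card

/-! ### inequalities -/

theorem sq_le_two_pow (q : ℕ) : q ^ 2 ≤ 2 ^ (q + 1) := by
  induction q with
  | zero => norm_num
  | succ q ih =>
    rcases (by omega : q = 0 ∨ q = 1 ∨ q = 2 ∨ 3 ≤ q) with rfl | rfl | rfl | h
    · norm_num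
    · norm_num
    · norm_num
    · rw [pow_succ 2 (q + 1)]
      nlinarith

/-- `q ^ a ≤ 11 ^ b` if `(q + 1) a ≤ 6 b` -/
theorem pow_le_eleven' {q a b : ℕ} (h : (q + 1) * a ≤ 6 * b) : q ^ a ≤ 11 ^ b := by
  have h1 : (q ^ a) ^ 2 ≤ (11 ^ b) ^ 2 := by
    calc (q ^ a) ^ 2 = (q ^ 2) ^ a := by rw [← pow_mul, ← pow_mul, mul_comm]
      _ ≤ (2 ^ (q + 1)) ^ a := Nat.pow_le_pow_left (sq_le_two_pow q) a
      _ = 2 ^ ((q + 1) * a) := by rw [← pow_mul]
      _ ≤ 2 ^ (6 * b) := Nat.pow_le_pow_right (by norm_num) h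
      _ = 64 ^ b := by rw [pow_mul]; norm_num
      _ ≤ 121 ^ b := Nat.pow_le_pow_left (by norm_num) b
      _ = (11 ^ b) ^ 2 := by rw [← pow_mul, mul_comm, pow_mul]; norm_num
  exact (Nat.pow_le_pow_iff_left two_ne_zero).1 h1

/-- `q` even -/
theorem num_even {m q : ℕ} (hm : 2 ≤ m) (hq : 2 ≤ q) (h : (m = 2 ∨ m = 3) → 4 ≤ q) :
    (q - 1) * (2 * m ^ 2 + m + 1) + 6 ≤ 3 * q ^ m := by
  obtain ⟨a, rfl⟩ : ∃ a, q = a + 1 := ⟨q - 1, by omega⟩
  rw [Nat.add_sub_cancel]
  have step : ∀ m, 2 ≤ m → a * (2 * m ^ 2 + m + 1) + 6 ≤ 3 * (a + 1) ^ m →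
      a * (2 * (m + 1) ^ 2 + (m + 1) + 1) + 6 ≤ 3 * (a + 1) ^ (m + 1) := by
    intro m hm ih
    rw [pow_succ (a + 1) m]
    have h1 : 2 * (3 * (a + 1) ^ m) ≤ (a + 1) * (3 * (a + 1) ^ m) := Nat.mul_le_mul_right _ (by omega)
    have h2 : 2 * (m + 1) ^ 2 + (m + 1) + 1 ≤ 2 * (2 * m ^ 2 + m + 1) := by nlinarith only [hm]
    have h3 : a * (2 * (m + 1) ^ 2 + (m + 1) + 1) ≤ a * (2 * (2 * m ^ 2 + m + 1)) := Nat.mul_le_mul_left _ h2
    linarith only [ih, h1, h3]
  have base2 : 3 ≤ a → a * (2 * 2 ^ 2 + 2 + 1) + 6 ≤ 3 * (a + 1) ^ 2 := by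
    intro ha
    nlinarith only [ha]
  have base4 : a * (2 * 4 ^ 2 + 4 + 1) + 6 ≤ 3 * (a + 1) ^ 4 := by
    have ha : 1 ≤ a := by omega
    have e : 3 * (a + 1) ^ 4 = 3 * a ^ 4 + 12 * a ^ 3 + 18 * a ^ 2 + 12 * a + 3 := by ring
    rw [e]
    have h2 : a ≤ a ^ 2 := by nlinarith only []
    have h3 : a ^ 2 ≤ a ^ 3 := by rw [pow_succ a 2]; nlinarith only [hq]
    have h4 : a ^ 3 ≤ a ^ 4 := by rw [pow_succ a 3]; nlinarith only [h2]
    linarith only [hq, h2, h3, h4]
  rcases (by omega : m = 2 ∨ m = 3 ∨ 4 ≤ m) with rfl | rfl | h4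
  · exact base2 (by omega)
  · exact step 2 le_rfl (base2 (by omega))
  · clear h hm
    induction m, h4 using Nat.le_induction with
    | base => exact base4
    | succ m hm ih => exact step m (by omega) ih

/-- `q` odd, `(m, q) ≠ (3, 3)` -/
theorem num_odd {m q : ℕ} (hm : 2 ≤ m) (hq : 3 ≤ q) (h : m = 2 → 5 ≤ q) (h33 : ¬ (m = 3 ∧ q = 3)) (hodd : q ≠ 4) :
    (q + 1) * (2 * m ^ 2 + m + 1) + 9 ≤ 3 * q ^ m := by
  obtain ⟨a, rfl⟩ : ∃ a, q = a + 3 := ⟨q - 3, by omega⟩
  have step : ∀ m, 2 ≤ m → (a + 3 + 1) * (2 * m ^ 2 + m + 1) + 9 ≤ 3 * (a + 3) ^ m →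
      (a + 3 + 1) * (2 * (m + 1) ^ 2 + (m + 1) + 1) + 9 ≤ 3 * (a + 3) ^ (m + 1) := by
    intro m hm ih
    rw [pow_succ (a + 3) m]
    have h1 : 2 * (3 * (a + 3) ^ m) ≤ (a + 3) * (3 * (a + 3) ^ m) := Nat.mul_le_mul_right _ (by omega)
    have h2 : 2 * (m + 1) ^ 2 + (m + 1) + 1 ≤ 2 * (2 * m ^ 2 + m + 1) := by nlinarith only [hm]
    have h3 : (a + 3 + 1) * (2 * (m + 1) ^ 2 + (m + 1) + 1) ≤ (a + 3 + 1) * (2 * (2 * m ^ 2 + m + 1)) :=
      Nat.mul_le_mul_left _ h2
    linarith only [ih, h1, h3]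
  have base2 : 2 ≤ a → (a + 3 + 1) * (2 * 2 ^ 2 + 2 + 1) + 9 ≤ 3 * (a + 3) ^ 2 := by
    intro ha
    nlinarith only [ha]
  have base4 : (a + 3 + 1) * (2 * 4 ^ 2 + 4 + 1) + 9 ≤ 3 * (a + 3) ^ 4 := by
    have e : 3 * (a + 3) ^ 4 = 3 * a ^ 4 + 36 * a ^ 3 + 162 * a ^ 2 + 324 * a + 243 := by ring
    rw [e]
    linarith only [Nat.zero_le (a ^ 3), Nat.zero_le (a ^ 4), _root_.sq_nonneg (↑a : ℤ), _root_.Nat.cast_nonneg (α := ℤ) (a)]
  rcases (by omega : m = 2 ∨ m = 3 ∨ 4 ≤ m) with rfl | rfl | h4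
  · exact base2 (by omega)
  · exact step 2 le_rfl (base2 (by omega))
  · clear h hm h33
    induction m, h4 using Nat.le_induction with
    | base => exact base4
    | succ m hm ih => exact step m (by omega) ih

/-! ### `Sp_6(2)` -/

section SpSix

open Cfsg.Agent.H203.BdSL2 Cfsg.Agent.H203.LS

theorem sl_simple {K : Type*} [Field K] [Fintype K] (h2 : (2 : K) = 0) (h4 : 4 ≤ Fintype.card K) :
    IsSimpleGroup (SpecialLinearGroup (Fin 2) K) := by
  have hs : IsSimpleGroup (ProjectiveSpecialLinearGroup (Fin 2) K) :=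
    Matrix.ProjectiveSpecialLinearGroup.rank_two_simple (by rw [Nat.card_eq_fintype_card]; omega)
  have hZ : Subgroup.center (SpecialLinearGroup (Fin 2) K) = ⊥ := by
    rw [eq_bot_iff]
    intro x hx
    obtain ⟨r, hr, hrx⟩ := Matrix.SpecialLinearGroup.mem_center_iff.1 hx
    rw [Fintype.card_fin] at hr
    have h1 : r = 1 := by
      have h3 : (r - 1) ^ 2 = 0 := by linear_combination hr - r * h2 + h2
      exact sub_eq_zero.1 (pow_eq_zero_iff two_ne_zero |>.1 h3)
    rw [Subgroup.mem_bot]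
    apply Subtype.ext
    rw [← hrx, h1]
    simp
  have hnt : Nontrivial (SpecialLinearGroup (Fin 2) K) :=
    (QuotientGroup.mk_surjective (s := Subgroup.center (SpecialLinearGroup (Fin 2) K))).nontrivial
  have e : ProjectiveSpecialLinearGroup (Fin 2) K ≃* SpecialLinearGroup (Fin 2) K :=
    (QuotientGroup.quotientMulEquivOfEq hZ).trans QuotientGroup.quotientBot
  exact IsSimpleGroup.isSimpleGroup_of_surjective e.toMonoidHom e.surjective

/-- `Rep p m T` and `SL(2, 8) ≤ T` give `7 ≤ m`. -/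
theorem seven_le {T : Type u} [Group T] [Finite T] {p m : ℕ} (hp : p.Prime) (hpT : ¬ p ∣ Nat.card T)
    (hR : Rep.{u, u} p m T) {K : Type*} [Field K] [Fintype K] (hK : Fintype.card K = 8) [CharP K 2]
    (g : SpecialLinearGroup (Fin 2) K →* T) (hg : Function.Injective g) : 7 ≤ m := by
  have h2 : (2 : K) = 0 := by exact_mod_cast CharP.cast_eq_zero K 2
  have hs : IsSimpleGroup (SpecialLinearGroup (Fin 2) K) := sl_simple h2 (by omega)
  let S : Subgroup T := g.range
  let e : SpecialLinearGroup (Fin 2) K ≃* S := MonoidHom.ofInjective hg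
  have hnt : Nontrivial S := e.symm.toEquiv.nontrivial
  have hsS : IsSimpleGroup S := IsSimpleGroup.isSimpleGroup_of_surjective e.toMonoidHom e.surjective
  have hup : up (1 : K) ≠ 1 := by
    intro h
    have h1 := congrArg (fun A : SpecialLinearGroup (Fin 2) K => (A : Matrix (Fin 2) (Fin 2) K) 0 1) h
    simp [up] at h1
  have hna : ¬ IsMulCommutative S := by
    intro hc
    have h1 := hc.1.1 (e (up 1)) (e (lo 1))
    rw [← map_mul, ← map_mul] at h1
    have h3 := e.injective h1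
    have h4 := congrArg (fun A : SpecialLinearGroup (Fin 2) K => (A : Matrix (Fin 2) (Fin 2) K) 0 0) h3
    simp only [Matrix.SpecialLinearGroup.coe_mul] at h4
    simp [up, lo, Matrix.mul_apply, Fin.sum_univ_two] at h4
  have hcS : Nat.card S ∣ Nat.card T := Subgroup.card_subgroup_dvd_card S
  have h2S : 2 ∣ Nat.card S := by
    have h1 : orderOf (up (1 : K)) = 2 := by
      refine orderOf_eq_prime ?_ hup
      rw [pow_two, ← up_add]
      have : (1 : K) + 1 = 0 := by rw [← h2]; norm_num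
      rw [this, up_zero]
    rw [← h1, ← Nat.card_congr e.toEquiv]
    exact orderOf_dvd_natCard _
  have hLS : LS.{u, u, u} 2 ((8 - 1) / Nat.gcd 2 (8 - 1)) S :=
    LS.sl2 hK (by norm_num) (by norm_num) e.toMonoidHom (x₀ := 1) (by
      intro h
      exact hup ((MulEquiv.map_eq_one_iff e).1 h))
  have h1 := (hR.sub hna S.subtype Subtype.coe_injective).le_of_LS hp Nat.prime_two h2S
    (fun h => hpT (h.trans hcS)) hLS
  norm_num at h1
  exact h1

/-- `Sp_6(2)` -/
theorem fine_sp6 {T : Type u} [Group T] [Finite T] {F : Type} [Field F] [Fintype F] (hF : Fintype.card F = 2)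
    (e : T ≃* Cfsg.PSp 3 F) : Cfsg.Agent.H223.Bnd.Bn.{u, u} T := by
  have hs : IsSimpleGroup (Cfsg.PSp 3 F) := Cfsg.Agent.S0270.result 3 (by norm_num) (by norm_num)
  have hnt : Nontrivial T := e.toEquiv.nontrivial
  have hsT : IsSimpleGroup T := IsSimpleGroup.isSimpleGroup_of_surjective e.symm.toMonoidHom e.symm.surjective
  have hc : Nat.card (Cfsg.PSp 3 F) = 1451520 := by
    have h1 := card_psp hF (m := 3) (by norm_num)
    simp only [Finset.prod_range_succ, _root_.Nat.add_one_sub_one, _root_.Nat.gcd_one_right, _root_.one_mul, _root_.Nat.reducePow, _root_.Finset.prod_range_succ, _root_.Finset.range_one, _root_.Finset.prod_singleton, _root_.zero_add, _root_.mul_one, _root_.Nat.reduceAdd, _root_.Nat.reduceMul] at h1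
    exact h1
  have hA : Nat.card (MulAut T) = 1451520 := by
    have : Fact (Nat.Prime 2) := ⟨Nat.prime_two⟩
    rw [card_mulAut_congr e, Cfsg.Agent.S0814.result 2 1 le_rfl (by rw [hF, pow_one]) 3 (by norm_num) (by norm_num), hc]
    norm_num
  -- the embedding of `SL(2, 8)`
  have hfin : Fintype (GaloisField 2 3) := Fintype.ofFinite _
  have hK : Fintype.card (GaloisField 2 3) = 8 := by
    rw [← Nat.card_eq_fintype_card, GaloisField.card 2 3 (by norm_num)]; norm_num
  obtain ⟨φ, hφ⟩ := Cfsg.Agent.H454.SpExt.exists_sl_two (K := GaloisField 2 3) (F := F) (q := 2) (k := 3) (by norm_num)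
    (by rw [hK]; norm_num) hF
  have hZ : Subgroup.center (symplecticGroup (Fin 3) F) = ⊥ := by
    rw [← Subgroup.card_eq_one, S0246.result (F := F) hF 3 (by norm_num)]
    norm_num
  have hmk : Function.Injective (QuotientGroup.mk' (Subgroup.center (symplecticGroup (Fin 3) F))) := by
    rw [← MonoidHom.ker_eq_bot_iff, QuotientGroup.ker_mk', hZ]
  refine fine_of_nonab fun hna => ?_
  refine Cfsg.Agent.H223.Bnd.Bn.of_lt6 (center_eq_bot hna) (by rw [Nat.card_congr e.toEquiv, hc]; norm_num) ?_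
  intro p m hp h11 hpT _ hR
  have h7 : 7 ≤ m := seven_le hp hpT hR hK
    ((e.symm.toMonoidHom.comp (QuotientGroup.mk' (Subgroup.center (symplecticGroup (Fin 3) F)))).comp φ)
    ((e.symm.injective.comp hmk).comp hφ)
  rw [hA]
  have h1 : p ^ 7 ≤ p ^ m := Nat.pow_le_pow_right (by omega) h7
  have h2 : 11 ^ 6 ≤ p ^ 6 := Nat.pow_le_pow_left h11 6
  have h3 : p ^ 7 = p * p ^ 6 := by ring
  have h4 : p * 11 ^ 6 ≤ p * p ^ 6 := Nat.mul_le_mul_left _ h2
  norm_num only [] at h4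
  omega

end SpSix

/-- **`PSp_2m(q)`**. -/
theorem fine_psp {T : Type u} [Group T] [Finite T] {F : Type} [Field F] [Fintype F] {m : ℕ} (hm : 2 ≤ m)
    (h2 : m = 2 → 4 ≤ Fintype.card F) (e : T ≃* Cfsg.PSp m F) : Cfsg.Agent.H223.Bnd.Bn.{u, u} T := by
  by_cases h32 : m = 3 ∧ Fintype.card F = 2
  · obtain ⟨rfl, hF⟩ := h32
    exact fine_sp6 hF e
  obtain ⟨p, hchar⟩ := CharP.exists F
  obtain ⟨k, hp, hF⟩ := FiniteField.card F p
  obtain ⟨f, hf, hkf⟩ : ∃ f : ℕ, 1 ≤ f ∧ (k : ℕ) = f := ⟨k, k.2, rfl⟩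
  rw [hkf] at hF
  have hpf : Fact p.Prime := ⟨hp⟩
  have hq2 : 2 ≤ p ^ f := by
    have := hF ▸ Fintype.one_lt_card (α := F)
    omega
  have hs : IsSimpleGroup (Cfsg.PSp m F) := Cfsg.Agent.S0270.result m hm (fun h => by have := h2 h; omega)
  have hnt : Nontrivial T := e.toEquiv.nontrivial
  have hsT : IsSimpleGroup T := IsSimpleGroup.isSimpleGroup_of_surjective e.symm.toMonoidHom e.symm.surjective
  have hcT : Nat.card T = Nat.card (Cfsg.PSp m F) := Nat.card_congr e.toEquiv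
  have hA : Nat.card (MulAut T) ≤ (p ^ f) ^ (2 * m ^ 2 + m + 1) := by
    rw [card_mulAut_congr e, Cfsg.Agent.S0814.result p f hf hF m hm (fun h => by have := h2 h; omega)]
    have h1 := card_le hF (show 1 ≤ m by omega)
    have h3 := two_f_le hp.two_le hf
    have h4 : (if m = 2 ∧ p = 2 then 2 else 1) ≤ 2 := by split_ifs <;> norm_num
    calc _ = ((if m = 2 ∧ p = 2 then 2 else 1) * f) * (Nat.gcd 2 (p ^ f - 1) * Nat.card (Cfsg.PSp m F)) := by ring
      _ ≤ (2 * f) * (p ^ f) ^ (2 * m ^ 2 + m) := Nat.mul_le_mul (Nat.mul_le_mul_right _ h4) h1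
      _ ≤ p ^ f * (p ^ f) ^ (2 * m ^ 2 + m) := Nat.mul_le_mul_right _ h3
      _ = _ := by rw [← pow_succ']
  have hM : Cfsg.HasCyclicSchurMultiplier T (Nat.gcd 2 (p ^ f - 1)) := by
    refine Cfsg.Agent.H487.HasSchurMultiplier.congr_left
      (Cfsg.Agent.S2092.result hF m hm (fun h => by have := h2 h; omega) (by rw [← hF]; exact h32)) e.symm
  have hcop : (Nat.gcd 2 (p ^ f - 1)).Coprime p := by
    refine (Nat.Coprime.symm ((Nat.Prime.coprime_iff_not_dvd hp).2 fun h => ?_))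
    have h4 := (Nat.dvd_sub_iff_right (by omega : 1 ≤ p ^ f) (dvd_pow_self p (by omega))).1 (h.trans (Nat.gcd_dvd_right _ _))
    exact hp.one_lt.ne' (Nat.dvd_one.1 h4)
  have hrT : p ∣ Nat.card T := by
    rw [hcT]
    exact dvd_card hF (by omega) hp (dvd_pow_self p (by omega))
  by_cases hp2 : p = 2
  · -- `q` even
    subst hp2
    have hnum : (2 ^ f - 1) * (2 * m ^ 2 + m + 1) + 6 ≤ 3 * (2 ^ f) ^ m := by
      refine num_even hm hq2 ?_
      rintro (h | h)
      · rw [← hF]; exact h2 h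
      · have h5 : f ≠ 1 := by
          rintro rfl
          exact h32 ⟨h, by rw [hF, pow_one]⟩
        calc 4 = 2 ^ 2 := by norm_num
          _ ≤ 2 ^ f := Nat.pow_le_pow_right (by norm_num) (by omega)
    refine fine_of_bd (r := 2) (d := (2 ^ f) ^ m - 2) hp hrT hM hcop ?_ ?_
    · intro K _ hK
      have h1 := Cfsg.Agent.H175.BdSp.bd_psp_even (F := K) hF (show 1 ≤ m by omega) (by exact_mod_cast hK) e
      refine h1.mono ?_
      omega
    · refine hA.trans (pow_le_eleven (by omega) ?_)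
      omega
  · -- `q` odd
    have hodd : Odd (p ^ f) := (hp.odd_of_ne_two hp2).pow
    have hq3 : 3 ≤ p ^ f := by
      obtain ⟨a, ha⟩ := hodd
      omega
    have hq4 : p ^ f ≠ 4 := by
      obtain ⟨a, ha⟩ := hodd
      omega
    have h9 : 9 ≤ (p ^ f) ^ m := by
      calc 9 = 3 ^ 2 := by norm_num
        _ ≤ (p ^ f) ^ 2 := Nat.pow_le_pow_left hq3 2
        _ ≤ (p ^ f) ^ m := Nat.pow_le_pow_right (by omega) hm
    refine fine_of_bd (r := p) (d := ((p ^ f) ^ m - 1) / 2 - 1) hp hrT hM hcop ?_ ?_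
    · intro K _ hK
      have h1 := Cfsg.Agent.H175.BdSp.bd_psp (F := K) hp hF (show 1 ≤ m by omega) hK e
      refine h1.mono ?_
      omega
    · by_cases h33 : m = 3 ∧ p ^ f = 3
      · obtain ⟨rfl, h3⟩ := h33
        rw [h3] at hA ⊢
        refine hA.trans ?_
        norm_num
      · have hnum := num_odd hm hq3 (fun h => by
          have h5 := h2 h
          rw [hF] at h5
          omega) h33 hq4
        refine hA.trans (pow_le_eleven' ?_)
        have ho : Odd ((p ^ f) ^ m) := hodd.pow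
        obtain ⟨b, hb⟩ := ho
        rw [hb] at hnum h9 ⊢
        have h6 : (2 * b + 1 - 1) / 2 - 1 = b - 1 := by omega
        rw [h6]
        omega

end Cfsg.Agent.H223.Bnd.H454.FinePsp
end

-- part: H223/Bnd/PspB
section
/-!
# `Fine` for `PSp_4(3)`, i.e. `PSU_4(2)` (helper831, task 766 for S4881)
-/

set_option autoImplicit false

namespace Cfsg.Agent.H223.Bnd.H831.FinePsp
universe u

open Cfsg.Agent.H698 Cfsg.Agent.H831.FineBase Cfsg.Agent.H831.FineUnit
open Cfsg.Agent.H674.SUBlock Cfsg.Agent.H674.Explicit Cfsg.Agent.H674.ExplicitCases Cfsg.Agent.H674.TwelvePSU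
open Cfsg.Agent.LieClassical Cfsg.Agent.H92

theorem card_psu42 {F : Type} [Field F] [Fintype F] (hF : Fintype.card F = 2 ^ 2) :
    Nat.card (Cfsg.PSU 4 F 2) = 25920 := by
  have h0 := Cfsg.Agent.S0280.result hF 4 (by norm_num)
  have h1 : 3 * Nat.card (Cfsg.PSU 4 F 2) = 3 * 25920 := by
    rw [show (Nat.gcd 4 (2 + 1) : ℕ) = 1 by norm_num] at h0
    have h2 : 1 * ((2 + 1) * Nat.card (Cfsg.PSU 4 F 2)) = 3 * Nat.card (Cfsg.PSU 4 F 2) := by ring
    rw [← h2, h0]
    decide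
  omega

theorem card_aut_psu42 {F : Type} [Field F] [Fintype F] (hF : Fintype.card F = 2 ^ 2) :
    Nat.card (MulAut (Cfsg.PSU 4 F 2)) = 51840 := by
  have : Fact (Nat.Prime 2) := ⟨Nat.prime_two⟩
  rw [Cfsg.Agent.S0815.result 2 1 le_rfl (q := 2) (by norm_num) hF 4 (by norm_num) (by norm_num), card_psu42 hF]
  norm_num

/-! ### elements -/

def M9 : Matrix (Fin 4) (Fin 4) F4 :=
  !![⟨0, 0⟩, ⟨0, 0⟩, ⟨0, 1⟩, ⟨0, 0⟩; ⟨1, 0⟩, ⟨0, 0⟩, ⟨0, 0⟩, ⟨0, 0⟩; ⟨0, 0⟩, ⟨1, 0⟩, ⟨0, 0⟩, ⟨0, 0⟩;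
     ⟨0, 0⟩, ⟨0, 0⟩, ⟨0, 0⟩, ⟨1, 1⟩]

def M12 : Matrix (Fin 4) (Fin 4) F4 :=
  !![⟨0, 1⟩, ⟨0, 1⟩, ⟨0, 1⟩, ⟨0, 0⟩; ⟨0, 1⟩, ⟨1, 1⟩, ⟨1, 0⟩, ⟨0, 0⟩; ⟨0, 1⟩, ⟨1, 0⟩, ⟨1, 1⟩, ⟨0, 0⟩;
     ⟨0, 0⟩, ⟨0, 0⟩, ⟨0, 0⟩, ⟨1, 0⟩]

private noncomputable def _root_.Cfsg.Agent.LsF.fd71b2d_11 : {f // @Cfsg.Agent.H223.Bnd.H831.FinePsp.M9 = f} := ⟨_, by first | (delta Cfsg.Agent.H223.Bnd.H831.FinePsp.M9; rewrite [Cfsg.Agent.LsF.mof_pat, Cfsg.Agent.LsF.vecCons_eq]; exact rfl) | exact rfl⟩
private noncomputable def _root_.Cfsg.Agent.LsF.fd71b2d_12 : {f // @Cfsg.Agent.H223.Bnd.H831.FinePsp.M12 = f} := ⟨_, by first | (delta Cfsg.Agent.H223.Bnd.H831.FinePsp.M12; rewrite [Cfsg.Agent.LsF.mof_pat, Cfsg.Agent.LsF.vecCons_eq]; exact rfl) | exact rfl⟩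
theorem good_M : good 2 M9 = true ∧ good 2 M12 = true := by (refine of_decide_eq_true ?_; (try (rewrite [Cfsg.Agent.LsF.fd71b2d_6.2, Cfsg.Agent.LsF.fd71b2d_11.2, Cfsg.Agent.LsF.fd71b2d_12.2, Cfsg.Agent.LsF.zdecEq_eq, Cfsg.Agent.LsF.dAnd_eq, Cfsg.Agent.LsF.dBoolEq_eq, Cfsg.Agent.LsF.decide_eq])); decide +kernel)
theorem sc_M : isSc (M9 ^ 9) = true ∧ isSc (M12 ^ 12) = true := by (refine of_decide_eq_true ?_; (try (rewrite [Cfsg.Agent.LsF.mpowF_pat, Cfsg.Agent.LsF.fd71b2d_10.2, Cfsg.Agent.LsF.fd71b2d_11.2, Cfsg.Agent.LsF.fd71b2d_12.2, Cfsg.Agent.LsF.zdecEq_eq, Cfsg.Agent.LsF.dAnd_eq, Cfsg.Agent.LsF.dBoolEq_eq, Cfsg.Agent.LsF.decide_eq])); decide +kernel)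
theorem nsc_M9 : ∀ k < 9, 0 < k → isSc (M9 ^ k) = false := by decide +kernel
theorem nsc_M12 : ∀ k < 12, 0 < k → isSc (M12 ^ k) = false := by (refine of_decide_eq_true ?_; (try (rewrite [Cfsg.Agent.LsF.mpowF_pat, Cfsg.Agent.LsF.fd71b2d_10.2, Cfsg.Agent.LsF.fd71b2d_12.2, Cfsg.Agent.LsF.zdecEq_eq, Cfsg.Agent.LsF.decLt_eq, Cfsg.Agent.LsF.dBoolEq_eq, Cfsg.Agent.LsF.dBallLT_eq, Cfsg.Agent.LsF.dAllP_eq, Cfsg.Agent.LsF.decide_eq])); decide +kernel)

theorem ord42 : ∀ n ∈ ({1, 2, 3, 4, 5, 6, 9, 12} : Finset ℕ), KTools.HasOrd (Cfsg.PSU 4 F4 2) n := by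
  have h9' : KTools.HasOrd (Cfsg.PSU 4 F4 2) 9 := exists_ord h4 (by norm_num) good_M.1 (by norm_num) sc_M.1 nsc_M9
  have h12 : KTools.HasOrd (Cfsg.PSU 4 F4 2) 12 := exists_ord h4 (by norm_num) good_M.2 (by norm_num) sc_M.2 nsc_M12
  intro n hn
  simp only [Finset.mem_insert, Finset.mem_singleton] at hn
  rcases hn with rfl | rfl | rfl | rfl | rfl | rfl | rfl | rfl
  · exact KTools.hasOrd_one _
  · exact h12.of_dvd (by norm_num) (by norm_num)
  · exact h12.of_dvd (by norm_num) (by norm_num)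
  · exact h12.of_dvd (by norm_num) (by norm_num)
  · exact KTools.hasOrd_prime (by norm_num) (by rw [card_psu42 h4]; norm_num)
  · exact h12.of_dvd (by norm_num) (by norm_num)
  · exact h9'
  · exact h12

theorem main {T : Type u} [Group T] [Finite T] (e : T ≃* Cfsg.PSU 4 F4 2) : Cfsg.Agent.H223.Bnd.Bn.{u, u} T := by
  have : Fact (Nat.Prime 2) := ⟨Nat.prime_two⟩
  have : Fact (Nat.Prime 3) := ⟨Nat.prime_three⟩
  have hchar : CharP F4 2 := charP_of_card_eq_prime_pow (f := 2) h4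
  have hs' : IsSimpleGroup (Cfsg.PSU 4 F4 2) := Cfsg.Agent.S0283.result h4 4 (by norm_num) (by norm_num)
  have hs : IsSimpleGroup T := MulEquiv.isSimpleGroup e
  have hcard : Nat.card T = 25920 := by rw [Nat.card_congr e.toEquiv, card_psu42 h4]
  have haut : Nat.card (MulAut T) = 51840 := by
    rw [Nat.card_congr (autCongr e).toEquiv, card_aut_psu42 h4]
  have hna : ¬ IsMulCommutative T := not_comm_of_card (by rw [hcard]; norm_num)
  have hc := center_eq_bot hna
  obtain ⟨ε⟩ := Cfsg.Agent.S0822.result (F := F4) (K := ZMod 3) (h4.trans (by norm_num)) (ZMod.card 3)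
  have hL : ∀ n ∈ ({1, 2, 3, 4, 5, 6, 9, 12} : Finset ℕ), ∃ t : T, orderOf t = n := by
    intro n hn
    obtain ⟨g, hg⟩ := ord42 n hn
    exact ⟨e.symm g, by rw [MulEquiv.orderOf_eq, hg]⟩
  intro p m hp h23 hpT hm hR
  -- the dimension
  have hm4 : 4 ≤ m := by
    obtain ⟨K, _, _, d, hd2, hdm, hPR⟩ := Cfsg.Agent.H831.FineScalar.exists_scalar hna hR
    refine le_trans ?_ hdm
    have hcast : ∀ r : ℕ, r.Prime → r ∣ Nat.card T → (r : K) ≠ 0 := by
      intro r hr hrT
      rw [Ne, CharP.cast_eq_zero_iff K p, Nat.prime_dvd_prime_iff_eq hp hr]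
      rintro rfl
      exact hpT hrT
    by_cases h3 : 3 ∣ d
    · by_contra hlt
      have hd : d = 3 := by omega
      have h5 := Cfsg.Agent.H175.BdSU.bd_psu (F := K) Nat.prime_two h4 (by norm_num)
        (hcast 2 Nat.prime_two (by rw [hcard]; norm_num)) e d (hPR 2 Nat.prime_two (by rw [hd]; norm_num))
      norm_num at h5
      omega
    · have h5 := Cfsg.Agent.H175.BdSp.bd_psp (F := K) (K := ZMod 3) (q := 3) (m := 2) Nat.prime_three (ZMod.card 3)
        (by norm_num) (hcast 3 Nat.prime_three (by rw [hcard]; norm_num)) (e.trans ε) d (hPR 3 Nat.prime_three h3)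
      norm_num at h5
      omega
  rw [haut]
  have h6 : 23 ^ 3 ≤ p ^ 3 := Nat.pow_le_pow_left h23 3
  have h7 : p ^ 3 ≤ p ^ (m - 1) := Nat.pow_le_pow_right (by omega) (by omega)
  omega

theorem fine_psu42 {T : Type u} [Group T] [Finite T] {F : Type} [Field F] [Fintype F] (hF : Fintype.card F = 2 ^ 2)
    (e : T ≃* Cfsg.PSU 4 F 2) : Cfsg.Agent.H223.Bnd.Bn.{u, u} T :=
  main (e.trans (FieldTransfer.psuCongr 4 2 (FiniteField.ringEquivOfCardEq (hF.trans h4.symm))))

theorem fine_psp43 {T : Type u} [Group T] [Finite T] {F : Type} [Field F] [Fintype F] (hF : Fintype.card F = 3)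
    (e : T ≃* Cfsg.PSp 2 F) : Cfsg.Agent.H223.Bnd.Bn.{u, u} T := by
  obtain ⟨ε⟩ := Cfsg.Agent.S0822.result (F := F4) (K := F) (h4.trans (by norm_num)) hF
  exact main (e.trans ε.symm)

end Cfsg.Agent.H223.Bnd.H831.FinePsp
end

-- part: H223/Bnd/Exc2
section
/-!
# `Fine` for `F₄(q)`, `E₆(q)`, `E₇(q)`, `E₈(q)` and `²E₆(q)`

`fine_exc2` : the groups of Lie type `F₄`, `E₆`, `E₇`, `E₈`, `²E₆` satisfy the numerical condition `Fine`.
-/

set_option autoImplicit false

universe u w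

namespace Cfsg.Agent.H223.Bnd.H656.FineExc2
open Cfsg.Lie Cfsg.Agent.H698

/-- the criterion -/
theorem fine_of_ls {T : Type u} [Group T] [Finite T] [IsSimpleGroup T] (hna : ¬ IsMulCommutative T) {r N E q : ℕ}
    (hr : r.Prime) (hrT : r ∣ Nat.card T) (hLS : Cfsg.Agent.H203.LS.LS.{u, w, w} r N T) (hq : 2 ≤ q)
    (hc : Nat.card (MulAut T) ≤ q ^ E) (hN : E * (q - 1) + 3 ≤ 3 * N) : Cfsg.Agent.H223.Bnd.Bn.{u, w} T := by
  have hcen : Subgroup.center T = ⊥ := by
    rcases IsSimpleGroup.eq_bot_or_eq_top_of_normal (Subgroup.center T) inferInstance with h | h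
    · exact h
    · exfalso
      apply hna
      refine ⟨⟨fun a b => ?_⟩⟩
      have h1 : b ∈ Subgroup.center T := by rw [h]; exact Subgroup.mem_top b
      exact Subgroup.mem_center_iff.1 h1 a
  have hT : 1 < Nat.card T := Finite.one_lt_card
  refine Cfsg.Agent.H223.Bnd.Bn.of_eleven hcen hT (d := N - 1) (fun p m hp _ hpT _ hR => ?_) ?_
  · have h := hR.le_of_LS hp hr hrT hpT hLS
    omega
  · have h1 : q ≤ 2 ^ (q - 1) := by
      have := Nat.lt_two_pow_self (n := q - 1)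
      omega
    calc Nat.card (MulAut T) ≤ q ^ E := hc
      _ ≤ (2 ^ (q - 1)) ^ E := Nat.pow_le_pow_left h1 E
      _ = 2 ^ ((q - 1) * E) := (pow_mul _ _ _).symm
      _ ≤ 2 ^ (3 * (N - 1)) := Nat.pow_le_pow_right (by norm_num) (by rw [mul_comm (q - 1)]; omega)
      _ = 8 ^ (N - 1) := by rw [pow_mul]; norm_num
      _ ≤ 11 ^ (N - 1) := Nat.pow_le_pow_left (by norm_num) _

/-- the order of the automorphism group -/
theorem card_aut {T : Type u} [Group T] [Finite T] [IsSimpleGroup T] (hna : ¬ IsMulCommutative T) {o g B : ℕ}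
    (ho : Nat.card (Cfsg.Out T) ≤ o * g) (hg : g * Nat.card T ≤ B) : Nat.card (MulAut T) ≤ o * B := by
  rw [← Cfsg.Agent.H934.OutB.card_out_mul T hna]
  calc Nat.card (Cfsg.Out T) * Nat.card T ≤ o * g * Nat.card T := Nat.mul_le_mul_right _ ho
    _ = o * (g * Nat.card T) := mul_assoc _ _ _
    _ ≤ o * B := Nat.mul_le_mul_left _ hg

theorem dvd_of {r q g c : ℕ} (hr : r.Prime) (hrq : r ∣ q) (hg : ¬ r ∣ g) {B : ℕ} (h : g * c = B) (hB : q ∣ B) :
    r ∣ c := by
  have h1 : r ∣ g * c := by rw [h]; exact hrq.trans hB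
  exact (hr.dvd_mul.1 h1).resolve_left hg

theorem not_dvd_gcd {r q a : ℕ} (hr : r.Prime) (hrq : r ∣ q) (hq : 1 ≤ q) : ¬ r ∣ Nat.gcd a (q - 1) := by
  intro h
  have h1 := h.trans (Nat.gcd_dvd_right _ _)
  have h2 := (Nat.dvd_sub hrq h1)
  rw [show q - (q - 1) = 1 by omega] at h2
  exact hr.one_lt.ne' (Nat.dvd_one.1 h2)

theorem not_dvd_gcd' {r q a : ℕ} (hr : r.Prime) (hrq : r ∣ q) : ¬ r ∣ Nat.gcd a (q + 1) := by
  intro h
  have h1 := h.trans (Nat.gcd_dvd_right _ _)
  have h2 := (Nat.dvd_sub h1 hrq)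
  rw [show q + 1 - q = 1 by omega] at h2
  exact hr.one_lt.ne' (Nat.dvd_one.1 h2)

/-- `LS` for `F₄(q)`, `q > 2` -/
theorem ls_f4 {r : ℕ} (F : Type) [Field F] [Fintype F] [CharP F r] (hF : 2 < Nat.card F) :
    Cfsg.Agent.H203.LS.LS.{0, w, w} r ((Nat.card F - 1) * Nat.card F ^ 4) (chevF4.group F) := by
  by_cases h2 : (2 : F) = 0
  · exact Cfsg.Agent.H203.LS.F4even.ls_even F h2 hF
  · exact Cfsg.Agent.H203.LS.F4odd.ls_odd F h2

theorem fine_f4_two (F : Type) [Field F] [Fintype F] (hF : Nat.card F = 2) : Cfsg.Agent.H223.Bnd.Bn.{0, w} (chevF4.group F) := by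
  obtain ⟨hs, hna⟩ := Cfsg.Agent.S1054.result (F := F) chevF4 (by simp)
  have hF' : Fintype.card F = 2 := by rw [← Nat.card_eq_fintype_card]; exact hF
  have : Fact (Nat.Prime 2) := ⟨Nat.prime_two⟩
  have : CharP F 2 := H489.charP_of Nat.prime_two (f := 1) le_rfl (by rw [hF', pow_one])
  have hcT : Nat.card ↥(chevF4.group F) = 3311126603366400 := by
    rw [S1062.result (F := F) hF']
    norm_num
  have hfin : Finite ↥(chevF4.group F) := Nat.finite_of_card_ne_zero (by omega)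
  have ho := S2122.result 2 1 (F := F) (by rw [hF', pow_one])
  have hA : Nat.card (MulAut ↥(chevF4.group F)) = 6622253206732800 := by
    rw [← Cfsg.Agent.H934.OutB.card_out_mul ↥(chevF4.group F) hna, ho, hcT]
    norm_num
  have hcen : Subgroup.center ↥(chevF4.group F) = ⊥ := by
    rcases IsSimpleGroup.eq_bot_or_eq_top_of_normal (Subgroup.center ↥(chevF4.group F)) inferInstance with h | h
    · exact h
    · exfalso
      apply hna
      refine ⟨⟨fun a b => ?_⟩⟩
      have h1 : b ∈ Subgroup.center ↥(chevF4.group F) := by rw [h]; exact Subgroup.mem_top b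
      exact Subgroup.mem_center_iff.1 h1 a
  refine Cfsg.Agent.H223.Bnd.Bn.of_lt7 hcen (by rw [hcT]; norm_num) fun p m hp h11 hpT _ hR => ?_
  have hm := hR.le_of_LS hp Nat.prime_two (by rw [hcT]; norm_num) hpT (Cfsg.Agent.H656.LSF4two.ls hF)
  rw [hA]
  rcases Nat.lt_or_ge 13 p with h13 | h13
  · have h1 : 14 ^ 14 ≤ p ^ 14 := Nat.pow_le_pow_left h13 14
    have h2 : p ^ 15 ≤ p ^ m := Nat.pow_le_pow_right (by omega) hm
    have h3 : (p - 13) * 6622253206732800 ≤ (p - 13) * p ^ 14 := Nat.mul_le_mul_left _ (le_trans (by norm_num) h1)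
    have h4 : (p - 13) * p ^ 14 + 13 * p ^ 14 = p ^ 15 := by
      rw [← add_mul, pow_succ p 14, mul_comm (p ^ 14)]
      congr 1
      omega
    have h5 : 0 < p ^ 14 := Nat.pow_pos (by omega)
    omega
  · rw [show p - 13 = 0 by omega, zero_mul, zero_add]
    exact Nat.one_lt_pow (by omega) (by omega)

/-- **`F₄(q)`** -/
theorem fine_f4 {T : Type u} [Group T] (h : IsoF4 T) : Cfsg.Agent.H223.Bnd.Bn.{u, w} T := by
  obtain ⟨F, _, _, ⟨e⟩⟩ := h
  refine Cfsg.Agent.H223.Bnd.Bn.congr ?_ e.symm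
  obtain ⟨p, f, hp, hf, hF, h2f, hq⟩ := H489.exists_pf F
  rcases Nat.lt_or_ge 2 (Fintype.card F) with h3 | h3
  swap
  · exact fine_f4_two F (by rw [Nat.card_eq_fintype_card]; omega)
  have : Fact p.Prime := ⟨hp⟩
  have := H489.charP_of hp hf hF
  obtain ⟨hs, hna⟩ := Cfsg.Agent.S1054.result (F := F) chevF4 (by simp)
  have hcT := S1062.result (F := F) rfl
  have ho := S2122.result p f hF
  have hpq : p ∣ Fintype.card F := by rw [hF]; exact dvd_pow_self p (by omega)
  have hls := ls_f4.{w} (r := p) F (by rw [Nat.card_eq_fintype_card]; exact h3)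
  rw [Nat.card_eq_fintype_card] at hls
  have hA : 4 ≤ Fintype.card F ∨ Fintype.card F = 3 := by omega
  set q := Fintype.card F
  have hdv : p ∣ Nat.card ↥(chevF4.group F) := by
    rw [hcT]
    exact hpq.trans (by (apply Dvd.dvd.mul_right; apply Dvd.dvd.mul_right; apply Dvd.dvd.mul_right; apply Dvd.dvd.mul_right; (exact dvd_pow_self _ (by norm_num))))
  have hle : 1 * Nat.card ↥(chevF4.group F) ≤ q ^ 52 := by
    rw [hcT]
    calc 1 * (q ^ 24 * (q ^ 2 - 1) * (q ^ 6 - 1) * (q ^ 8 - 1) * (q ^ 12 - 1))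
        ≤ 1 * (q ^ 24 * q ^ 2 * q ^ 6 * q ^ 8 * q ^ 12) := by gcongr <;> exact Nat.sub_le _ _
      _ = q ^ 52 := by ring
  have hfin : Finite ↥(chevF4.group F) := inferInstance
  refine fine_of_ls hna hp hdv hls hq (E := 53) ?_ ?_
  · refine (card_aut hna (o := q) (g := 1) ?_ hle).trans (by ring_nf; rfl)
    rw [ho, mul_one]
    exact (Nat.mul_le_mul_right _ (Nat.gcd_le_left _ (by norm_num))).trans h2f
  · have h4 : 3 ^ 4 ≤ q ^ 4 := Nat.pow_le_pow_left h3 4
    have h5 : (q - 1) * 3 ^ 4 ≤ (q - 1) * q ^ 4 := Nat.mul_le_mul_left _ h4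
    omega

/-- the numerical condition -/
theorem num {q k E : ℕ} (hq : 2 ≤ q) (hE : E + 3 ≤ 3 * 2 ^ k) : E * (q - 1) + 3 ≤ 3 * ((q - 1) * q ^ k) := by
  have h4 : 2 ^ k ≤ q ^ k := Nat.pow_le_pow_left hq k
  have h5 : (q - 1) * (E + 3) ≤ (q - 1) * (3 * q ^ k) := Nat.mul_le_mul_left _ (hE.trans (by omega))
  have h6 : (q - 1) * (E + 3) = E * (q - 1) + 3 * (q - 1) := by ring
  have h7 : (q - 1) * (3 * q ^ k) = 3 * ((q - 1) * q ^ k) := by ring
  omega

/-- **`E₆(q)`** -/
theorem fine_e6 {T : Type u} [Group T] (h : IsoChevE6 T) : Cfsg.Agent.H223.Bnd.Bn.{u, w} T := by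
  obtain ⟨F, _, _, ⟨e⟩⟩ := h
  refine Cfsg.Agent.H223.Bnd.Bn.congr ?_ e.symm
  obtain ⟨p, f, hp, hf, hF, h2f, hq⟩ := H489.exists_pf F
  have : Fact p.Prime := ⟨hp⟩
  have := H489.charP_of hp hf hF
  obtain ⟨hs, hna⟩ := Cfsg.Agent.S1054.result (F := F) chevE6 (by simp)
  have hcT := S1063.result (F := F) rfl
  have ho := S2123.result p f hF
  rw [← hF] at ho
  have hpq : p ∣ Fintype.card F := by rw [hF]; exact dvd_pow_self p (by omega)
  have hls := Cfsg.Agent.H203.LS.E6.ls.{0, w, w} (r := p) F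
  rw [Nat.card_eq_fintype_card] at hls
  set q := Fintype.card F
  have hdv : p ∣ Nat.card ↥(chevE6.group F) := by
    refine dvd_of hp hpq (not_dvd_gcd hp hpq (by omega)) hcT ?_
    (apply Dvd.dvd.mul_right; apply Dvd.dvd.mul_right; apply Dvd.dvd.mul_right; apply Dvd.dvd.mul_right; apply Dvd.dvd.mul_right; apply Dvd.dvd.mul_right; (exact dvd_pow_self _ (by norm_num)))
  have hle : Nat.gcd 3 (q - 1) * Nat.card ↥(chevE6.group F) ≤ q ^ 78 := by
    rw [hcT]
    calc q ^ 36 * (q ^ 2 - 1) * (q ^ 5 - 1) * (q ^ 6 - 1) * (q ^ 8 - 1) * (q ^ 9 - 1) * (q ^ 12 - 1)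
        ≤ q ^ 36 * q ^ 2 * q ^ 5 * q ^ 6 * q ^ 8 * q ^ 9 * q ^ 12 := by gcongr <;> exact Nat.sub_le _ _
      _ = q ^ 78 := by ring
  have hfin : Finite ↥(chevE6.group F) := inferInstance
  refine fine_of_ls hna hp hdv hls hq (E := 79) ?_ (num hq (by norm_num))
  refine (card_aut hna (o := q) ?_ hle).trans (by ring_nf; rfl)
  rw [ho]
  calc 2 * Nat.gcd 3 (q - 1) * f = 2 * f * Nat.gcd 3 (q - 1) := by ring
    _ ≤ q * Nat.gcd 3 (q - 1) := Nat.mul_le_mul_right _ h2f

/-- **`E₇(q)`** -/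
theorem fine_e7 {T : Type u} [Group T] (h : IsoE7 T) : Cfsg.Agent.H223.Bnd.Bn.{u, w} T := by
  obtain ⟨F, _, _, ⟨e⟩⟩ := h
  refine Cfsg.Agent.H223.Bnd.Bn.congr ?_ e.symm
  obtain ⟨p, f, hp, hf, hF, h2f, hq⟩ := H489.exists_pf F
  have : Fact p.Prime := ⟨hp⟩
  have := H489.charP_of hp hf hF
  obtain ⟨hs, hna⟩ := Cfsg.Agent.S1054.result (F := F) chevE7 (by simp)
  have hcT := S1064.result (F := F) rfl
  have ho := S2124.result p f hF
  rw [← hF] at ho
  have hpq : p ∣ Fintype.card F := by rw [hF]; exact dvd_pow_self p (by omega)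
  have hls := Cfsg.Agent.H203.LS.E7.ls.{0, w, w} (r := p) F
  rw [Nat.card_eq_fintype_card] at hls
  set q := Fintype.card F
  have hdv : p ∣ Nat.card ↥(chevE7.group F) := by
    refine dvd_of hp hpq (not_dvd_gcd hp hpq (by omega)) hcT ?_
    (apply Dvd.dvd.mul_right; apply Dvd.dvd.mul_right; apply Dvd.dvd.mul_right; apply Dvd.dvd.mul_right; apply Dvd.dvd.mul_right; apply Dvd.dvd.mul_right; apply Dvd.dvd.mul_right; (exact dvd_pow_self _ (by norm_num)))
  have hle : Nat.gcd 2 (q - 1) * Nat.card ↥(chevE7.group F) ≤ q ^ 133 := by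
    rw [hcT]
    calc q ^ 63 * (q ^ 2 - 1) * (q ^ 6 - 1) * (q ^ 8 - 1) * (q ^ 10 - 1) * (q ^ 12 - 1) * (q ^ 14 - 1) * (q ^ 18 - 1)
        ≤ q ^ 63 * q ^ 2 * q ^ 6 * q ^ 8 * q ^ 10 * q ^ 12 * q ^ 14 * q ^ 18 := by
          gcongr <;> exact Nat.sub_le _ _
      _ = q ^ 133 := by ring
  have hfin : Finite ↥(chevE7.group F) := inferInstance
  refine fine_of_ls hna hp hdv hls hq (E := 134) ?_ (num hq (by norm_num))
  refine (card_aut hna (o := q) ?_ hle).trans (by ring_nf; rfl)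
  rw [ho]
  calc Nat.gcd 2 (q - 1) * f = f * Nat.gcd 2 (q - 1) := by ring
    _ ≤ q * Nat.gcd 2 (q - 1) := Nat.mul_le_mul_right _ (by omega)

/-- **`E₈(q)`** -/
theorem fine_e8 {T : Type u} [Group T] (h : IsoE8 T) : Cfsg.Agent.H223.Bnd.Bn.{u, w} T := by
  obtain ⟨F, _, _, ⟨e⟩⟩ := h
  refine Cfsg.Agent.H223.Bnd.Bn.congr ?_ e.symm
  obtain ⟨p, f, hp, hf, hF, h2f, hq⟩ := H489.exists_pf F
  have : Fact p.Prime := ⟨hp⟩
  have := H489.charP_of hp hf hF
  obtain ⟨hs, hna⟩ := Cfsg.Agent.S1054.result (F := F) chevE8 (by simp)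
  have hcT := S1065.result (F := F) rfl
  have ho := S2125.result p f hF
  have hpq : p ∣ Fintype.card F := by rw [hF]; exact dvd_pow_self p (by omega)
  have hls := Cfsg.Agent.H203.LS.E8.ls.{0, w, w} (r := p) F
  rw [Nat.card_eq_fintype_card] at hls
  set q := Fintype.card F
  have hdv : p ∣ Nat.card ↥(chevE8.group F) := by
    rw [hcT]
    exact hpq.trans (by (apply Dvd.dvd.mul_right; apply Dvd.dvd.mul_right; apply Dvd.dvd.mul_right; apply Dvd.dvd.mul_right; apply Dvd.dvd.mul_right; apply Dvd.dvd.mul_right; apply Dvd.dvd.mul_right; apply Dvd.dvd.mul_right; (exact dvd_pow_self _ (by norm_num))))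
  have hle : 1 * Nat.card ↥(chevE8.group F) ≤ q ^ 248 := by
    rw [hcT]
    calc 1 * (q ^ 120 * (q ^ 2 - 1) * (q ^ 8 - 1) * (q ^ 12 - 1) * (q ^ 14 - 1) * (q ^ 18 - 1) * (q ^ 20 - 1) *
          (q ^ 24 - 1) * (q ^ 30 - 1))
        ≤ 1 * (q ^ 120 * q ^ 2 * q ^ 8 * q ^ 12 * q ^ 14 * q ^ 18 * q ^ 20 * q ^ 24 * q ^ 30) := by
          gcongr <;> exact Nat.sub_le _ _
      _ = q ^ 248 := by ring
  have hfin : Finite ↥(chevE8.group F) := inferInstance
  refine fine_of_ls hna hp hdv hls hq (E := 249) ?_ (num hq (by norm_num))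
  refine (card_aut hna (o := q) (g := 1) ?_ hle).trans (by ring_nf; rfl)
  rw [ho, mul_one]
  omega

/-- **`²E₆(q)`** -/
theorem fine_2e6 {T : Type u} [Group T] (h : Iso2E6 T) : Cfsg.Agent.H223.Bnd.Bn.{u, w} T := by
  obtain ⟨K, _, _, q, hqp, hK, ⟨e⟩⟩ := h
  refine Cfsg.Agent.H223.Bnd.Bn.congr ?_ e.symm
  obtain ⟨p, f, hp, hc, hf, hqf, hKf, h2f, hq⟩ := H489.exists_pf_of hqp hK (by norm_num)
  have : Fact p.Prime := ⟨hp⟩
  obtain ⟨hs, hna⟩ := Cfsg.Agent.S1070.result hqp hK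
  have hcT := S1066.result hqp hK
  have ho := S2130.result p f hKf hf
  rw [← hqf] at ho
  have hpq : p ∣ q := by rw [hqf]; exact dvd_pow_self p (by omega)
  have hls := Cfsg.Agent.H656.LSTwE6.ls.{0, w, w} (r := p) hqp hK
  have hdv : p ∣ Nat.card ↥(twistedE6 K q) := by
    refine dvd_of hp hpq (not_dvd_gcd' hp hpq) hcT ?_
    (apply Dvd.dvd.mul_right; apply Dvd.dvd.mul_right; apply Dvd.dvd.mul_right; apply Dvd.dvd.mul_right; apply Dvd.dvd.mul_right; apply Dvd.dvd.mul_right; (exact dvd_pow_self _ (by norm_num)))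
  have h1 : (q ^ 2 - 1) * (q ^ 5 + 1) ≤ q ^ 7 := by
    have e1 : (q ^ 2 - 1) * (q ^ 5 + 1) + (q ^ 5 + 1) = q ^ 2 * (q ^ 5 + 1) := by
      rw [← Nat.succ_mul]
      congr 1
      have : 0 < q ^ 2 := Nat.pow_pos (by omega)
      omega
    have e2 : q ^ 2 * (q ^ 5 + 1) = q ^ 7 + q ^ 2 := by ring
    have e3 : q ^ 2 ≤ q ^ 5 := Nat.pow_le_pow_right (by omega) (by norm_num)
    omega
  have h2 : (q ^ 6 - 1) * (q ^ 9 + 1) ≤ q ^ 15 := by
    have e1 : (q ^ 6 - 1) * (q ^ 9 + 1) + (q ^ 9 + 1) = q ^ 6 * (q ^ 9 + 1) := by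
      rw [← Nat.succ_mul]
      congr 1
      have : 0 < q ^ 6 := Nat.pow_pos (by omega)
      omega
    have e2 : q ^ 6 * (q ^ 9 + 1) = q ^ 15 + q ^ 6 := by ring
    have e3 : q ^ 6 ≤ q ^ 9 := Nat.pow_le_pow_right (by omega) (by norm_num)
    omega
  have hle : Nat.gcd 3 (q + 1) * Nat.card ↥(twistedE6 K q) ≤ q ^ 78 := by
    rw [hcT]
    calc q ^ 36 * (q ^ 2 - 1) * (q ^ 5 + 1) * (q ^ 6 - 1) * (q ^ 8 - 1) * (q ^ 9 + 1) * (q ^ 12 - 1)
        = q ^ 36 * ((q ^ 2 - 1) * (q ^ 5 + 1)) * ((q ^ 6 - 1) * (q ^ 9 + 1)) * (q ^ 8 - 1) * (q ^ 12 - 1) := by ring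
      _ ≤ q ^ 36 * q ^ 7 * q ^ 15 * q ^ 8 * q ^ 12 := by
          refine Nat.mul_le_mul (Nat.mul_le_mul (Nat.mul_le_mul (Nat.mul_le_mul le_rfl h1) h2) ?_) ?_ <;>
            exact Nat.sub_le _ _
      _ = q ^ 78 := by ring
  have hfin : Finite ↥(twistedE6 K q) := inferInstance
  refine fine_of_ls hna hp hdv hls hq (E := 79) ?_ ?_
  · refine (card_aut hna (o := q) ?_ hle).trans (by ring_nf; rfl)
    rw [ho]
    calc 2 * Nat.gcd 3 (q + 1) * f = 2 * f * Nat.gcd 3 (q + 1) := by ring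
      _ ≤ q * Nat.gcd 3 (q + 1) := Nat.mul_le_mul_right _ h2f
  · have h5 : 2 ^ 5 ≤ q ^ 5 := Nat.pow_le_pow_left hq 5
    have h6 : q * 2 ^ 5 ≤ q * q ^ 5 := Nat.mul_le_mul_left _ h5
    have h7 : q * q ^ 5 = q ^ 6 := by ring
    omega

/-- **Task 769** -/
theorem fine_exc2 {T : Type u} [Group T] [Finite T] (h : Cfsg.Lie.IsoF4 T ∨ Cfsg.Lie.IsoChevE6 T ∨ Cfsg.Lie.IsoE7 T ∨
    Cfsg.Lie.IsoE8 T ∨ Cfsg.Lie.Iso2E6 T) : Cfsg.Agent.H223.Bnd.Bn.{u, u} T := by
  rcases h with h | h | h | h | h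
  · exact fine_f4 h
  · exact fine_e6 h
  · exact fine_e7 h
  · exact fine_e8 h
  · exact fine_2e6 h

end Cfsg.Agent.H223.Bnd.H656.FineExc2
end

-- part: H223/Bnd/SporA
section
/-!
# `Fine` for the sporadic groups, first part (task 1138, for S4881)
-/

set_option autoImplicit false
set_option linter.unusedSectionVars false

namespace Cfsg.Agent.H223.Bnd.H123.FineSpor
open Cfsg Cfsg.Agent.H698

universe u

variable {T : Type u} [Group T] [Finite T]

theorem not_comm_of_card {n : ℕ} (hs : IsSimpleGroup T) (hn : Nat.card T = n) (hp : ¬ n.Prime) :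
    ¬ IsMulCommutative T := by
  intro h
  apply hp
  rw [← hn]
  let _ : CommGroup T := { (inferInstance : Group T) with mul_comm := fun a b => h.is_comm.comm a b }
  exact IsSimpleGroup.prime_card

/-- the lower bound for the degree -/
theorem le_deg [IsSimpleGroup T] {N s M p m : ℕ} (hN : Nat.card T = N) (hna : ¬ IsMulCommutative T) (hs : s.Prime)
    (hsM : s + 1 = 2 * M) (h1 : s ∣ N) (h2 : ¬ s ^ 2 ∣ N) (h3 : s * (s ^ 2 - 1) ≠ 2 * N) (hp : p.Prime)
    (hR : Rep.{u, u} p m T) : M ≤ m := by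
  obtain ⟨h4, h5⟩ := H831.RepLift.prime_le hna hp hR hs (by rw [hN]; exact h1)
  by_contra hlt
  have h6 : s = 2 * m + 1 := by omega
  obtain ⟨e⟩ := h5 h6 (by rw [hN]; exact h2)
  have : Fact s.Prime := ⟨hs⟩
  have h7 := CTwoTab.card_psl_two (F := ZMod s) (by rw [ZMod.card, h6]; exact odd_two_mul_add_one m)
  rw [ZMod.card, ← Nat.card_congr e.toEquiv, hN] at h7
  exact h3 h7

theorem aut_le {N : ℕ} (hN : Nat.card T = N) {c : ℕ} (hidx : (MulAut.conj : T →* MulAut T).range.index ≤ c) :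
    Nat.card (MulAut T) ≤ c * N := by
  have h1 := Subgroup.card_mul_index (MulAut.conj : T →* MulAut T).range
  have h2 : Nat.card ↥(MulAut.conj : T →* MulAut T).range ≤ N := by
    rw [← hN]
    exact Nat.card_le_card_of_surjective _ (MonoidHom.rangeRestrict_surjective (MulAut.conj : T →* MulAut T))
  rw [← h1, mul_comm c]
  exact Nat.mul_le_mul h2 hidx

theorem num {c A p M m P : ℕ} (hp : p.Prime) (hM : 2 ≤ M) (hm : M ≤ m) (hc : 1 ≤ c)
    (hlow : p < P → (p - c) * A + 1 < p ^ M) (hhigh : A ≤ P ^ (M - 1)) {B : ℕ} (hB : B ≤ A) :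
    (p - c) * B + 1 < p ^ m := by
  have hpm : p ^ M ≤ p ^ m := Nat.pow_le_pow_right hp.pos hm
  have h0 : (p - c) * B ≤ (p - c) * A := Nat.mul_le_mul_left _ hB
  rcases lt_or_ge p P with h | h
  · have := hlow h
    omega
  · have h1 : P ^ (M - 1) ≤ p ^ (M - 1) := Nat.pow_le_pow_left h _
    have h2 : p * p ^ (M - 1) = p ^ M := by
      rw [← pow_succ']
      congr 1
      omega
    have h3 : (p - c) * A ≤ (p - c) * p ^ (M - 1) := Nat.mul_le_mul_left _ (hhigh.trans h1)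
    have h5 : p ≤ p ^ (M - 1) := by
      calc p = p ^ 1 := (pow_one p).symm
        _ ≤ p ^ (M - 1) := Nat.pow_le_pow_right hp.pos (by omega)
    have h6 := hp.two_le
    rcases le_or_gt c p with h7 | h7
    · have h4 : (p - c) * p ^ (M - 1) + c * p ^ (M - 1) = p * p ^ (M - 1) := by
        rw [← add_mul]
        congr 1
        omega
      have h8 : 1 * p ^ (M - 1) ≤ c * p ^ (M - 1) := Nat.mul_le_mul_right _ hc
      omega
    · have h9 : p - c = 0 := by omega
      rw [h9, zero_mul]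
      have : 1 < p ^ M := Nat.one_lt_pow (by omega) hp.one_lt
      omega

/-- the pattern, `|T|` large -/
theorem fine_of7 [IsSimpleGroup T] {N s M P c : ℕ} (hN : Nat.card T = N) (hN7 : 3263442 < N) (hnp : ¬ N.Prime) (hs : s.Prime)
    (hsM : s + 1 = 2 * M) (hM : 2 ≤ M) (h1 : s ∣ N) (h2 : ¬ s ^ 2 ∣ N) (h3 : s * (s ^ 2 - 1) ≠ 2 * N)
    (hidx : (MulAut.conj : T →* MulAut T).range.index ≤ c)
    (hlow : ∀ p, p.Prime → 11 ≤ p → ¬ p ∣ N → p < P → (p - 13) * (c * N) + 1 < p ^ M) (hhigh : c * N ≤ P ^ (M - 1)) :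
    Cfsg.Agent.H223.Bnd.Bn.{u, u} T := by
  have hna := not_comm_of_card inferInstance hN hnp
  have hcT : Subgroup.center T = ⊥ := by
    rcases (inferInstance : (Subgroup.center T).Normal).eq_bot_or_eq_top with h6 | h6
    · exact h6
    · exact absurd ⟨⟨fun a b => (Subgroup.mem_center_iff.1 (by rw [h6]; trivial : a ∈ Subgroup.center T) b).symm⟩⟩ hna
  refine Cfsg.Agent.H223.Bnd.Bn.of_lt7 hcT (by rw [hN]; exact hN7) fun p m hp h11 hpT _ hR => ?_
  exact num hp hM (le_deg hN hna hs hsM h1 h2 h3 hp hR) (by norm_num)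
    (hlow p hp h11 (by rwa [hN] at hpT)) hhigh (aut_le hN hidx)

/-- the pattern, `|T|` small -/
theorem fine_of6 [IsSimpleGroup T] {N s M P c : ℕ} (hN : Nat.card T = N) (hN7 : 1806 < N) (hnp : ¬ N.Prime) (hs : s.Prime)
    (hsM : s + 1 = 2 * M) (hM : 2 ≤ M) (h1 : s ∣ N) (h2 : ¬ s ^ 2 ∣ N) (h3 : s * (s ^ 2 - 1) ≠ 2 * N)
    (hidx : (MulAut.conj : T →* MulAut T).range.index ≤ c)
    (hlow : ∀ p, p.Prime → 11 ≤ p → ¬ p ∣ N → p < P → (p - 11) * (c * N) + 1 < p ^ M) (hhigh : c * N ≤ P ^ (M - 1)) :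
    Cfsg.Agent.H223.Bnd.Bn.{u, u} T := by
  have hna := not_comm_of_card inferInstance hN hnp
  have hcT : Subgroup.center T = ⊥ := by
    rcases (inferInstance : (Subgroup.center T).Normal).eq_bot_or_eq_top with h6 | h6
    · exact h6
    · exact absurd ⟨⟨fun a b => (Subgroup.mem_center_iff.1 (by rw [h6]; trivial : a ∈ Subgroup.center T) b).symm⟩⟩ hna
  refine Cfsg.Agent.H223.Bnd.Bn.of_lt6 hcT (by rw [hN]; exact hN7) fun p m hp h11 hpT _ hR => ?_
  exact num hp hM (le_deg hN hna hs hsM h1 h2 h3 hp hR) (by norm_num)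
    (hlow p hp h11 (by rwa [hN] at hpT)) hhigh (aut_le hN hidx)

section

variable [IsSimpleGroup T]

theorem m11 (hidx : (MulAut.conj : T →* MulAut T).range.index ≤ 2) (h : Spor.IsoM11 T) : Cfsg.Agent.H223.Bnd.Bn.{u, u} T := by
  refine fine_of6 (s := 11) (M := 6) (P := 13) (NotCT.Orders.m11 h) (by norm_num) (by norm_num) (by norm_num) (by norm_num)
    (by norm_num) (by norm_num) (by norm_num) (by norm_num) hidx ?_ (by norm_num)
  intro p hp h11 hd hP
  interval_cases p <;> revert hp hd <;> norm_num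

theorem m12 (hidx : (MulAut.conj : T →* MulAut T).range.index ≤ 2) (h : Spor.IsoM12 T) : Cfsg.Agent.H223.Bnd.Bn.{u, u} T := by
  refine fine_of6 (s := 11) (M := 6) (P := 13) (NotCT.Orders.m12 h) (by norm_num) (by norm_num) (by norm_num) (by norm_num)
    (by norm_num) (by norm_num) (by norm_num) (by norm_num) hidx ?_ (by norm_num)
  intro p hp h11 hd hP
  interval_cases p <;> revert hp hd <;> norm_num

theorem m22 (hidx : (MulAut.conj : T →* MulAut T).range.index ≤ 2) (h : Spor.IsoM22 T) : Cfsg.Agent.H223.Bnd.Bn.{u, u} T := by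
  refine fine_of6 (s := 11) (M := 6) (P := 17) (NotCT.Orders.m22 h) (by norm_num) (by norm_num) (by norm_num) (by norm_num)
    (by norm_num) (by norm_num) (by norm_num) (by norm_num) hidx ?_ (by norm_num)
  intro p hp h11 hd hP
  interval_cases p <;> revert hp hd <;> norm_num

theorem m23 (hidx : (MulAut.conj : T →* MulAut T).range.index ≤ 2) (h : Spor.IsoM23 T) : Cfsg.Agent.H223.Bnd.Bn.{u, u} T := by
  refine fine_of7 (s := 23) (M := 12) (P := 11) (NotCT.Orders.m23 h) (by norm_num) (by norm_num) (by norm_num) (by norm_num)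
    (by norm_num) (by norm_num) (by norm_num) (by norm_num) hidx ?_ (by norm_num)
  intro p hp h11 hd hP
  omega

theorem m24 (hidx : (MulAut.conj : T →* MulAut T).range.index ≤ 2) (h : Spor.IsoM24 T) : Cfsg.Agent.H223.Bnd.Bn.{u, u} T := by
  refine fine_of7 (s := 23) (M := 12) (P := 11) (NotCT.Orders.m24 h) (by norm_num) (by norm_num) (by norm_num) (by norm_num)
    (by norm_num) (by norm_num) (by norm_num) (by norm_num) hidx ?_ (by norm_num)
  intro p hp h11 hd hP
  omega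

theorem j1 (hidx : (MulAut.conj : T →* MulAut T).range.index ≤ 2) (h : Spor.IsoJ1 T) : Cfsg.Agent.H223.Bnd.Bn.{u, u} T := by
  refine fine_of6 (s := 19) (M := 10) (P := 11) (NotCT.Orders.j1 h) (by norm_num) (by norm_num) (by norm_num) (by norm_num)
    (by norm_num) (by norm_num) (by norm_num) (by norm_num) hidx ?_ (by norm_num)
  intro p hp h11 hd hP
  omega

theorem j3 (hidx : (MulAut.conj : T →* MulAut T).range.index ≤ 2) (h : Spor.IsoJ3 T) : Cfsg.Agent.H223.Bnd.Bn.{u, u} T := by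
  refine fine_of7 (s := 19) (M := 10) (P := 11) (NotCT.Orders.j3 h) (by norm_num) (by norm_num) (by norm_num) (by norm_num)
    (by norm_num) (by norm_num) (by norm_num) (by norm_num) hidx ?_ (by norm_num)
  intro p hp h11 hd hP
  omega

theorem j4 (hidx : (MulAut.conj : T →* MulAut T).range.index ≤ 2) (h : Spor.IsoJ4 T) : Cfsg.Agent.H223.Bnd.Bn.{u, u} T := by
  refine fine_of7 (s := 43) (M := 22) (P := 11) (NotCT.Orders.j4 h) (by norm_num) (by norm_num) (by norm_num) (by norm_num)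
    (by norm_num) (by norm_num) (by norm_num) (by norm_num) hidx ?_ (by norm_num)
  intro p hp h11 hd hP
  omega

theorem co2 (hidx : (MulAut.conj : T →* MulAut T).range.index ≤ 2) (h : Spor.IsoCo2 T) : Cfsg.Agent.H223.Bnd.Bn.{u, u} T := by
  refine fine_of7 (s := 23) (M := 12) (P := 19) (NotCT.Orders.co2 h) (by norm_num) (by norm_num) (by norm_num) (by norm_num)
    (by norm_num) (by norm_num) (by norm_num) (by norm_num) hidx ?_ (by norm_num)
  intro p hp h11 hd hP
  interval_cases p <;> revert hp hd <;> norm_num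

theorem co3 (hidx : (MulAut.conj : T →* MulAut T).range.index ≤ 2) (h : Spor.IsoCo3 T) : Cfsg.Agent.H223.Bnd.Bn.{u, u} T := by
  refine fine_of7 (s := 23) (M := 12) (P := 17) (NotCT.Orders.co3 h) (by norm_num) (by norm_num) (by norm_num) (by norm_num)
    (by norm_num) (by norm_num) (by norm_num) (by norm_num) hidx ?_ (by norm_num)
  intro p hp h11 hd hP
  interval_cases p <;> revert hp hd <;> norm_num

theorem he (hidx : (MulAut.conj : T →* MulAut T).range.index ≤ 2) (h : Spor.IsoHe T) : Cfsg.Agent.H223.Bnd.Bn.{u, u} T := by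
  refine fine_of7 (s := 17) (M := 9) (P := 19) (NotCT.Orders.he h) (by norm_num) (by norm_num) (by norm_num) (by norm_num)
    (by norm_num) (by norm_num) (by norm_num) (by norm_num) hidx ?_ (by norm_num)
  intro p hp h11 hd hP
  interval_cases p <;> revert hp hd <;> norm_num

theorem ru (hidx : (MulAut.conj : T →* MulAut T).range.index ≤ 2) (h : Spor.IsoRu T) : Cfsg.Agent.H223.Bnd.Bn.{u, u} T := by
  refine fine_of7 (s := 29) (M := 15) (P := 11) (NotCT.Orders.ru h) (by norm_num) (by norm_num) (by norm_num) (by norm_num)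
    (by norm_num) (by norm_num) (by norm_num) (by norm_num) hidx ?_ (by norm_num)
  intro p hp h11 hd hP
  omega

theorem on (hidx : (MulAut.conj : T →* MulAut T).range.index ≤ 2) (h : Spor.IsoON T) : Cfsg.Agent.H223.Bnd.Bn.{u, u} T := by
  refine fine_of7 (s := 31) (M := 16) (P := 11) (NotCT.Orders.on h) (by norm_num) (by norm_num) (by norm_num) (by norm_num)
    (by norm_num) (by norm_num) (by norm_num) (by norm_num) hidx ?_ (by norm_num)
  intro p hp h11 hd hP
  omega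

theorem ly (hidx : (MulAut.conj : T →* MulAut T).range.index ≤ 2) (h : Spor.IsoLy T) : Cfsg.Agent.H223.Bnd.Bn.{u, u} T := by
  refine fine_of7 (s := 67) (M := 34) (P := 11) (NotCT.Orders.ly h) (by norm_num) (by norm_num) (by norm_num) (by norm_num)
    (by norm_num) (by norm_num) (by norm_num) (by norm_num) hidx ?_ (by norm_num)
  intro p hp h11 hd hP
  omega

theorem th (hidx : (MulAut.conj : T →* MulAut T).range.index ≤ 2) (h : Spor.IsoTh T) : Cfsg.Agent.H223.Bnd.Bn.{u, u} T := by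
  refine fine_of7 (s := 31) (M := 16) (P := 17) (NotCT.Orders.th h) (by norm_num) (by norm_num) (by norm_num) (by norm_num)
    (by norm_num) (by norm_num) (by norm_num) (by norm_num) hidx ?_ (by norm_num)
  intro p hp h11 hd hP
  interval_cases p <;> revert hp hd <;> norm_num

theorem b (hidx : (MulAut.conj : T →* MulAut T).range.index ≤ 1) (h : Spor.IsoB T) : Cfsg.Agent.H223.Bnd.Bn.{u, u} T := by
  refine fine_of7 (s := 47) (M := 24) (P := 29) (NotCT.Orders.b h) (by norm_num) (by norm_num) (by norm_num) (by norm_num)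
    (by norm_num) (by norm_num) (by norm_num) (by norm_num) hidx ?_ (by norm_num)
  intro p hp h11 hd hP
  interval_cases p <;> revert hp hd <;> norm_num

theorem m (hidx : (MulAut.conj : T →* MulAut T).range.index ≤ 2) (h : Spor.IsoM T) : Cfsg.Agent.H223.Bnd.Bn.{u, u} T := by
  refine fine_of7 (s := 71) (M := 36) (P := 37) (NotCT.Orders.m h) (by norm_num) (by norm_num) (by norm_num) (by norm_num)
    (by norm_num) (by norm_num) (by norm_num) (by norm_num) hidx ?_ (by norm_num)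
  intro p hp h11 hd hP
  interval_cases p <;> revert hp hd <;> norm_num

end

theorem index_b (h : Spor.IsoB T) : (MulAut.conj : T →* MulAut T).range.index ≤ 1 := by
  obtain ⟨e⟩ := h
  rw [H498.SporOut.index_congr e]
  exact S2084.result.le

/-- the sporadic groups of task 1138 -/
theorem fine_spor1 (h : Spor.IsoM11 T ∨ Spor.IsoM12 T ∨ Spor.IsoM22 T ∨ Spor.IsoM23 T ∨ Spor.IsoM24 T ∨ Spor.IsoJ1 T ∨
    Spor.IsoJ3 T ∨ Spor.IsoJ4 T ∨ Spor.IsoCo2 T ∨ Spor.IsoCo3 T ∨ Spor.IsoHe T ∨ Spor.IsoRu T ∨ Spor.IsoON T ∨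
    Spor.IsoLy T ∨ Spor.IsoTh T ∨ Spor.IsoB T ∨ Spor.IsoM T) : Cfsg.Agent.H223.Bnd.Bn.{u, u} T := by
  have hsp : IsSporadicGroup T := by
    unfold IsSporadicGroup
    (solve | grind only | itauto)
  have hs : IsSimpleGroup T := Cfsg.Agent.H123.SporSimple.spor_simple hsp
  have hi := H498.SporOut.index_le_two hsp
  rcases h with h | h | h | h | h | h | h | h | h | h | h | h | h | h | h | h | h
  · exact m11 hi h
  · exact m12 hi h
  · exact m22 hi h
  · exact m23 hi h
  · exact m24 hi h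
  · exact j1 hi h
  · exact j3 hi h
  · exact j4 hi h
  · exact co2 hi h
  · exact co3 hi h
  · exact he hi h
  · exact ru hi h
  · exact on hi h
  · exact ly hi h
  · exact th hi h
  · exact b (index_b h) h
  · exact m hi h

end Cfsg.Agent.H223.Bnd.H123.FineSpor
end

-- part: H223/Bnd/All
section
/-!
# The condition `Fine` for all known simple groups (assembly)
-/

set_option autoImplicit false

namespace Cfsg.Agent.H223.Bnd.H698.FineAll
open Cfsg

universe u

/-- The rows which are stated separately. -/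
structure Rest : Prop where
  exc2 : ∀ {T : Type u} [Group T] [Finite T], Lie.IsoF4 T ∨ Lie.IsoChevE6 T ∨ Lie.IsoE7 T ∨ Lie.IsoE8 T ∨ Lie.Iso2E6 T →
    Cfsg.Agent.H223.Bnd.Bn.{u, u} T
  spor1 : ∀ {T : Type u} [Group T] [Finite T], Spor.IsoM11 T ∨ Spor.IsoM12 T ∨ Spor.IsoM22 T ∨ Spor.IsoM23 T ∨
    Spor.IsoM24 T ∨ Spor.IsoJ1 T ∨ Spor.IsoJ3 T ∨ Spor.IsoJ4 T ∨ Spor.IsoCo2 T ∨ Spor.IsoCo3 T ∨ Spor.IsoHe T ∨
    Spor.IsoRu T ∨ Spor.IsoON T ∨ Spor.IsoLy T ∨ Spor.IsoTh T ∨ Spor.IsoB T ∨ Spor.IsoM T → Cfsg.Agent.H223.Bnd.Bn.{u, u} T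
  spor2 : ∀ {T : Type u} [Group T] [Finite T], Spor.IsoJ2 T ∨ Spor.IsoHS T ∨ Spor.IsoMcL T ∨ Spor.IsoCo1 T ∨
    Spor.IsoSuz T ∨ Spor.IsoFi22 T ∨ Spor.IsoFi23 T ∨ Spor.IsoFi24' T ∨ Spor.IsoHN T → Cfsg.Agent.H223.Bnd.Bn.{u, u} T

theorem fine_of_known (R : Rest.{u}) {T : Type u} [Group T] [Finite T] (hna : ¬ IsMulCommutative T)
    (h : IsKnownSimple' T) : Cfsg.Agent.H223.Bnd.Bn.{u, u} T := by
  rcases h with h | h | h | h | h | h | h | h | h | h
  · exfalso
    apply hna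
    have : Fact (Nat.card T).Prime := ⟨h⟩
    have hc : IsCyclic T := isCyclic_of_prime_card rfl
    exact ⟨⟨fun a b => (IsCyclic.commGroup (α := T)).mul_comm a b⟩⟩
  · exact H656.FineAlt.fine_alt h
  · obtain ⟨F, _, _, n, hn, hn2, ⟨e⟩⟩ := h
    rcases Nat.lt_or_ge n 3 with h3 | h3
    · have h2 : n = 2 := by omega
      subst h2
      by_cases h9 : Fintype.card F = 9
      · obtain ⟨g⟩ := S0254.result h9
        exact H656.FineAlt.fine_alt ⟨6, by norm_num, ⟨e.trans g⟩⟩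
      · exact H680.fine_psl2 (hn2 rfl) h9 e
    · by_cases h34 : n = 3 ∧ Fintype.card F = 4
      · obtain ⟨rfl, hF⟩ := h34
        exact H831.FineLin.fine_l34 hF e
      · by_cases h42 : n = 4 ∧ Fintype.card F = 2
        · obtain ⟨rfl, hF⟩ := h42
          obtain ⟨g⟩ := S0256.result hF
          exact H656.FineAlt.fine_alt ⟨8, by norm_num, ⟨e.trans g⟩⟩
        · exact H454.FinePsl.fine_psl h3 h34 h42 e
  · obtain ⟨F, _, _, m, hm, hm2, ⟨e⟩⟩ := h
    by_cases h23 : m = 2 ∧ Fintype.card F = 3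
    · obtain ⟨rfl, hF⟩ := h23
      exact H831.FinePsp.fine_psp43 hF e
    · refine H454.FinePsp.fine_psp hm (fun h2 => ?_) e
      have := hm2 h2
      have h4 : Fintype.card F ≠ 3 := fun h => h23 ⟨h2, h⟩
      omega
  · obtain ⟨F, _, _, n, q, hF, hn, h32, ⟨e⟩⟩ := h
    by_cases h42 : n = 4 ∧ q = 2
    · obtain ⟨rfl, rfl⟩ := h42
      exact H831.FinePsp.fine_psu42 hF e
    · by_cases h43 : n = 4 ∧ q = 3
      · obtain ⟨rfl, rfl⟩ := h43
        exact H831.FineUSix.fine_u43 hF e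
      · by_cases h62 : n = 6 ∧ q = 2
        · obtain ⟨rfl, rfl⟩ := h62
          exact H831.FineUSix.fine_u62 hF e
        · exact H454.FinePsu.fine_psu hF hn h32 h42 h43 h62 e
  · exact H315.FineOrth.fine_omega (Or.inl h)
  · exact H315.FineOrth.fine_omega (Or.inr (Or.inl h))
  · exact H315.FineOrth.fine_omega (Or.inr (Or.inr h))
  · rcases h with h | h | h | h | h | h | h | h | h | h | h
    · exact H762.FineExc.fine_exc1 (Or.inl h)
    · exact R.exc2 (Or.inl h)
    · exact R.exc2 (Or.inr (Or.inl h))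
    · exact R.exc2 (Or.inr (Or.inr (Or.inl h)))
    · exact R.exc2 (Or.inr (Or.inr (Or.inr (Or.inl h))))
    · exact R.exc2 (Or.inr (Or.inr (Or.inr (Or.inr h))))
    · exact H762.FineExc.fine_exc1 (Or.inr (Or.inl h))
    · exact H762.FineExc.fine_exc1 (Or.inr (Or.inr (Or.inl h)))
    · exact H762.FineExc.fine_exc1 (Or.inr (Or.inr (Or.inr (Or.inl h))))
    · exact H762.FineExc.fine_exc1 (Or.inr (Or.inr (Or.inr (Or.inr (Or.inl h)))))
    · exact H762.FineExc.fine_exc1 (Or.inr (Or.inr (Or.inr (Or.inr (Or.inr h)))))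
  · have h1 := R.spor1 (T := T)
    have h2 := R.spor2 (T := T)
    rcases h with h | h | h | h | h | h | h | h | h | h | h | h | h | h | h | h | h | h | h | h | h | h | h | h | h | h
    · exact h1 (by (clear * - h; tauto))
    · exact h1 (by (clear * - h; tauto))
    · exact h1 (by (clear * - h; tauto))
    · exact h1 (by (clear * - h; (solve | repeat (first | with_reducible assumption | exact Or.inl (by with_reducible assumption) | refine Or.inr ?_) | simp only [h, true_or, or_true])))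
    · exact h1 (by (clear * - h; (solve | repeat (first | with_reducible assumption | exact Or.inl (by with_reducible assumption) | refine Or.inr ?_) | tauto)))
    · exact h1 (by (clear * - h; (solve | repeat (first | with_reducible assumption | exact Or.inl (by with_reducible assumption) | refine Or.inr ?_) | simp only [h, true_or, or_true])))
    · exact h2 (by (clear * - h; tauto))
    · exact h1 (by (clear * - h; (solve | repeat (first | with_reducible assumption | exact Or.inl (by with_reducible assumption) | refine Or.inr ?_) | simp only [h, true_or, or_true])))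
    · exact h1 (by (clear * - h; (solve | repeat (first | with_reducible assumption | exact Or.inl (by with_reducible assumption) | refine Or.inr ?_) | simp only [h, true_or, or_true])))
    · exact h2 (by (clear * - h; (solve | repeat (first | with_reducible assumption | exact Or.inl (by with_reducible assumption) | refine Or.inr ?_) | tauto)))
    · exact h1 (by (clear * - h; (solve | repeat (first | with_reducible assumption | exact Or.inl (by with_reducible assumption) | refine Or.inr ?_) | simp only [h, true_or, or_true])))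
    · exact h1 (by (clear * - h; (solve | repeat (first | with_reducible assumption | exact Or.inl (by with_reducible assumption) | refine Or.inr ?_) | simp only [h, true_or, or_true])))
    · exact h2 (by (clear * - h; tauto))
    · exact h2 (by (clear * - h; tauto))
    · exact h2 (by (clear * - h; tauto))
    · exact h1 (by (clear * - h; (solve | repeat (first | with_reducible assumption | exact Or.inl (by with_reducible assumption) | refine Or.inr ?_) | simp only [h, true_or, or_true])))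
    · exact h1 (by (clear * - h; (solve | repeat (first | with_reducible assumption | exact Or.inl (by with_reducible assumption) | refine Or.inr ?_) | simp only [h, true_or, or_true])))
    · exact h1 (by (clear * - h; (solve | repeat (first | with_reducible assumption | exact Or.inl (by with_reducible assumption) | refine Or.inr ?_) | simp only [h, true_or, or_true])))
    · exact h1 (by (clear * - h; (solve | repeat (first | with_reducible assumption | exact Or.inl (by with_reducible assumption) | refine Or.inr ?_) | simp only [h, true_or, or_true])))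
    · exact h2 (by (clear * - h; (solve | repeat (first | with_reducible assumption | exact Or.inl (by with_reducible assumption) | refine Or.inr ?_) | simp only [h, true_or, or_true])))
    · exact h2 (by (clear * - h; (solve | repeat (first | with_reducible assumption | exact Or.inl (by with_reducible assumption) | refine Or.inr ?_) | simp only [h, true_or, or_true])))
    · exact h2 (by (clear * - h; (solve | repeat (first | with_reducible assumption | exact Or.inl (by with_reducible assumption) | refine Or.inr ?_) | simp only [h, true_or, or_true])))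
    · exact h2 (by (clear * - h; (solve | repeat (first | with_reducible assumption | exact Or.inl (by with_reducible assumption) | refine Or.inr ?_) | simp only [h, true_or, or_true])))
    · exact h1 (by (clear * - h; (solve | repeat (first | with_reducible assumption | exact Or.inl (by with_reducible assumption) | refine Or.inr ?_) | simp only [h, true_or, or_true])))
    · exact h1 (by (clear * - h; (solve | repeat (first | with_reducible assumption | exact Or.inl (by with_reducible assumption) | refine Or.inr ?_) | simp only [h, true_or, or_true])))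
    · exact h1 (by (clear * - h; (solve | repeat (first | with_reducible assumption | exact Or.inl (by with_reducible assumption) | refine Or.inr ?_) | simp only [h, true_or, or_true])))

theorem rest : Rest.{u} where
  exc2 h := H656.FineExc2.fine_exc2 h
  spor1 h := H123.FineSpor.fine_spor1 h
  spor2 h := H128.FineSpor.fine_spor2 h

end Cfsg.Agent.H223.Bnd.H698.FineAll
end

-- part: H223/Bnd/Main
section
/-!
# S4790, T8: the order bound for all nonabelian finite simple groups (helper223)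
-/

set_option autoImplicit false

namespace Cfsg.Agent.H223.Bnd

universe u

/-- **T8**, the corrected form: `|Aut T| ≤ 6 p ^ (m - 1)` if `T` has a projective representation of dimension `m ≥ 3` in the
coprime characteristic `p ≥ 23`. -/
theorem bnd (T : Type u) [Group T] [Finite T] [IsSimpleGroup T] (h : ¬ IsMulCommutative T) :
    ∀ p m : ℕ, p.Prime → 23 ≤ p → ¬ p ∣ Nat.card T → 3 ≤ m → Cfsg.Agent.H698.Rep.{u, u} p m T →
      Nat.card (MulAut T) ≤ 6 * p ^ (m - 1) :=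
  Cfsg.Agent.H223.Bnd.H698.FineAll.fine_of_known Cfsg.Agent.H223.Bnd.H698.FineAll.rest h Cfsg.Agent.S0000.result

end Cfsg.Agent.H223.Bnd
end

private theorem dce_1805367ac9ad : _root_.True := by
  try have : _root_.True := by simp only [_root_.Cfsg.Agent.H203.BdSL2.lo.eq_1]
  try have : _root_.True := by simp only [_root_.Cfsg.Agent.H223.Bnd.H831.FineLin.ss.eq_1]
  try have : _root_.True := by simp only [_root_.Matrix.ProjGenLinGroup.congr_simp]
  exact _root_.True.intro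
end
end
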